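import Cfsg.Agent.H25.InvolutionTransfer

/-!
Thompson transfer, with control of the involutions that are only fused inside the subgroup of index
two.
-/

set_option autoImplicit false

namespace Cfsg.Agent.H70.AltEight

open Subgroup

universe u

variable {G : Type u} [Group G] [Finite G]

theorem sum_two_of_sq {α : Type*} [Fintype α] [DecidableEq α] (σ : Equiv.Perm α) (h : σ * σ = 1) :
    σ.cycleType = Multiset.replicate (Multiset.card σ.cycleType) 2 := by
  refine Multiset.eq_replicate_card.mpr fun c hc => ?_
  have h1 := Equiv.Perm.dvd_of_mem_cycleType hc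
  have h2 : orderOf σ ∣ 2 := orderOf_dvd_of_pow_eq_one (by rw [pow_two]; exact h)
  exact ((Nat.dvd_prime Nat.prime_two).mp (h1.trans h2)).resolve_left
    (Equiv.Perm.one_lt_of_mem_cycleType hc).ne'

/-- Thompson transfer. -/
theorem transfer_strong (P : Sylow 2 G) (Q : Subgroup G)
    (hQP : Q ≤ (P : Subgroup G)) (hQi : Q.relIndex (P : Subgroup G) = 2) (u : G)
    (hu : orderOf u = 2)
    (hno : ∀ g : G, g * u * g⁻¹ ∉ Q) :
    ∃ M : Subgroup G, M.Normal ∧ M.index = 2 ∧ u ∉ M ∧
      ∀ e : G, e * e = 1 → (∀ g : G, g * e * g⁻¹ ∈ (P : Subgroup G) → g * e * g⁻¹ ∈ Q) → e ∈ M := by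
  classical
  have := Fintype.ofFinite (G ⧸ Q)
  have := Fintype.ofFinite (G ⧸ (P : Subgroup G))
  let f : G →* ℤˣ := Equiv.Perm.sign.comp (MulAction.toPermHom G (G ⧸ Q))
  have hfix : ∀ q : G ⧸ Q, u • q ≠ q := by
    intro q
    induction q using QuotientGroup.induction_on with
    | H g =>
      intro he
      rw [MulAction.Quotient.smul_mk, QuotientGroup.eq] at he
      have := Q.inv_mem he
      exact hno g⁻¹ (by simpa [smul_eq_mul, mul_assoc] using this)
  have hm : ¬ 2 ∣ (P : Subgroup G).index := P.not_dvd_index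
  have hcard : Nat.card (G ⧸ Q) = 2 * (P : Subgroup G).index := by
    rw [← index_eq_card, ← relIndex_mul_index hQP, hQi]
  have hu2 : u * u = 1 := by
    have := pow_orderOf_eq_one u
    rwa [hu, pow_two] at this
  have hfu : f u = -1 := by
    set σ := MulAction.toPermHom G (G ⧸ Q) u with hσ
    have hsupp : σ.support = Finset.univ := by
      ext q; simp [hσ, hfix q]
    have hrep := sum_two_of_sq σ (by rw [hσ, ← map_mul, hu2, map_one])
    set k := Multiset.card σ.cycleType with hk
    have hkm : k = (P : Subgroup G).index := by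
      have h1 := Equiv.Perm.sum_cycleType σ
      rw [hrep, Multiset.sum_replicate, smul_eq_mul, hsupp, Finset.card_univ,
        ← Nat.card_eq_fintype_card, hcard] at h1
      omega
    change Equiv.Perm.sign σ = -1
    rw [Equiv.Perm.sign_of_cycleType, hrep, Multiset.sum_replicate, Multiset.card_replicate,
      hkm, smul_eq_mul, pow_add, pow_mul']
    norm_num [Odd.neg_one_pow (Nat.odd_iff.mpr (by omega : (P : Subgroup G).index % 2 = 1))]
  refine ⟨f.ker, inferInstance, ?_, ?_, fun e he hfus => ?_⟩
  · rw [index_ker, MonoidHom.range_eq_top.mpr, card_top, Nat.card_eq_fintype_card,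
      Fintype.card_units_int]
    intro z
    rcases Int.units_eq_one_or z with rfl | rfl
    · exact ⟨1, map_one f⟩
    · exact ⟨u, hfu⟩
  · rw [MonoidHom.mem_ker, hfu]
    decide
  · -- an involution fused only inside Q acts evenly
    set σ := MulAction.toPermHom G (G ⧸ Q) e with hσ
    set τ := MulAction.toPermHom G (G ⧸ (P : Subgroup G)) e with hτ
    let E := quotientEquivProdOfLE hQP
    have hE : ∀ q : G ⧸ Q, (E (e • q)).1 = e • (E q).1 := by
      intro q
      induction q using QuotientGroup.induction_on with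
      | H g => rfl
    have hmoved : ∀ q : G ⧸ Q, e • q = q ↔ e • (E q).1 = (E q).1 := by
      intro q
      refine ⟨fun h => by rw [← hE, h], fun h => ?_⟩
      induction q using QuotientGroup.induction_on with
      | H g =>
        have h' : e • (g : G ⧸ (P : Subgroup G)) = (g : G ⧸ (P : Subgroup G)) := h
        rw [MulAction.Quotient.smul_mk, QuotientGroup.eq] at h' ⊢
        have hg := (P : Subgroup G).inv_mem h'
        have := Q.inv_mem (hfus g⁻¹ (by simpa [smul_eq_mul, mul_assoc] using hg))
        simpa [smul_eq_mul, mul_assoc] using this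
    have hσcard : Nat.card {q : G ⧸ Q // e • q ≠ q} = 2 * Nat.card {q : G ⧸ (P : Subgroup G) // e • q ≠ q} := by
      have h1 : Nat.card {q : G ⧸ Q // e • q ≠ q} =
          Nat.card {p : (G ⧸ (P : Subgroup G)) × (P : Subgroup G) ⧸ Q.subgroupOf P // e • p.1 ≠ p.1} :=
        Nat.card_congr (E.subtypeEquiv fun q => not_congr (hmoved q))
      rw [h1, Nat.card_congr (Equiv.subtypeProdEquivSigmaSubtype
        (fun (a : G ⧸ (P : Subgroup G)) (_ : (P : Subgroup G) ⧸ Q.subgroupOf P) => e • a ≠ a))]
      rw [Nat.card_sigma]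
      have h2 : ∀ a : G ⧸ (P : Subgroup G), Nat.card {_b : (P : Subgroup G) ⧸ Q.subgroupOf P //
          e • a ≠ a} = if e • a ≠ a then 2 else 0 := by
        intro a
        split_ifs with h
        · rw [Nat.card_congr (Equiv.subtypeUnivEquiv fun _ => h), ← index_eq_card]
          exact hQi
        · have : IsEmpty {_b : (P : Subgroup G) ⧸ Q.subgroupOf P // e • a ≠ a} := ⟨fun b => h b.2⟩
          exact Nat.card_of_isEmpty
      rw [Finset.sum_congr rfl (fun a _ => h2 a), ← Finset.sum_filter, Finset.sum_const, smul_eq_mul,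
        Nat.card_eq_fintype_card, Fintype.card_subtype, mul_comm]
    have hσs : σ.support.card = Nat.card {q : G ⧸ Q // e • q ≠ q} := by
      rw [Nat.card_eq_fintype_card, Fintype.card_subtype]
      congr 1
    have hτs : τ.support.card = Nat.card {q : G ⧸ (P : Subgroup G) // e • q ≠ q} := by
      rw [Nat.card_eq_fintype_card, Fintype.card_subtype]
      congr 1
    have hrσ := sum_two_of_sq σ (by rw [hσ, ← map_mul, he, map_one])
    have hrτ := sum_two_of_sq τ (by rw [hτ, ← map_mul, he, map_one])
    have h1 := Equiv.Perm.sum_cycleType σ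
    have h2 := Equiv.Perm.sum_cycleType τ
    rw [hrσ, Multiset.sum_replicate, smul_eq_mul, hσs, hσcard, ← hτs, ← h2, hrτ,
      Multiset.sum_replicate, smul_eq_mul] at h1
    rw [MonoidHom.mem_ker]
    change Equiv.Perm.sign σ = 1
    rw [Equiv.Perm.sign_of_cycleType, hrσ, Multiset.sum_replicate, Multiset.card_replicate,
      smul_eq_mul]
    have hev : Even (Multiset.card σ.cycleType * 2 + Multiset.card σ.cycleType) := by
      refine Even.add ⟨_, (mul_two _)⟩ ⟨Multiset.card τ.cycleType, by omega⟩
    exact hev.neg_one_pow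

end Cfsg.Agent.H70.AltEight
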