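import Cfsg.Agent.H70.AltEight.CentW
import Cfsg.Agent.H70.AltEight.Transfer

/-!
The centraliser of an involution moving four letters, and the conclusion.
-/

set_option autoImplicit false
set_option maxRecDepth 20000
set_option synthInstance.maxSize 512

namespace Cfsg.Agent.H70.AltEight

open Equiv Equiv.Perm Subgroup Eight

universe u

/-- Two involutions are conjugate or have a common commuting involution. -/
theorem two_involutions {Q : Type u} [Group Q] [Finite Q] (x y : Q) (hx : x * x = 1) (hy : y * y = 1) :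
    IsConj x y ∨ ∃ m : ℕ, (x * y) ^ m ≠ 1 ∧ (x * y) ^ m * (x * y) ^ m = 1 ∧
      x * (x * y) ^ m = (x * y) ^ m * x ∧ y * (x * y) ^ m = (x * y) ^ m * y := by
  have hxi : x⁻¹ = x := inv_eq_of_mul_eq_one_right hx
  have hyi : y⁻¹ = y := inv_eq_of_mul_eq_one_right hy
  set d := x * y with hd
  have hdi : d⁻¹ = y * x := by rw [hd, mul_inv_rev, hxi, hyi]
  have hpx : ∀ k : ℕ, x * d ^ k * x⁻¹ = (d ^ k)⁻¹ := fun k => by
    rw [← conj_pow, show x * d * x⁻¹ = d⁻¹ by rw [hdi, hd, hxi, ← mul_assoc, hx, one_mul], inv_pow]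
  have hpy : ∀ k : ℕ, y * d ^ k * y⁻¹ = (d ^ k)⁻¹ := fun k => by
    rw [← conj_pow, show y * d * y⁻¹ = d⁻¹ by rw [hdi, hd, hyi, mul_assoc, mul_assoc, hy, mul_one],
      inv_pow]
  rcases Nat.even_or_odd (orderOf d) with ⟨m, hm⟩ | ⟨m, hm⟩
  · right
    have h2 : d ^ m * d ^ m = 1 := by rw [← pow_add, ← hm, pow_orderOf_eq_one]
    have hinv : (d ^ m)⁻¹ = d ^ m := inv_eq_of_mul_eq_one_right h2
    refine ⟨m, fun h => ?_, h2, ?_, ?_⟩
    · have h1 := orderOf_dvd_of_pow_eq_one h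
      have hpos := orderOf_pos d
      have := Nat.le_of_dvd (by omega) h1
      omega
    · have := hpx m
      rwa [hinv, mul_inv_eq_iff_eq_mul] at this
    · have := hpy m
      rwa [hinv, mul_inv_eq_iff_eq_mul] at this
  · left
    have h1 : d ^ (2 * m + 1) = 1 := by rw [← hm, pow_orderOf_eq_one]
    refine isConj_iff.2 ⟨d ^ m, ?_⟩
    have hcx : x * (d ^ m)⁻¹ = d ^ m * x := by
      have := hpx m
      rw [mul_inv_eq_iff_eq_mul] at this
      rw [← hxi] at this ⊢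
      calc x⁻¹ * (d ^ m)⁻¹ = x⁻¹ * ((d ^ m)⁻¹ * x⁻¹) * x := by group
        _ = x⁻¹ * (x⁻¹ * d ^ m) * x := by rw [← this]
        _ = (x * x)⁻¹ * (d ^ m * x) := by group
        _ = _ := by rw [hx, inv_one, one_mul, hxi]
    have h3 : d ^ m * d ^ m = d⁻¹ := by
      rw [eq_inv_iff_mul_eq_one, ← pow_add, ← pow_succ, ← h1]; congr 1; omega
    calc d ^ m * x * (d ^ m)⁻¹ = d ^ m * (x * (d ^ m)⁻¹) := by group
      _ = (d ^ m * d ^ m) * x := by rw [hcx, mul_assoc]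
      _ = y := by rw [h3, hdi, mul_assoc, hx, mul_one]

theorem u_facts : ∀ i, cu i * w8 = w8 * cu i → cu i * cu i = 1 → Fpf (cu i) →
    (∀ j, cu j * w8 = w8 * cu j → cu i * cu j = cu j * cu i) → cu i = w8 := by decide +kernel

theorem u_w_count : Fintype.card {i // cu i * w8 = w8 * cu i} = 32 := by decide +kernel

theorem u_inj : Function.Injective cu := by decide +kernel

theorem S_facts : (∀ s, cS s * u8 = u8 * cS s ∧ cS s * w8 = w8 * cS s ∧ cS s * cS s = 1) ∧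
    (∀ s t, cS s * cS t = cS t * cS s) ∧ (∀ s, ∃ i, cu i = cS s) := by
  refine ⟨?_, ?_, ?_⟩ <;> decide +kernel

theorem S_inj : Function.Injective cS := by decide +kernel

theorem S_complete : ∀ i, (∀ s, cu i * cS s = cS s * cu i) → ∃ s, cS s = cu i := by decide +kernel

theorem S_small : ∀ s, ¬ Fpf (cS s) → ¬ Fpf (cS s * u8) →
    cS s = 1 ∨ cS s = u8 ∨ cS s = v8 ∨ cS s = u8 * v8 := by decide +kernel

theorem S_swap : ∀ s, cS s ≠ 1 → cS s ≠ u8 →
    (∃ i, cu i * cS s * (cu i)⁻¹ = cS s * u8) ∨ ¬ (Fpf (cS s) ↔ Fpf (cS s * u8)) := by decide +kernel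

theorem outside_facts : ∀ i, cu i * w8 = w8 * cu i → ¬ (∀ s, cu i * cS s = cS s * cu i) →
    cu i * cu i = 1 → ¬ Fpf (cu i) ∧ ¬ Fpf (cu i * u8) ∧ cu i ≠ u8 ∧ cu i ≠ 1 ∧
      Fintype.card {j // cu j * w8 = w8 * cu j ∧ cu j * cu i = cu i * cu j} ≤ 8 := by decide +kernel

theorem outside_prod : ∀ i, cu i * w8 = w8 * cu i → ¬ (∀ s, cu i * cS s = cS s * cu i) →
    ∀ s, cu i * f2 * cS s = cS s * (cu i * f2) := by decide +kernel

theorem V_fpf : ∀ i, cv i * cv i = 1 → Fpf (cv i) → i.2 = 0 := by decide +kernel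

theorem y_shape : ∀ i, i.2.2 = 0 → cu i * cu i = 1 → ¬ Fpf (cu i) → ¬ Fpf (cu i * u8) →
    cu i ≠ 1 → cu i ≠ u8 → cu i = v8 ∨ cu i = v8 * u8 := by decide +kernel

theorem more_facts : f1 * u8 = w8 ∧ u8 * u8 = 1 ∧ u8 ≠ 1 ∧ (∃ s, cS s = f1) ∧ (∃ s, cS s = v8) ∧
    (∀ s, f2 ≠ cS s) ∧ f2 * f2 = 1 ∧ f2 ≠ 1 ∧ f2 * u8 = u8 * f2 ∧ f2 * w8 = w8 * f2 ∧
    ¬ Fpf u8 ∧ ¬ Fpf v8 ∧ ¬ Fpf f1 ∧ v8 * u8 * (v8 * u8) = 1 ∧ v8 * u8 ≠ 1 ∧ ¬ Fpf (v8 * u8) ∧
    v8 ≠ u8 ∧ f1 ≠ u8 ∧ f1 ≠ 1 ∧ v8 ≠ 1 ∧ f1 * f1 = 1 ∧ v8 * v8 = 1 := by decide +kernel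

theorem z8_facts : z8 * u8 = u8 * z8 ∧ z8 * z8 * z8 = 1 := by decide +kernel

theorem cu_one (j : (Fin 2 × Fin 2 × Fin 2 × Fin 2) × Fin 3 × Fin 2) (h : j.2.2 = 1) :
    cu j = cS j.1 * z8 ^ (j.2.1 : ℕ) * f2 := by simp [cu, bit, h]

namespace Ctx

variable {G : Type u} [Group G] [Finite G] (c : Ctx G)

/-- The centraliser of every fixed-point-free involution of the image lies in the image. -/
theorem cent_fpf {a : A8} (h2 : a * a = 1) (hf : Fpf a) {g : G} (hg : g * c.φ a = c.φ a * g) :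
    g ∈ c.φ.range := by
  have h1 : a ≠ 1 := fun h => hf 0 (by rw [h]; rfl)
  obtain ⟨h, hh⟩ := isConj_iff.1 ((involution_class a h2 h1).resolve_right fun e => e.1 hf).2
  have hk : (c.φ h)⁻¹ * g * c.φ h * c.φ w8 = c.φ w8 * ((c.φ h)⁻¹ * g * c.φ h) := by
    rw [← hh, map_mul, map_mul, map_inv] at hg
    calc (c.φ h)⁻¹ * g * c.φ h * c.φ w8
        = (c.φ h)⁻¹ * (g * (c.φ h * c.φ w8 * (c.φ h)⁻¹)) * c.φ h := by group
      _ = _ := by rw [hg]; group
  obtain ⟨i, hi⟩ := c.cent_w hk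
  refine ⟨h * cw i * h⁻¹, ?_⟩
  rw [map_mul, map_mul, map_inv, hi]
  group

omit [Finite G] in
theorem conj_fpf_false {g : G} {a b : A8} (ha2 : a * a = 1) (ha1 : a ≠ 1) (hb2 : b * b = 1)
    (hb1 : b ≠ 1) [Finite G] (h : g * c.φ a * g⁻¹ = c.φ b) : Fpf a ↔ Fpf b := by
  rw [c.fpf_iff ha2 ha1, c.fpf_iff hb2 hb1]
  have hc : IsConj (c.φ a) (c.φ b) := isConj_iff.2 ⟨g, h⟩
  exact ⟨fun e => e.trans hc, fun e => e.trans hc.symm⟩

/-- The conjugators of `e` into `{e, e u}` inside the centraliser of `u`. -/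
theorem normalizes_small {s : Fin 2 × Fin 2 × Fin 2 × Fin 2} (h1 : cS s ≠ 1) (hu : cS s ≠ u8) {h : G}
    (hhu : h * c.φ u8 = c.φ u8 * h)
    (hh : h * c.φ (cS s) * h⁻¹ = c.φ (cS s) ∨ h * c.φ (cS s) * h⁻¹ = c.φ (cS s * u8)) :
    h ∈ c.φ.range := by
  obtain ⟨hSu, -, hS2⟩ := S_facts.1 s
  have hfix : ∀ k : G, k * c.φ u8 = c.φ u8 * k → k * c.φ (cS s) = c.φ (cS s) * k → k ∈ c.φ.range := by
    intro k k1 k2
    by_cases hf : Fpf (cS s)
    · exact c.cent_fpf hS2 hf k2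
    by_cases hf' : Fpf (cS s * u8)
    · refine c.cent_fpf ?_ hf' ?_
      · rw [mul_assoc, ← mul_assoc u8, ← hSu, mul_assoc (cS s) u8, more_facts.2.1, mul_one, hS2]
      · rw [map_mul, ← mul_assoc, k2, mul_assoc, k1, mul_assoc]
    rcases S_small s hf hf' with e | e | e | e
    · exact absurd e h1
    · exact absurd e hu
    · rw [e] at k2
      obtain ⟨i, hi⟩ := c.cent_V k1 k2
      exact ⟨cv i, hi⟩
    · rw [e, map_mul] at k2
      have k3 : k * c.φ v8 = c.φ v8 * k := by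
        have h2 : c.φ u8 * c.φ u8 = 1 := by rw [← map_mul, more_facts.2.1, map_one]
        calc k * c.φ v8 = (c.φ u8 * c.φ u8) * (k * c.φ v8) := by rw [h2, one_mul]
          _ = c.φ u8 * ((c.φ u8 * k) * c.φ v8) := by group
          _ = c.φ u8 * (k * (c.φ u8 * c.φ v8)) := by rw [← k1]; group
          _ = (c.φ u8 * c.φ u8) * c.φ v8 * k := by rw [k2]; group
          _ = _ := by rw [h2, one_mul]
      obtain ⟨i, hi⟩ := c.cent_V k1 k3
      exact ⟨cv i, hi⟩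
  rcases hh with e | e
  · exact hfix h hhu (mul_inv_eq_iff_eq_mul.1 e)
  · rcases S_swap s h1 hu with ⟨i, hi⟩ | hne
    · set k := (c.φ (cu i))⁻¹ * h with hk
      have hcu : c.φ (cu i) * c.φ u8 = c.φ u8 * c.φ (cu i) := c.map_comm (cu_facts i)
      have k1 : k * c.φ u8 = c.φ u8 * k := by
        rw [hk, mul_assoc, hhu, ← mul_assoc, (Commute.inv_left (show Commute _ _ from hcu)).eq, mul_assoc]
      have k2 : k * c.φ (cS s) = c.φ (cS s) * k := by
        apply mul_inv_eq_iff_eq_mul.1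
        calc k * c.φ (cS s) * k⁻¹ = (c.φ (cu i))⁻¹ * (h * c.φ (cS s) * h⁻¹) * c.φ (cu i) := by
              rw [hk]; group
          _ = _ := by rw [e, ← hi, map_mul, map_mul, map_inv]; group
      obtain ⟨a, ha⟩ := hfix k k1 k2
      exact ⟨cu i * a, by rw [map_mul, ha, hk]; group⟩
    · exfalso
      refine hne (c.conj_fpf_false hS2 h1 ?_ ?_ e)
      · rw [mul_assoc, ← mul_assoc u8, ← hSu, mul_assoc (cS s) u8, more_facts.2.1, mul_one, hS2]
      · intro h'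
        exact hu ((mul_eq_one_iff_eq_inv.1 h').trans (inv_eq_of_mul_eq_one_right more_facts.2.1))

/-- No involution outside the group of order sixteen is fused into it in the centraliser of `u`. -/
theorem no_fusion {g : G} (hgu : g * c.φ u8 = c.φ u8 * g)
    {i : (Fin 2 × Fin 2 × Fin 2 × Fin 2) × Fin 3 × Fin 2} (hiw : cu i * w8 = w8 * cu i)
    (hiS : ¬ ∀ s, cu i * cS s = cS s * cu i) (hi2 : cu i * cu i = 1)
    (s : Fin 2 × Fin 2 × Fin 2 × Fin 2) : g * c.φ (cS s) * g⁻¹ ≠ c.φ (cu i) := by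
  classical
  intro hg
  obtain ⟨hp, hpu, hpu', hp1, hcard⟩ := outside_facts i hiw hiS hi2
  obtain ⟨hSu, hSw, hS2⟩ := S_facts.1 s
  have hs1 : cS s ≠ 1 := fun h => hp1 (c.inj (by rw [← hg, h, map_one]; group))
  have hgu' : g * c.φ u8 * g⁻¹ = c.φ u8 := mul_inv_eq_iff_eq_mul.2 hgu
  have hsu : cS s ≠ u8 := fun h => hpu' (c.inj (by rw [← hg, h, hgu']))
  have hsne : cS s * u8 ≠ 1 := fun h' =>
    hsu ((mul_eq_one_iff_eq_inv.1 h').trans (inv_eq_of_mul_eq_one_right more_facts.2.1))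
  have hsu2 : cS s * u8 * (cS s * u8) = 1 := by
    rw [mul_assoc, ← mul_assoc u8, ← hSu, mul_assoc (cS s) u8, more_facts.2.1, mul_one, hS2]
  have hg' : g * c.φ (cS s * u8) * g⁻¹ = c.φ (cu i * u8) := by
    rw [map_mul, map_mul, ← hg, ← mul_assoc]
    calc g * c.φ (cS s) * c.φ u8 * g⁻¹ = g * c.φ (cS s) * g⁻¹ * (g * c.φ u8 * g⁻¹) := by group
      _ = _ := by rw [hgu']
  have hiu2 : cu i * u8 * (cu i * u8) = 1 := by
    rw [mul_assoc, ← mul_assoc u8, ← cu_facts i, mul_assoc (cu i) u8, more_facts.2.1, mul_one, hi2]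
  have hiu1 : cu i * u8 ≠ 1 := fun h' =>
    hpu' ((mul_eq_one_iff_eq_inv.1 h').trans (inv_eq_of_mul_eq_one_right more_facts.2.1))
  have hf1 : ¬ Fpf (cS s) := fun h => hp ((c.conj_fpf_false hS2 hs1 hi2 hp1 hg).1 h)
  have hf2 : ¬ Fpf (cS s * u8) := fun h => hpu ((c.conj_fpf_false hsu2 hsne hiu2 hiu1 hg').1 h)
  -- pull back w
  set k := g⁻¹ * c.φ w8 * g with hk
  have hku : k * c.φ u8 = c.φ u8 * k := by
    have hwu : c.φ w8 * c.φ u8 = c.φ u8 * c.φ w8 := c.map_comm small_facts.2.2.1.symm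
    calc k * c.φ u8 = g⁻¹ * c.φ w8 * (g * c.φ u8) := by rw [hk]; group
      _ = g⁻¹ * (c.φ w8 * c.φ u8) * g := by rw [hgu]; group
      _ = g⁻¹ * c.φ u8 * (c.φ w8 * g) := by rw [hwu]; group
      _ = g⁻¹ * (g * c.φ u8 * g⁻¹) * (c.φ w8 * g) := by rw [hgu']
      _ = _ := by rw [hk]; group
  have hks : k * c.φ (cS s) = c.φ (cS s) * k := by
    have hwi : c.φ w8 * c.φ (cu i) = c.φ (cu i) * c.φ w8 := c.map_comm hiw.symm
    calc k * c.φ (cS s) = g⁻¹ * (c.φ w8 * (g * c.φ (cS s) * g⁻¹)) * g := by rw [hk]; group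
      _ = g⁻¹ * ((g * c.φ (cS s) * g⁻¹) * c.φ w8) * g := by rw [hg, hwi]
      _ = _ := by rw [hk]; group
  have hkV : k * c.φ v8 = c.φ v8 * k := by
    rcases S_small s hf1 hf2 with e | e | e | e
    · exact absurd e hs1
    · exact absurd e hsu
    · rwa [e] at hks
    · rw [e, map_mul] at hks
      have h2 : c.φ u8 * c.φ u8 = 1 := by rw [← map_mul, more_facts.2.1, map_one]
      calc k * c.φ v8 = (c.φ u8 * c.φ u8) * (k * c.φ v8) := by rw [h2, one_mul]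
        _ = c.φ u8 * ((c.φ u8 * k) * c.φ v8) := by group
        _ = c.φ u8 * (k * (c.φ u8 * c.φ v8)) := by rw [← hku]; group
        _ = (c.φ u8 * c.φ u8) * c.φ v8 * k := by rw [hks]; group
        _ = _ := by rw [h2, one_mul]
  obtain ⟨j, hj⟩ := c.cent_V hku hkV
  have hconjw : g * c.φ (cv j) * g⁻¹ = c.φ w8 := by rw [hj, hk]; group
  have hw2 : w8 * w8 = 1 := small_facts.2.2.2.1
  have hw1 : w8 ≠ 1 := by decide +kernel
  have hj2 : cv j * cv j = 1 := c.inj (by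
    rw [map_mul, hj, hk, map_one,
      show g⁻¹ * c.φ w8 * g * (g⁻¹ * c.φ w8 * g) = g⁻¹ * (c.φ w8 * c.φ w8) * g by group, ← map_mul,
      hw2, map_one]
    group)
  have hj1 : cv j ≠ 1 := fun h => hw1 (c.inj (by rw [← hconjw, h, map_one]; group))
  have hjf : Fpf (cv j) := (c.conj_fpf_false hj2 hj1 hw2 hw1 hconjw).2 small_facts.2.2.2.2.2.2.2.2.2.2.2.1
  have hj0 := V_fpf j hj2 hjf
  have hjS : cv j = cS j.1 := by rw [cv, hj0]; simp
  -- sixteen elements inside a group of order eight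
  have hmap : ∀ t, ∃ l : {l // cu l * w8 = w8 * cu l ∧ cu l * cu i = cu i * cu l},
      c.φ (cu l.1) = g * c.φ (cS t) * g⁻¹ := by
    intro t
    have ht1 : g * c.φ (cS t) * g⁻¹ * c.φ u8 = c.φ u8 * (g * c.φ (cS t) * g⁻¹) := by
      conv_lhs => rw [← hgu']
      conv_rhs => rw [← hgu']
      calc g * c.φ (cS t) * g⁻¹ * (g * c.φ u8 * g⁻¹) = g * (c.φ (cS t) * c.φ u8) * g⁻¹ := by group
        _ = g * (c.φ u8 * c.φ (cS t)) * g⁻¹ := by rw [c.map_comm (S_facts.1 t).1]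
        _ = _ := by group
    have ht2 : g * c.φ (cS t) * g⁻¹ * c.φ w8 = c.φ w8 * (g * c.φ (cS t) * g⁻¹) := by
      rw [← hconjw, hjS]
      calc g * c.φ (cS t) * g⁻¹ * (g * c.φ (cS j.1) * g⁻¹)
          = g * (c.φ (cS t) * c.φ (cS j.1)) * g⁻¹ := by group
        _ = g * (c.φ (cS j.1) * c.φ (cS t)) * g⁻¹ := by rw [c.map_comm (S_facts.2.1 t j.1)]
        _ = _ := by group
    have ht3 : g * c.φ (cS t) * g⁻¹ * c.φ (cu i) = c.φ (cu i) * (g * c.φ (cS t) * g⁻¹) := by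
      rw [← hg]
      calc g * c.φ (cS t) * g⁻¹ * (g * c.φ (cS s) * g⁻¹)
          = g * (c.φ (cS t) * c.φ (cS s)) * g⁻¹ := by group
        _ = g * (c.φ (cS s) * c.φ (cS t)) * g⁻¹ := by rw [c.map_comm (S_facts.2.1 t s)]
        _ = _ := by group
    obtain ⟨l, hl⟩ := c.cent_w ht2
    rw [← hl] at ht1 ht2 ht3 ⊢
    obtain ⟨l', hl'⟩ := cu_complete (cw l) (c.inv_comm ht1)
    exact ⟨⟨l', hl' ▸ c.inv_comm ht2, hl' ▸ c.inv_comm ht3⟩, by rw [hl']⟩
  choose L hL using hmap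
  have hinj : Function.Injective L := fun a b h => by
    have e : g * c.φ (cS a) * g⁻¹ = g * c.φ (cS b) * g⁻¹ := by rw [← hL a, ← hL b, h]
    exact S_inj (c.inj (mul_left_cancel (mul_right_cancel e)))
  have := Nat.card_le_card_of_injective L hinj
  simp only [Nat.card_eq_fintype_card, Fintype.card_prod, Fintype.card_fin] at this
  omega

/-- The centraliser of `u` in `G`. -/
abbrev Ku : Subgroup G := centralizer {c.φ u8}

/-- An element of the image inside the centraliser of `u`. -/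
def ku (a : A8) (h : a * u8 = u8 * a) : c.Ku := ⟨c.φ a, mem_centralizer_singleton_iff.2 (c.map_comm h)⟩

omit [Finite G] in
theorem ku_mul (a b : A8) (ha : a * u8 = u8 * a) (hb : b * u8 = u8 * b) (hab) :
    c.ku a ha * c.ku b hb = c.ku (a * b) hab := Subtype.ext (map_mul c.φ a b).symm

/-- A normal subgroup of index two with Sylow subgroup of order sixteen. -/
theorem exists_index_two : ∃ M : Subgroup c.Ku, M.Normal ∧ M.index = 2 ∧
    c.ku f2 more_facts.2.2.2.2.2.2.2.2.1 ∉ M ∧ ∀ s, c.ku (cS s) (S_facts.1 s).1 ∈ M := by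
  classical
  have : Fact (Nat.Prime 2) := ⟨Nat.prime_two⟩
  obtain ⟨hfu, hu2, hu1, hSf1, hSv, hf2S, hf22, hf21, hf2u, hf2w, hrest⟩ := more_facts
  let PA : Subgroup A8 := centralizer {u8, w8}
  have hPA : ∀ a, a ∈ PA ↔ a * u8 = u8 * a ∧ a * w8 = w8 * a := fun a => by
    simp [PA, mem_centralizer_iff, eq_comm]
  let κ : PA →* c.Ku := (c.φ.comp PA.subtype).codRestrict c.Ku fun a =>
    mem_centralizer_singleton_iff.2 (c.map_comm ((hPA a.1).1 a.2).1)
  have hκ : Function.Injective κ := fun a b h => Subtype.ext (c.inj (congrArg Subtype.val h))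
  have hPAcard : Nat.card PA = 32 := by
    let f : {i // cu i * w8 = w8 * cu i} → PA := fun i => ⟨cu i.1, (hPA _).2 ⟨cu_facts _, i.2⟩⟩
    have hf : Function.Bijective f := ⟨fun a b h => Subtype.ext (u_inj (congrArg Subtype.val h)),
      fun a => by
        obtain ⟨i, hi⟩ := cu_complete a.1 ((hPA _).1 a.2).1
        exact ⟨⟨i, hi ▸ ((hPA _).1 a.2).2⟩, Subtype.ext hi⟩⟩
    rw [← Nat.card_eq_of_bijective f hf, Nat.card_eq_fintype_card, u_w_count]
  obtain ⟨P, hP⟩ := (show IsPGroup 2 κ.range by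
    rw [MonoidHom.range_eq_map]
    exact ((IsPGroup.of_card (n := 5) hPAcard).to_subgroup ⊤).map κ).exists_le_sylow
  -- the model group is already a Sylow subgroup
  have hPeq : (P : Subgroup c.Ku) = κ.range := by
    refine le_antisymm ?_ hP
    by_contra hne
    let R : Subgroup (P : Subgroup c.Ku) := κ.range.subgroupOf P
    have hRtop : R ≠ ⊤ := fun h => hne (subgroupOf_eq_top.1 h)
    have := P.2.isNilpotent
    obtain ⟨r, hrN, hrR⟩ := SetLike.exists_of_lt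
      (Group.normalizerCondition_of_isNilpotent R (lt_top_iff_ne_top.2 hRtop))
    have hconjmem : ∀ a : PA, ∃ b : PA, κ b = (r : c.Ku) * κ a * (r : c.Ku)⁻¹ := fun a => by
      have := (mem_normalizer_iff.1 hrN ⟨κ a, hP ⟨a, rfl⟩⟩).1 (⟨a, rfl⟩ : κ a ∈ κ.range)
      exact this
    have hwPA : w8 ∈ PA := (hPA _).2 ⟨small_facts.2.2.1.symm, rfl⟩
    obtain ⟨b, hb⟩ := hconjmem ⟨w8, hwPA⟩
    set g : G := ((r : c.Ku) : G) with hg
    have hbw : c.φ (b : A8) = g * c.φ w8 * g⁻¹ := congrArg Subtype.val hb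
    have hball : ∀ a : PA, (b : A8) * a = a * b := by
      intro a
      apply c.inj
      have hr' : (r : (P : Subgroup c.Ku))⁻¹ ∈ normalizer (R : Set _) := inv_mem hrN
      obtain ⟨a', ha'⟩ : ∃ a' : PA, κ a' = (r : c.Ku)⁻¹ * κ a * ((r : c.Ku)⁻¹)⁻¹ :=
        (mem_normalizer_iff.1 hr' ⟨κ a, hP ⟨a, rfl⟩⟩).1 (⟨a, rfl⟩ : κ a ∈ κ.range)
      have ha'' : c.φ (a' : A8) = g⁻¹ * c.φ (a : A8) * g⁻¹⁻¹ := congrArg Subtype.val ha'
      have hcomm : c.φ w8 * c.φ (a' : A8) = c.φ (a' : A8) * c.φ w8 :=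
        c.map_comm ((hPA _).1 a'.2).2.symm
      rw [ha'', inv_inv] at hcomm
      rw [map_mul, map_mul, hbw]
      calc g * c.φ w8 * g⁻¹ * c.φ (a : A8) = g * (c.φ w8 * (g⁻¹ * c.φ (a : A8) * g)) * g⁻¹ := by group
        _ = g * ((g⁻¹ * c.φ (a : A8) * g) * c.φ w8) * g⁻¹ := by rw [hcomm]
        _ = _ := by group
    obtain ⟨i, hi⟩ := cu_complete (b : A8) ((hPA _).1 b.2).1
    have hb2 : (b : A8) * b = 1 := c.inj (by
      rw [map_mul, hbw, map_one,
        show g * c.φ w8 * g⁻¹ * (g * c.φ w8 * g⁻¹) = g * (c.φ w8 * c.φ w8) * g⁻¹ by group, ← map_mul,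
        small_facts.2.2.2.1, map_one]
      group)
    have hb1 : (b : A8) ≠ 1 := fun h => by
      rw [h, map_one, eq_comm, mul_inv_eq_one, mul_eq_left, ← map_one c.φ] at hbw
      exact (by decide +kernel : w8 ≠ (1 : A8)) (c.inj hbw)
    have hbf : Fpf (b : A8) := (c.conj_fpf_false small_facts.2.2.2.1 (by decide +kernel) hb2 hb1
      hbw.symm).1 (by decide +kernel)
    have hbw8 : (b : A8) = w8 := by
      rw [← hi] at hb2 hbf ⊢
      refine u_facts i (hi ▸ ((hPA _).1 b.2).2) hb2 hbf fun j hj => ?_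
      rw [hi]
      exact hball ⟨cu j, (hPA _).2 ⟨cu_facts j, hj⟩⟩
    rw [hbw8, eq_comm, mul_inv_eq_iff_eq_mul] at hbw
    obtain ⟨l, hl⟩ := c.cent_w hbw
    have hlu : cw l * u8 = u8 * cw l := c.inv_comm (by
      rw [hl]; exact mem_centralizer_singleton_iff.1 (r : c.Ku).2)
    exact hrR (show (r : c.Ku) ∈ κ.range from ⟨⟨cw l, (hPA _).2 ⟨hlu, cw_facts l⟩⟩, Subtype.ext hl⟩)
  let EA : Subgroup PA := (centralizer (Set.range cS)).subgroupOf PA
  set Q := EA.map κ with hQ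
  have hQP : Q ≤ (P : Subgroup c.Ku) := by
    rw [hPeq, MonoidHom.range_eq_map]; exact map_mono le_top
  have hEA : ∀ a : PA, a ∈ EA ↔ ∀ s, (a : A8) * cS s = cS s * a := fun a => by
    simp only [EA, mem_subgroupOf, mem_centralizer_iff, Set.forall_mem_range]
    exact forall_congr' fun s => eq_comm
  have hEA16 : Nat.card EA = 16 := by
    let f : (Fin 2 × Fin 2 × Fin 2 × Fin 2) → EA := fun s =>
      ⟨⟨cS s, (hPA _).2 ⟨(S_facts.1 s).1, (S_facts.1 s).2.1⟩⟩, (hEA _).2 fun t => S_facts.2.1 s t⟩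
    have hf : Function.Bijective f := ⟨fun a b h => S_inj
      (congrArg (fun z : EA => ((z : PA) : A8)) h), fun a => by
        obtain ⟨i, hi⟩ := cu_complete ((a : PA) : A8) ((hPA _).1 (a : PA).2).1
        obtain ⟨s, hs⟩ := S_complete i (hi ▸ (hEA _).1 a.2)
        exact ⟨s, Subtype.ext (Subtype.ext (hs.trans hi))⟩⟩
    rw [← Nat.card_eq_of_bijective f hf]
    simp
  have hQi : Q.relIndex (P : Subgroup c.Ku) = 2 := by
    have h1 := EA.card_mul_index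
    rw [hEA16, hPAcard] at h1
    rw [hPeq, MonoidHom.range_eq_map, hQ, relIndex_map_map_of_injective _ _ hκ, relIndex_top_right]
    omega
  have hmemQ : ∀ (a : PA), κ a ∈ Q ↔ ∀ s, (a : A8) * cS s = cS s * a := fun a => by
    rw [hQ, mem_map_iff_mem hκ, hEA]
  have hSQ : ∀ s, c.ku (cS s) (S_facts.1 s).1 ∈ Q := fun s =>
    ⟨⟨cS s, (hPA _).2 ⟨(S_facts.1 s).1, (S_facts.1 s).2.1⟩⟩, (hEA _).2 fun t => S_facts.2.1 s t, rfl⟩
  have hQS : ∀ q ∈ Q, ∃ s, (q : G) = c.φ (cS s) := by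
    rintro _ ⟨a, ha, rfl⟩
    obtain ⟨i, hi⟩ := cu_complete (a : A8) ((hPA _).1 a.2).1
    obtain ⟨s, hs⟩ := S_complete i (hi ▸ (hEA _).1 ha)
    exact ⟨s, by rw [hs, hi]; rfl⟩
  set τk := c.ku f2 hf2u with hτk
  obtain ⟨i₀, hi₀⟩ := cu_complete f2 hf2u
  have hτout : ¬ ∀ s, f2 * cS s = cS s * f2 := fun h => by
    obtain ⟨s, hs⟩ := S_complete i₀ (hi₀ ▸ h)
    exact hf2S s (by rw [hs, hi₀])
  obtain ⟨M, hMn, hM2, hτM, hM⟩ := transfer_strong P Q hQP hQi τk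
    (orderOf_eq_prime (by rw [pow_two, hτk]; exact Subtype.ext (by
        show c.φ f2 * c.φ f2 = 1; rw [← map_mul, hf22, map_one]))
      (fun h => hf21 (c.inj ((congrArg Subtype.val h).trans (map_one c.φ).symm))))
    (fun k hk => by
      obtain ⟨s, hs⟩ := hQS _ hk
      have hk' : (k : G)⁻¹ * c.φ (cS s) * (k : G)⁻¹⁻¹ = c.φ (cu i₀) := by
        rw [← hs, hi₀]; push_cast; rw [hτk]; show _ = c.φ f2; simp [ku]; group
      exact c.no_fusion (mem_centralizer_singleton_iff.1 (inv_mem k.2)) (hi₀ ▸ hf2w)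
        (hi₀ ▸ hτout) (hi₀ ▸ hf22) s hk')
  refine ⟨M, hMn, hM2, hτM, fun s => hM _ (Subtype.ext (by
    show c.φ (cS s) * c.φ (cS s) = 1
    rw [← map_mul, (S_facts.1 s).2.2, map_one])) fun k hk => ?_⟩
  obtain ⟨a, ha⟩ := (hPeq ▸ hk : k * c.ku (cS s) (S_facts.1 s).1 * k⁻¹ ∈ κ.range)
  rw [← ha, hmemQ]
  by_contra hout
  obtain ⟨i, hi⟩ := cu_complete (a : A8) ((hPA _).1 a.2).1
  have hg : (k : G) * c.φ (cS s) * (k : G)⁻¹ = c.φ (cu i) := by
    rw [hi]; exact (congrArg Subtype.val ha).symm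
  have hi2 : cu i * cu i = 1 := c.inj (by
    rw [map_mul, ← hg, map_one,
      show (k : G) * c.φ (cS s) * (k : G)⁻¹ * ((k : G) * c.φ (cS s) * (k : G)⁻¹) =
        (k : G) * (c.φ (cS s) * c.φ (cS s)) * (k : G)⁻¹ by group, ← map_mul, (S_facts.1 s).2.2, map_one]
    group)
  exact c.no_fusion (mem_centralizer_singleton_iff.1 k.2) (hi ▸ ((hPA _).1 a.2).2) (hi ▸ hout) hi2 s hg

set_option maxHeartbeats 1000000 in
/-- The centraliser of `u` lies in the image. -/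
theorem cent_u {g : G} (hg : g * c.φ u8 = c.φ u8 * g) : g ∈ c.φ.range := by
  classical
  obtain ⟨M, hMn, hM2, hτM, hSM⟩ := c.exists_index_two
  obtain ⟨hfu, hu2, hu1, ⟨s₁, hs₁⟩, ⟨sv, hsv⟩, hf2S, hf22, hf21, hf2u, hf2w, huf, hvf, hf1f, hvu2,
    hvu1, hvuf, hvu, hf1u, hf11, hv1, hf1sq, hv2⟩ := more_facts
  have hmul : ∀ a b : c.Ku, a * b ∈ M ↔ (a ∈ M ↔ b ∈ M) := fun a b => mul_mem_iff_of_index_two hM2
  let Uk : c.Ku := c.ku u8 rfl
  have hUc : zpowers Uk ≤ center c.Ku := by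
    rw [zpowers_le, mem_center_iff]
    intro k
    exact Subtype.ext (mem_centralizer_singleton_iff.1 k.2)
  have : (zpowers Uk).Normal := ⟨fun n hn k => by
    rw [mem_center_iff.1 (hUc hn) k, mul_inv_cancel_right]; exact hn⟩
  have hU2 : Uk * Uk = 1 := Subtype.ext (by show c.φ u8 * c.φ u8 = 1; rw [← map_mul, hu2, map_one])
  let π : c.Ku →* c.Ku ⧸ zpowers Uk := QuotientGroup.mk' _
  have hπU : π Uk = 1 := (QuotientGroup.eq_one_iff _).2 (mem_zpowers _)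
  have hker : ∀ k : c.Ku, π k = 1 → k = 1 ∨ k = Uk := by
    intro k h
    obtain ⟨i, rfl⟩ := (QuotientGroup.eq_one_iff k).1 h
    rcases Int.even_or_odd i with ⟨j, hj⟩ | ⟨j, hj⟩
    · left; show Uk ^ i = 1; rw [hj, ← two_mul, zpow_mul, zpow_two, hU2, one_zpow]
    · right; show Uk ^ i = Uk
      rw [hj, zpow_add, zpow_mul, zpow_two, hU2, one_zpow, one_mul, zpow_one]
  have hquot : ∀ a b : c.Ku, π a = π b → a = b ∨ a = b * Uk := by
    intro a b h
    rcases hker (b⁻¹ * a) (by rw [map_mul, map_inv, h, inv_mul_cancel]) with e | e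
    · exact Or.inl (inv_mul_eq_one.1 e).symm
    · exact Or.inr (inv_mul_eq_iff_eq_mul.1 e)
  let gk : c.Ku := ⟨g, mem_centralizer_singleton_iff.2 hg⟩
  let X : c.Ku := c.ku (cS s₁) (S_facts.1 s₁).1
  let V : c.Ku := c.ku (cS sv) (S_facts.1 sv).1
  let Y : c.Ku := gk * V * gk⁻¹
  have hXv : (X : G) = c.φ f1 := by show c.φ (cS s₁) = _; rw [hs₁]
  have hVv : (V : G) = c.φ v8 := by show c.φ (cS sv) = _; rw [hsv]
  have hYv : (Y : G) = g * c.φ v8 * g⁻¹ := by show g * (V : G) * g⁻¹ = _; rw [hVv]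
  have hgu' : g * c.φ u8 * g⁻¹ = c.φ u8 := mul_inv_eq_iff_eq_mul.2 hg
  have hX2 : X * X = 1 := Subtype.ext (by
    show (X : G) * X = 1; rw [hXv, ← map_mul, hf1sq, map_one])
  have hY2 : Y * Y = 1 := Subtype.ext (by
    show (Y : G) * Y = 1
    rw [hYv, show g * c.φ v8 * g⁻¹ * (g * c.φ v8 * g⁻¹) = g * (c.φ v8 * c.φ v8) * g⁻¹ by group,
      ← map_mul, hv2, map_one]
    group)
  have hw2 : w8 * w8 = 1 := small_facts.2.2.2.1
  have hwf : Fpf w8 := by decide +kernel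
  have hw1 : w8 ≠ 1 := by decide +kernel
  have hXU : (X : G) * c.φ u8 = c.φ w8 := by rw [hXv, ← map_mul, hfu]
  -- images of v are never fused to w
  have hYnot : ∀ k : G, k * c.φ w8 * k⁻¹ ≠ (Y : G) ∧ k * c.φ w8 * k⁻¹ ≠ (Y : G) * c.φ u8 := by
    intro k
    refine ⟨fun h => ?_, fun h => ?_⟩
    · refine hvf ((c.conj_fpf_false (g := g⁻¹ * k) hw2 hw1 hv2 hv1 ?_).1 hwf)
      rw [show g⁻¹ * k * c.φ w8 * (g⁻¹ * k)⁻¹ = g⁻¹ * (k * c.φ w8 * k⁻¹) * g by group, h, hYv]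
      group
    · refine hvuf ((c.conj_fpf_false (g := g⁻¹ * k) hw2 hw1 hvu2 hvu1 ?_).1 hwf)
      rw [show g⁻¹ * k * c.φ w8 * (g⁻¹ * k)⁻¹ = g⁻¹ * (k * c.φ w8 * k⁻¹) * g by group, h, hYv,
        map_mul]
      calc g⁻¹ * (g * c.φ v8 * g⁻¹ * c.φ u8) * g = c.φ v8 * (g⁻¹ * (c.φ u8 * g)) := by group
        _ = _ := by rw [← hg]; group
  rcases two_involutions (π X) (π Y) (by rw [← map_mul, hX2, map_one]) (by rw [← map_mul, hY2, map_one])
    with h | ⟨m, hm1, hm2, hmx, hmy⟩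
  · exfalso
    obtain ⟨q, hq⟩ := isConj_iff.1 h
    obtain ⟨k, rfl⟩ := QuotientGroup.mk'_surjective (zpowers Uk) q
    have hk : π (k * X * k⁻¹) = π Y := by rw [map_mul, map_mul, map_inv]; exact hq
    have hku : (k : G) * c.φ u8 = c.φ u8 * k := mem_centralizer_singleton_iff.1 k.2
    have hW : (k : G) * c.φ w8 * (k : G)⁻¹ = ((k * X * k⁻¹ : c.Ku) : G) * c.φ u8 := by
      rw [← hXU]
      show _ = (k : G) * X * (k : G)⁻¹ * c.φ u8
      rw [mul_assoc ((k : G) * X), ← (Commute.inv_left (show Commute (k : G) (c.φ u8) from hku)).symm.eq]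
      group
    rcases hquot _ _ hk with e | e
    · exact (hYnot k).2 (by rw [hW, e])
    · refine (hYnot k).1 ?_
      rw [hW, e]
      show (Y : G) * c.φ u8 * c.φ u8 = _
      rw [mul_assoc, ← map_mul, hu2, map_one, mul_one]
  set C := (X * Y) ^ m with hC
  have hπC : π C = (π X * π Y) ^ m := by rw [hC, map_pow, map_mul]
  have hCM : C ∈ M := pow_mem (mul_mem (hSM s₁) (hMn.conj_mem _ (hSM sv) gk)) _
  have hCX : C * X = X * C := by
    have h1 : π (C * X * C⁻¹) = π X := by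
      rw [map_mul, map_mul, map_inv, hπC, ← hmx, mul_inv_cancel_right]
    rcases hquot _ _ h1 with e | e
    · exact mul_inv_eq_iff_eq_mul.1 e
    · exfalso
      have e' : (C : G) * c.φ f1 * (C : G)⁻¹ = c.φ w8 := by
        rw [← hXv]
        exact (congrArg Subtype.val e).trans hXU
      exact hf1f ((c.conj_fpf_false hf1sq hf11 hw2 hw1 e').2 hwf)
  have hCu : (C : G) * c.φ u8 = c.φ u8 * C := mem_centralizer_singleton_iff.1 C.2
  have hCw : (C : G) * c.φ w8 = c.φ w8 * C := by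
    have h1 : (C : G) * X = X * C := congrArg Subtype.val hCX
    rw [← hXU, ← mul_assoc, h1, mul_assoc, hCu, ← mul_assoc]
  obtain ⟨l, hl⟩ := c.cent_w hCw
  obtain ⟨i, hi⟩ := cu_complete (cw l) (c.inv_comm (hl ▸ hCu))
  have hiw : cu i * w8 = w8 * cu i := hi ▸ cw_facts l
  obtain ⟨s, hs⟩ : ∃ s, cS s = cu i := by
    by_contra hno
    have hout : ¬ ∀ t, cu i * cS t = cS t * cu i := fun h => hno (S_complete i h)
    obtain ⟨i', hi'⟩ := cu_complete (cu i * f2) (by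
      rw [mul_assoc, hf2u, ← mul_assoc, cu_facts, mul_assoc])
    obtain ⟨t, ht⟩ := S_complete i' (hi' ▸ outside_prod i hiw hout)
    apply hτM
    have e : c.ku f2 hf2u = C⁻¹ * c.ku (cS t) (S_facts.1 t).1 := Subtype.ext (by
      show c.φ f2 = (C : G)⁻¹ * c.φ (cS t)
      rw [← hl, ← hi, ht, hi', map_mul]
      group)
    rw [e]
    exact mul_mem (inv_mem hCM) (hSM t)
  have hCs : (C : G) = c.φ (cS s) := by rw [hs, hi, hl]
  have hC1 : π C ≠ 1 := by rw [hπC]; exact hm1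
  have hs1 : cS s ≠ 1 := fun h => hC1 (by
    rw [show C = 1 from Subtype.ext (by rw [hCs, h, map_one]; rfl), map_one])
  have hsu : cS s ≠ u8 := fun h => hC1 (by
    rw [show C = Uk from Subtype.ext (by rw [hCs, h]; rfl), hπU])
  have hYC : π (Y * C * Y⁻¹) = π C := by
    rw [map_mul, map_mul, map_inv, hπC, hmy, mul_inv_cancel_right]
  have hYr : (Y : G) ∈ c.φ.range := by
    refine c.normalizes_small hs1 hsu (mem_centralizer_singleton_iff.1 Y.2) ?_
    rw [← hCs]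
    rcases hquot _ _ hYC with e | e
    · exact Or.inl (congrArg Subtype.val e)
    · refine Or.inr ?_
      rw [map_mul, ← hCs]
      exact congrArg Subtype.val e
  obtain ⟨a, ha⟩ := hYr
  obtain ⟨j, hj⟩ := cu_complete a (c.inv_comm (ha ▸ mem_centralizer_singleton_iff.1 Y.2))
  have hY_M : Y ∈ M := hMn.conj_mem _ (hSM sv) gk
  have h1 : c.ku z8 z8_facts.1 ∈ M := by
    have h3 : c.ku z8 z8_facts.1 * c.ku z8 z8_facts.1 * c.ku z8 z8_facts.1 ∈ M := by
      rw [show c.ku z8 z8_facts.1 * c.ku z8 z8_facts.1 * c.ku z8 z8_facts.1 = 1 from Subtype.ext (by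
        show c.φ z8 * c.φ z8 * c.φ z8 = 1
        rw [← map_mul, ← map_mul, z8_facts.2, map_one])]
      exact one_mem _
    rw [hmul, hmul] at h3
    exact h3.1 Iff.rfl
  have hjo : j.2.2 = 0 := by
    by_contra ho
    have ho' : j.2.2 = 1 := Fin.eq_one_of_ne_zero _ ho
    apply hτM
    have e : c.ku f2 hf2u =
        (c.ku (cS j.1) (S_facts.1 j.1).1 * c.ku z8 z8_facts.1 ^ (j.2.1 : ℕ))⁻¹ * Y := by
      apply Subtype.ext
      show c.φ f2 = (c.φ (cS j.1) * ((c.ku z8 z8_facts.1 ^ (j.2.1 : ℕ) : c.Ku) : G))⁻¹ * (Y : G)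
      rw [SubmonoidClass.coe_pow]
      show c.φ f2 = (c.φ (cS j.1) * c.φ z8 ^ (j.2.1 : ℕ))⁻¹ * (Y : G)
      rw [← ha, ← hj, cu_one j ho', map_mul, map_mul, map_pow, inv_mul_cancel_left]
    rw [e]
    exact mul_mem (inv_mem (mul_mem (hSM j.1) (pow_mem h1 _))) hY_M
  have hgv : g * c.φ v8 * g⁻¹ = c.φ (cu j) := by rw [hj, ha, hYv]
  have hgvu : g * c.φ (v8 * u8) * g⁻¹ = c.φ (cu j * u8) := by
    rw [map_mul, map_mul, ← hgv]
    calc g * (c.φ v8 * c.φ u8) * g⁻¹ = g * c.φ v8 * g⁻¹ * (g * c.φ u8 * g⁻¹) := by group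
      _ = _ := by rw [hgu']
  have hj2 : cu j * cu j = 1 := c.inj (by
    rw [map_mul, hj, ha, map_one]; exact congrArg Subtype.val hY2)
  have hjne : cu j ≠ 1 := fun h => hv1 (c.inj (by
    rw [h, map_one, mul_inv_eq_one, mul_eq_left] at hgv; rw [hgv, map_one]))
  have hjnu : cu j ≠ u8 := fun h => by
    rw [h, ← hgu'] at hgv
    exact hvu (c.inj (mul_left_cancel (mul_right_cancel hgv)))
  have hju2 : cu j * u8 * (cu j * u8) = 1 := by
    rw [mul_assoc, ← mul_assoc u8, ← cu_facts j, mul_assoc (cu j) u8, hu2, mul_one, hj2]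
  have hju1 : cu j * u8 ≠ 1 := fun h =>
    hjnu ((mul_eq_one_iff_eq_inv.1 h).trans (inv_eq_of_mul_eq_one_right hu2))
  have hjf := fun h => hvf ((c.conj_fpf_false hv2 hv1 hj2 hjne hgv).2 h)
  have hjuf := fun h => hvuf ((c.conj_fpf_false hvu2 hvu1 hju2 hju1 hgvu).2 h)
  refine c.normalizes_small (s := sv) (hsv ▸ hv1) (hsv ▸ hvu) hg ?_
  rw [hsv, hgv]
  exact (y_shape j hjo hj2 hjf hjuf hjne hjnu).imp (congrArg c.φ) (congrArg c.φ)

/-- The image is everything. -/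
theorem range_eq_top : c.φ.range = ⊤ := by
  rw [eq_top_iff]
  intro g _
  have hw2 : w8 * w8 = 1 := small_facts.2.2.2.1
  have hw1 : w8 ≠ 1 := by decide +kernel
  have hu2 : u8 * u8 = 1 := more_facts.2.1
  set y := g * c.φ w8 * g⁻¹ with hy
  have hy2 : y * y = 1 := by
    rw [hy, show g * c.φ w8 * g⁻¹ * (g * c.φ w8 * g⁻¹) = g * (c.φ w8 * c.φ w8) * g⁻¹ by group,
      ← map_mul, hw2, map_one]
    group
  have hconjy : IsConj (c.φ w8) y := isConj_iff.2 ⟨g, rfl⟩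
  rcases two_involutions (c.φ u8) y (by rw [← map_mul, hu2, map_one]) hy2 with
    h | ⟨m, hm1, hm2, hmx, hmy⟩
  · exact absurd (h.trans hconjy.symm) c.u_not_conj_w
  · obtain ⟨p, hp⟩ := c.cent_u hmx.symm
    rw [← hp] at hm1 hm2 hmy
    have hp2 : p * p = 1 := c.inj (by rw [map_mul, hm2, map_one])
    have hp1 : p ≠ 1 := fun h => hm1 (by rw [h, map_one])
    obtain ⟨a, ha⟩ : y ∈ c.φ.range := by
      rcases involution_class p hp2 hp1 with ⟨hf, -⟩ | ⟨-, hc⟩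
      · exact c.cent_fpf hp2 hf hmy
      · obtain ⟨h, hh⟩ := isConj_iff.1 hc
        rw [← hh, map_mul, map_mul, map_inv] at hmy
        obtain ⟨b, hb⟩ := c.cent_u (g := (c.φ h)⁻¹ * y * c.φ h) (by
          calc (c.φ h)⁻¹ * y * c.φ h * c.φ u8
              = (c.φ h)⁻¹ * (y * (c.φ h * c.φ u8 * (c.φ h)⁻¹)) * c.φ h := by group
            _ = _ := by rw [hmy]; group)
        exact ⟨h * b * h⁻¹, by rw [map_mul, map_mul, map_inv, hb]; group⟩
    have ha2 : a * a = 1 := c.inj (by rw [map_mul, ha, hy2, map_one])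
    have ha1 : a ≠ 1 := fun h => hw1 (c.inj (by
      rw [h, map_one, eq_comm, hy, mul_inv_eq_one, mul_eq_left] at ha; rw [ha, map_one]))
    have haf : Fpf a := (c.fpf_iff ha2 ha1).2 (ha.symm ▸ hconjy)
    obtain ⟨h, hh⟩ := isConj_iff.1 ((involution_class a ha2 ha1).resolve_right fun e => e.1 haf).2
    have hk : (c.φ h)⁻¹ * g * c.φ w8 = c.φ w8 * ((c.φ h)⁻¹ * g) := by
      have e : g * c.φ w8 * g⁻¹ = c.φ h * c.φ w8 * (c.φ h)⁻¹ := by
        rw [← map_mul, ← map_inv, ← map_mul, hh, ha]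
      calc (c.φ h)⁻¹ * g * c.φ w8 = (c.φ h)⁻¹ * (g * c.φ w8 * g⁻¹) * g := by group
        _ = _ := by rw [e]; group
    obtain ⟨i, hi⟩ := c.cent_w hk
    exact ⟨h * cw i, by rw [map_mul, hi]; group⟩

end Ctx

end Cfsg.Agent.H70.AltEight
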