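import Cfsg.Agent.H70.AltEight.Classes
import Cfsg.Agent.S3331
import Cfsg.Agent.Linear.Order

/-!
The centraliser of a fixed-point-free involution.
-/

set_option autoImplicit false
set_option maxRecDepth 20000
set_option synthInstance.maxSize 512
set_option exponentiation.threshold 512

namespace Cfsg.Agent.H70.AltEight

open Equiv Equiv.Perm Subgroup Eight

universe u

/-- A normal subgroup with fixed-point-free action of a symmetric group of degree three. -/
theorem card_eq_sq {Q : Type u} [Group Q] [Finite Q] (N : Subgroup Q) [hN : N.Normal] (g q : Q)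
    (hg : g * g * g = 1) (hq : q * q = 1) (hqg : q * g * q = g⁻¹)
    (hfix : ∀ n ∈ N, g * n * g⁻¹ = n → n = 1) :
    Nat.card N = Nat.card (N ⊓ centralizer ({q} : Set Q) : Subgroup Q) ^ 2 := by
  classical
  have hgi : g⁻¹ = g * g := inv_eq_of_mul_eq_one_right (by rw [← mul_assoc, hg])
  have hqi : q⁻¹ = q := inv_eq_of_mul_eq_one_right hq
  let F : Q → Q → Q := fun a b => (a * q * a⁻¹) * (g * (b * q * b⁻¹) * g⁻¹)
  have hbase : q * (g * q * g⁻¹) = g := by
    rw [show q * (g * q * g⁻¹) = q * g * q * g⁻¹ by group, hqg, hgi]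
    calc g * g * (g * g) = g * g * g * g := by group
      _ = g := by rw [hg, one_mul]
  have hmem : ∀ a b : N, F a b * g⁻¹ ∈ N := by
    intro a b
    have h1 : ∀ (x : Q) (m : N), (m : Q) * x * (m : Q)⁻¹ * x⁻¹ ∈ N := fun x m => by
      rw [show (m : Q) * x * (m : Q)⁻¹ * x⁻¹ = m * (x * (m : Q)⁻¹ * x⁻¹) by group]
      exact mul_mem m.2 (hN.conj_mem _ (inv_mem m.2) x)
    have e : F a b * g⁻¹ = ((a : Q) * q * (a : Q)⁻¹ * q⁻¹) *
        (q * (g * ((b : Q) * q * (b : Q)⁻¹ * q⁻¹) * g⁻¹) * q⁻¹) * ((q * (g * q * g⁻¹)) * g⁻¹) := by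
      simp only [F]; group
    rw [e, hbase, mul_inv_cancel, mul_one]
    exact mul_mem (h1 q a) (hN.conj_mem _ (hN.conj_mem _ (h1 q b) g) q)
  let C : Subgroup N := (centralizer ({q} : Set Q)).subgroupOf N
  have hclass : ∀ a a' : N, (a : N ⧸ C) = (a' : N ⧸ C) ↔ (a : Q) * q * (a : Q)⁻¹ = a' * q * (a' : Q)⁻¹ := by
    intro a a'
    rw [QuotientGroup.eq, mem_subgroupOf, mem_centralizer_singleton_iff]
    push_cast
    constructor
    · intro h
      calc (a : Q) * q * (a : Q)⁻¹ = a * (q * ((a : Q)⁻¹ * a')) * (a' : Q)⁻¹ := by group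
        _ = a * ((a : Q)⁻¹ * a' * q) * (a' : Q)⁻¹ := by rw [h]
        _ = _ := by group
    · intro h
      calc (a : Q)⁻¹ * a' * q = (a : Q)⁻¹ * (a' * q * (a' : Q)⁻¹) * a' := by group
        _ = (a : Q)⁻¹ * (a * q * (a : Q)⁻¹) * a' := by rw [h]
        _ = _ := by group
  let Φ : (N ⧸ C) × (N ⧸ C) → N := fun p => ⟨F p.1.out p.2.out * g⁻¹, hmem _ _⟩
  have hΦ : ∀ a b : N, (Φ ((a : N ⧸ C), (b : N ⧸ C)) : Q) = F a b * g⁻¹ := by
    intro a b
    show F _ _ * g⁻¹ = _
    simp only [F]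
    rw [(hclass _ a).1 (QuotientGroup.out_eq' _), (hclass _ b).1 (QuotientGroup.out_eq' _)]
  -- every element of the coset is conjugate to g
  have hconj : ∀ n : N, ∃ m : N, (m : Q) * g * (m : Q)⁻¹ = n * g := by
    let f : N → N := fun m => ⟨(m : Q) * g * (m : Q)⁻¹ * g⁻¹, by
      rw [show (m : Q) * g * (m : Q)⁻¹ * g⁻¹ = m * (g * (m : Q)⁻¹ * g⁻¹) by group]
      exact mul_mem m.2 (hN.conj_mem _ (inv_mem m.2) g)⟩
    have hf : Function.Injective f := by
      intro a b h
      have h' : (a : Q) * g * (a : Q)⁻¹ * g⁻¹ = b * g * (b : Q)⁻¹ * g⁻¹ := congrArg Subtype.val h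
      have h3 : g * ((b : Q)⁻¹ * a) * g⁻¹ = (b : Q)⁻¹ * a := by
        calc g * ((b : Q)⁻¹ * a) * g⁻¹ = (b : Q)⁻¹ * (b * g * (b : Q)⁻¹ * g⁻¹) * (g * a * g⁻¹) := by group
          _ = (b : Q)⁻¹ * (a * g * (a : Q)⁻¹ * g⁻¹) * (g * a * g⁻¹) := by rw [h']
          _ = _ := by group
      exact Subtype.ext (inv_mul_eq_one.1 (hfix _ (mul_mem (inv_mem b.2) a.2) h3)).symm
    intro n
    obtain ⟨m, hm⟩ := (Finite.injective_iff_surjective.1 hf) n
    refine ⟨m, ?_⟩
    rw [← congrArg Subtype.val hm]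
    show _ = (m : Q) * g * (m : Q)⁻¹ * g⁻¹ * g
    group
  have hbij : Function.Bijective Φ := by
    constructor
    · rintro ⟨A, B⟩ ⟨A', B'⟩ h
      obtain ⟨a, rfl⟩ := QuotientGroup.mk_surjective A
      obtain ⟨b, rfl⟩ := QuotientGroup.mk_surjective B
      obtain ⟨a', rfl⟩ := QuotientGroup.mk_surjective A'
      obtain ⟨b', rfl⟩ := QuotientGroup.mk_surjective B'
      have h' : F a b = F a' b' := by
        have := congrArg Subtype.val h
        rw [hΦ, hΦ] at this
        exact mul_right_cancel this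
      obtain ⟨m, hm⟩ := hconj ⟨_, hmem a b⟩
      have hm' : (m : Q) * g * (m : Q)⁻¹ = F a b := by rw [hm]; show F a b * g⁻¹ * g = _; group
      have key : ∀ a b : N, (m : Q) * g * (m : Q)⁻¹ = F a b →
          (a : Q) * q * (a : Q)⁻¹ = m * q * (m : Q)⁻¹ := by
        intro a b hab
        set s := (a : Q) * q * (a : Q)⁻¹ with hs
        set s₂ := g * ((b : Q) * q * (b : Q)⁻¹) * g⁻¹ with hs2
        have hss : s * s = 1 := by
          rw [hs, show (a : Q) * q * (a : Q)⁻¹ * (a * q * (a : Q)⁻¹) = a * (q * q) * (a : Q)⁻¹ by group, hq]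
          group
        have hss2 : s₂ * s₂ = 1 := by
          rw [hs2, show g * ((b : Q) * q * (b : Q)⁻¹) * g⁻¹ * (g * ((b : Q) * q * (b : Q)⁻¹) * g⁻¹) =
            g * b * (q * q) * (b : Q)⁻¹ * g⁻¹ by group, hq]
          group
        set n := q⁻¹ * ((m : Q)⁻¹ * s * m) with hn
        have hnN : n ∈ N := by
          have e : n = (q⁻¹ * ((m : Q)⁻¹ * a) * q) * ((m : Q)⁻¹ * a)⁻¹ := by rw [hn, hs]; group
          rw [e]
          have hma : (m : Q)⁻¹ * a ∈ N := mul_mem (inv_mem m.2) a.2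
          have := hN.conj_mem _ hma q⁻¹
          rw [inv_inv] at this
          exact mul_mem this (inv_mem hma)
        have hinv : s * (s * s₂) * s = (s * s₂)⁻¹ := by
          rw [mul_inv_rev, inv_eq_of_mul_eq_one_right hss, inv_eq_of_mul_eq_one_right hss2]
          calc s * (s * s₂) * s = (s * s) * (s₂ * s) := by group
            _ = _ := by rw [hss, one_mul]
        have hF : s * s₂ = (m : Q) * g * (m : Q)⁻¹ := hab.symm
        rw [hF] at hinv
        have hgn : (q * n) * g * (q * n) = g⁻¹ := by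
          rw [hn, mul_inv_cancel_left]
          calc (m : Q)⁻¹ * s * m * g * ((m : Q)⁻¹ * s * m)
              = (m : Q)⁻¹ * (s * (m * g * (m : Q)⁻¹) * s) * m := by group
            _ = _ := by rw [hinv]; group
        have hqn : (q * n) * (q * n) = 1 := by
          rw [hn, mul_inv_cancel_left,
            show (m : Q)⁻¹ * s * m * ((m : Q)⁻¹ * s * m) = (m : Q)⁻¹ * (s * s) * m by group, hss]
          group
        have hn1 : n = 1 := by
          refine hfix n hnN ?_
          have e1 : n⁻¹ = q * n * q := by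
            rw [inv_eq_iff_mul_eq_one]
            calc n * (q * n * q) = q⁻¹ * ((q * n) * (q * n)) * q := by group
              _ = 1 := by rw [hqn]; group
          have e2 : q * g⁻¹ * q = g := by rw [← hqg]; rw [show q * (q * g * q) * q = (q*q) * g * (q*q) by group, hq]; group
          have e3 : n * g * n⁻¹ = g := by
            rw [e1, show n * g * (q * n * q) = q⁻¹ * (q * n * g * (q * n)) * q by group, hgn, hqi, e2]
          calc g * n * g⁻¹ = (n * g * n⁻¹) * n * g⁻¹ := by rw [e3]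
            _ = _ := by group
        have : q = (m : Q)⁻¹ * s * m := by
          have h1 := hn1
          rw [hn, inv_mul_eq_one] at h1
          exact h1
        rw [this]; group
      have ha := key a b hm'
      have ha' := key a' b' (hm'.trans h')
      have hA : (a : N ⧸ C) = a' := (hclass a a').2 (ha.trans ha'.symm)
      refine Prod.ext hA ((hclass b b').2 ?_)
      have e : F a b = F a b := rfl
      have h2 : ((a : Q) * q * (a : Q)⁻¹) * (g * ((b : Q) * q * (b : Q)⁻¹) * g⁻¹) =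
          ((a : Q) * q * (a : Q)⁻¹) * (g * ((b' : Q) * q * (b' : Q)⁻¹) * g⁻¹) := by
        conv_rhs => rw [(hclass a a').1 hA]
        exact h'
      exact mul_left_cancel (mul_right_cancel (mul_left_cancel h2))
    · intro n
      obtain ⟨m, hm⟩ := hconj n
      refine ⟨((m : N ⧸ C), ((⟨g⁻¹ * m * g, by simpa using hN.conj_mem _ m.2 g⁻¹⟩ : N) : N ⧸ C)),
        Subtype.ext ?_⟩
      rw [hΦ]
      simp only [F]
      calc (m : Q) * q * (m : Q)⁻¹ * (g * (g⁻¹ * m * g * q * (g⁻¹ * m * g)⁻¹) * g⁻¹) * g⁻¹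
          = (m : Q) * (q * (g * q * g⁻¹)) * (m : Q)⁻¹ * g⁻¹ := by group
        _ = _ := by rw [hbase, hm]; group
  have hC : Nat.card C = Nat.card (N ⊓ centralizer ({q} : Set Q) : Subgroup Q) := by
    rw [Nat.card_congr (C.equivMapOfInjective _ N.subtype_injective).toEquiv, subgroupOf_map_subtype,
      inf_comm]
  have h1 := Nat.card_eq_of_bijective Φ hbij
  rw [Nat.card_prod] at h1
  have h2 := C.card_eq_card_quotient_mul_card_subgroup
  rw [← hC]
  have hpos : 0 < Nat.card (N ⧸ C) := Nat.card_pos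
  have h3 : Nat.card (N ⧸ C) = Nat.card C :=
    Nat.eq_of_mul_eq_mul_left hpos (h1.trans h2)
  rw [h2, h3, pow_two]

theorem pow_eight_of_two_power (a : A8) {k : ℕ} (h : a ^ 2 ^ k = 1) : a ^ 8 = 1 := by
  have h2 : (a : Perm (Fin 8)) ^ 2 ^ k = 1 := by
    rw [← SubmonoidClass.coe_pow, h]; rfl
  apply Subtype.ext
  rw [SubmonoidClass.coe_pow, OneMemClass.coe_one]
  apply orderOf_dvd_iff_pow_eq_one.1
  rw [← Equiv.Perm.lcm_cycleType, Multiset.lcm_dvd]
  intro d hd
  have h3 : d ∣ 2 ^ k := (Equiv.Perm.dvd_of_mem_cycleType hd).trans (orderOf_dvd_of_pow_eq_one h2)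
  obtain ⟨m, -, rfl⟩ := (Nat.dvd_prime_pow Nat.prime_two).1 h3
  have h4 : 2 ^ m ≤ 8 := (Equiv.Perm.le_card_support_of_mem_cycleType hd).trans
    (by simpa using Finset.card_le_univ (a : Perm (Fin 8)).support)
  have h5 : m ≤ 3 := by
    by_contra hm
    have := Nat.pow_le_pow_right (show 0 < 2 by norm_num) (show 4 ≤ m by omega)
    omega
  exact pow_dvd_pow 2 h5

theorem w_test' : ∀ i, (i.2.1 = 0 ∧ i.2.2 = 0) ∨ ¬ (cw i * (y8 * cw i * y8⁻¹)) ^ 8 = 1 ∨
    ¬ cw i ^ 8 = 1 := by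
  decide +kernel

theorem w_test (i) (h1 : cw i ^ 8 = 1) (h2 : (cw i * (y8 * cw i * y8⁻¹)) ^ 8 = 1) :
    i.2.1 = 0 ∧ i.2.2 = 0 :=
  (w_test' i).resolve_right fun h => h.elim (fun e => e h2) (fun e => e h1)

theorem E_cent_v : ∀ e, cE e * v8 = v8 * cE e →
    cE e * cE e = 1 ∧ (cE e = 1 ∨ cE e = u8 ∨ cE e = f1 ∨ Fpf (cE e)) := by decide +kernel

theorem E_cent_v_mod : ∀ e, cE e * v8 = v8 * cE e →
    ∃ a b o : Fin 2, cE e = bit u8 a * bit d1 b * bit w8 o := by decide +kernel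

theorem E_facts : (∀ e, cE e * w8 = w8 * cE e) ∧ (∀ e, cE e ≠ v8) ∧
    (∀ e, cE e * y8 = y8 * cE e → cE e = 1 ∨ cE e = w8) ∧
    (∀ e, ∃ e', cE e' = cE e * w8) ∧ (∀ e, cE e = cw (e, 0, 0)) := by
  refine ⟨?_, ?_, ?_, ?_, ?_⟩ <;> decide +kernel

theorem E_inj : Function.Injective cE := by decide +kernel

theorem E_squares : Fintype.card {e // cE e * cE e = 1} = 20 := by decide +kernel

theorem y_cent_w : ∀ i, cy i * w8 = w8 * cy i →
    ∃ (j : Fin 3) (o : Fin 2), cy i = y8 ^ (j : ℕ) * bit w8 o := by decide +kernel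

theorem small_facts : y8 * w8 = w8 * y8 ∧ v8 * w8 = w8 * v8 ∧ u8 * w8 = w8 * u8 ∧ w8 * w8 = 1 ∧
    v8 * v8 = 1 ∧ v8 * y8 * v8 = y8⁻¹ ∧ y8 * y8 * y8 = 1 ∧ y8 ≠ 1 ∧ y8 ≠ w8 ∧
    y8 * u8 * y8⁻¹ ≠ u8 ∧ y8 * u8 * y8⁻¹ ≠ u8 * w8 ∧ Fpf w8 ∧
    f1 * v8 * (f1 * v8) = 1 ∧ f1 * v8 ≠ 1 ∧ Fpf (f1 * v8) ∧
    u8 * v8 * (u8 * v8) = 1 ∧ u8 * v8 ≠ 1 ∧ ¬ Fpf (u8 * v8) ∧
    v8 * w8 * (v8 * w8) = 1 ∧ v8 * w8 ≠ 1 ∧ Fpf (v8 * w8) ∧ v8 ≠ 1 ∧ ¬ Fpf v8 ∧
    (∃ e, cE e = u8) ∧ cE (0, 0, 0, 0, 0) = 1 := by decide +kernel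

theorem w_index : Nat.card ((Fin 2 × Fin 2 × Fin 2 × Fin 2 × Fin 2) × Fin 3 × Fin 2) = 192 := by
  simp

/-- The centraliser of `w8` in the model. -/
abbrev Cw : Subgroup A8 := centralizer {w8}

/-- An element of the centraliser of `w8`. -/
def el (a : A8) (h : a * w8 = w8 * a) : Cw := ⟨a, mem_centralizer_singleton_iff.2 h⟩

theorem card_Cw : Nat.card Cw = 192 := by
  have hb : Function.Bijective (fun i => (el (cw i) (cw_facts i))) :=
    ⟨fun i j h => cw_inj (congrArg Subtype.val h), fun x => by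
      obtain ⟨i, hi⟩ := cw_complete x.1 (mem_centralizer_singleton_iff.1 x.2)
      exact ⟨i, Subtype.ext hi⟩⟩
  rw [← Nat.card_eq_of_bijective _ hb, w_index]

/-- A permutation of period `p` moves a multiple of `p` points. -/
theorem dvd_support {α : Type u} [Fintype α] [DecidableEq α] {p : ℕ} (hp : p.Prime) (σ : Equiv.Perm α)
    (hσ : σ ^ p = 1) : p ∣ σ.support.card := by
  rw [← Equiv.Perm.sum_cycleType]
  refine Multiset.dvd_sum fun d hd => ?_
  have h1 := Equiv.Perm.dvd_of_mem_cycleType hd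
  have h2 : orderOf σ ∣ p := orderOf_dvd_of_pow_eq_one hσ
  exact ((Nat.dvd_prime hp).mp (h1.trans h2)).elim
    (fun e => absurd e (Equiv.Perm.one_lt_of_mem_cycleType hd).ne') (fun e => e ▸ dvd_rfl)

namespace Ctx

variable {G : Type u} [Group G] (c : Ctx G)

/-- The centraliser of `w` in `G`. -/
abbrev Kw : Subgroup G := centralizer {c.φ w8}

/-- The model centraliser inside it. -/
def ιw : Cw →* c.Kw := (c.φ.comp Cw.subtype).codRestrict c.Kw fun x =>
  mem_centralizer_singleton_iff.2 (c.map_comm (mem_centralizer_singleton_iff.1 x.2))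

@[simp] theorem ιw_val (x : Cw) : (c.ιw x : G) = c.φ (x : A8) := rfl

theorem ιw_inj : Function.Injective c.ιw := fun _ _ h => Subtype.ext (c.inj (congrArg Subtype.val h))

/-- The central involution. -/
def Wk : c.Kw := c.ιw (el w8 rfl)

theorem Wk_center : zpowers c.Wk ≤ center c.Kw := by
  rw [zpowers_le, mem_center_iff]
  intro k
  exact Subtype.ext (mem_centralizer_singleton_iff.1 k.2)

instance normal_zpowers_Wk : (zpowers c.Wk).Normal :=
  ⟨fun n hn k => by rw [mem_center_iff.1 (c.Wk_center hn) k, mul_inv_cancel_right]; exact hn⟩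

theorem Wk_sq : c.Wk * c.Wk = 1 := by
  rw [Wk, ← map_mul, show el w8 rfl * el w8 rfl = 1 from Subtype.ext small_facts.2.2.2.1, map_one]

/-- The quotient by the central involution. -/
abbrev πw : c.Kw →* c.Kw ⧸ zpowers c.Wk := QuotientGroup.mk' _

/-- The model in the quotient. -/
abbrev fw : Cw →* c.Kw ⧸ zpowers c.Wk := c.πw.comp c.ιw

theorem πw_Wk : c.πw c.Wk = 1 := (QuotientGroup.eq_one_iff _).2 (mem_zpowers _)

theorem πw_eq_one {k : c.Kw} (h : c.πw k = 1) : k = 1 ∨ k = c.Wk := by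
  obtain ⟨i, rfl⟩ := (QuotientGroup.eq_one_iff k).1 h
  rcases Int.even_or_odd i with ⟨j, hj⟩ | ⟨j, hj⟩
  · left; show c.Wk ^ i = 1; rw [hj, ← two_mul, zpow_mul, zpow_two, c.Wk_sq, one_zpow]
  · right; show c.Wk ^ i = c.Wk
    rw [hj, zpow_add, zpow_mul, zpow_two, c.Wk_sq, one_zpow, one_mul, zpow_one]

theorem fw_eq_one {x : Cw} (h : c.fw x = 1) : (x : A8) = 1 ∨ (x : A8) = w8 := by
  rcases c.πw_eq_one h with e | e
  · exact Or.inl (congrArg Subtype.val (c.ιw_inj (e.trans (map_one c.ιw).symm)))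
  · exact Or.inr (congrArg Subtype.val (c.ιw_inj e))

theorem card_fw_ker : Nat.card c.fw.ker ≤ 2 := by
  classical
  let g : c.fw.ker → Fin 2 := fun x => if ((x : Cw) : A8) = 1 then 0 else 1
  have hg : Function.Injective g := by
    intro x y h
    apply Subtype.ext; apply Subtype.ext
    rcases c.fw_eq_one x.2 with a | a <;> rcases c.fw_eq_one y.2 with b | b <;>
      simp only [g, a, b] at h ⊢ <;> simp [(by decide +kernel : (w8 : A8) ≠ 1)] at h
  simpa using Nat.card_le_card_of_injective g hg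

/-- The image of the element of order three. -/
def yk : c.Kw ⧸ zpowers c.Wk := c.fw (el y8 small_facts.1)

theorem yk_cube : c.yk ^ 3 = 1 := by
  rw [yk, ← map_pow, show el y8 small_facts.1 ^ 3 = 1 from Subtype.ext (by
    show y8 ^ 3 = 1
    rw [pow_succ, pow_two, small_facts.2.2.2.2.2.2.1]), map_one]

theorem yk_ne : c.yk ≠ 1 := fun h => (c.fw_eq_one h).elim
  (fun e : y8 = 1 => (by decide +kernel : y8 ≠ 1) e) (fun e : y8 = w8 => (by decide +kernel : y8 ≠ w8) e)

variable [Finite G]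

omit [Finite G] in
theorem yk_order : orderOf c.yk = 3 := orderOf_eq_prime c.yk_cube c.yk_ne

theorem cent_yk : centralizer ((zpowers c.yk : Subgroup _) : Set (c.Kw ⧸ zpowers c.Wk)) = zpowers c.yk := by
  refine le_antisymm (fun q hq => ?_) fun q hq => ?_
  · obtain ⟨k, rfl⟩ := QuotientGroup.mk'_surjective (zpowers c.Wk) q
    set Y := c.ιw (el y8 small_facts.1) with hY
    have h0 : c.yk * c.πw k = c.πw k * c.yk := mem_centralizer_iff.1 hq c.yk (mem_zpowers c.yk)
    have h1 : c.πw (k * Y * k⁻¹ * Y⁻¹) = 1 := by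
      rw [map_mul, map_mul, map_mul, map_inv, map_inv, show c.πw Y = c.yk from rfl, ← h0]
      group
    have hky : (k : G) * c.φ y8 = c.φ y8 * k := by
      rcases c.πw_eq_one h1 with e | e
      · have e' : (k : G) * c.φ y8 * (k : G)⁻¹ * (c.φ y8)⁻¹ = 1 := congrArg Subtype.val e
        rw [mul_inv_eq_one, mul_inv_eq_iff_eq_mul] at e'
        exact e'
      · exfalso
        have e' : (k : G) * c.φ y8 * (k : G)⁻¹ * (c.φ y8)⁻¹ = c.φ w8 := congrArg Subtype.val e
        rw [mul_inv_eq_iff_eq_mul, ← map_mul] at e'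
        have h3 : ((k : G) * c.φ y8 * (k : G)⁻¹) ^ 3 = 1 := by
          rw [conj_pow, ← map_pow, show y8 ^ 3 = 1 by decide +kernel, map_one]; group
        rw [e', ← map_pow, ← map_one c.φ] at h3
        have h4 := c.inj h3
        revert h4
        exact (by decide +kernel : (w8 * y8) ^ 3 = 1 → False)
    obtain ⟨i, hi⟩ := c.cent_y hky
    have hiw : cy i * w8 = w8 * cy i := c.inv_comm (hi ▸ mem_centralizer_singleton_iff.1 k.2)
    obtain ⟨j, o, hjo⟩ := y_cent_w i hiw
    have ek : k = Y ^ (j : ℕ) * c.Wk ^ (o : ℕ) := by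
      apply Subtype.ext
      rw [← hi, hjo, map_mul, map_pow]
      rcases (by decide : ∀ o : Fin 2, o = 0 ∨ o = 1) o with rfl | rfl <;> simp [bit, Wk, el, hY]
    show c.πw k ∈ _
    rw [ek, map_mul, map_pow, map_pow, c.πw_Wk, one_pow, mul_one]
    exact pow_mem (mem_zpowers c.yk) _
  · rw [mem_centralizer_iff]
    obtain ⟨i, rfl⟩ := hq
    rintro _ ⟨j, rfl⟩
    exact ((Commute.refl c.yk).zpow_zpow j i).eq

omit [Finite G] in
/-- The kernel meets the model inside the normal subgroup of order thirty-two. -/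
theorem kernel_le_E (N : Subgroup (c.Kw ⧸ zpowers c.Wk)) [N.Normal]
    (h8 : ∀ x : Cw, c.fw x ∈ N → (x : A8) ^ 8 = 1) (x : Cw) (hx : c.fw x ∈ N) : ∃ e, cE e = x := by
  obtain ⟨⟨e, j, o⟩, hi⟩ := cw_complete x.1 (mem_centralizer_singleton_iff.1 x.2)
  have h1 := h8 x hx
  have h2 := h8 (x * (el y8 small_facts.1 * x * (el y8 small_facts.1)⁻¹)) (by
    rw [map_mul, map_mul, map_mul, map_inv]
    exact mul_mem hx (Subgroup.Normal.conj_mem inferInstance _ hx _))
  change ((x : A8) * (y8 * x * y8⁻¹)) ^ 8 = 1 at h2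
  rw [← hi] at h1 h2
  obtain ⟨rfl, rfl⟩ := w_test (e, j, o) h1 h2
  exact ⟨e, by rw [E_facts.2.2.2.2]; exact hi⟩

/-- The kernel meets the model in exactly that subgroup. -/
theorem kernel_eq_E (N : Subgroup (c.Kw ⧸ zpowers c.Wk)) [N.Normal]
    (h8 : ∀ x : Cw, c.fw x ∈ N → (x : A8) ^ 8 = 1) (hM16 : 16 ≤ Nat.card (N.comap c.fw)) :
    Nat.card (N.comap c.fw) = 32 ∧ ∀ e, c.fw (el (cE e) (E_facts.1 e)) ∈ N := by
  classical
  obtain ⟨hEw, hEv, hEy, hEmul, hEcw⟩ := E_facts
  let g : N.comap c.fw → (Fin 2 × Fin 2 × Fin 2 × Fin 2 × Fin 2) := fun x =>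
    (c.kernel_le_E N h8 x.1 x.2).choose
  have hg : ∀ x : N.comap c.fw, cE (g x) = ((x : Cw) : A8) := fun x =>
    (c.kernel_le_E N h8 x.1 x.2).choose_spec
  have hgi : Function.Injective g := fun x y h =>
    Subtype.ext (Subtype.ext (by rw [← hg x, ← hg y, h]))
  have hle : Nat.card (N.comap c.fw) ≤ 32 := by
    simpa using Nat.card_le_card_of_injective g hgi
  have hdvd : Nat.card (N.comap c.fw) ∣ 2 ^ 6 * 3 := by
    have := card_subgroup_dvd_card (N.comap c.fw)
    rwa [card_Cw] at this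
  have h32 : Nat.card (N.comap c.fw) = 32 := by
    by_contra hne
    have h16 : Nat.card (N.comap c.fw) = 16 := by
      have : Fact (Nat.Prime 2) := ⟨Nat.prime_two⟩
      have hp : IsPGroup 2 (N.comap c.fw) := fun x => ⟨3, Subtype.ext (Subtype.ext (h8 x.1 x.2))⟩
      obtain ⟨m, hm⟩ := hp.exists_card_eq
      rw [hm] at hle hM16 hne ⊢
      have h5 : m ≤ 5 := (Nat.pow_le_pow_iff_right (by norm_num : 1 < 2)).1 (show 2 ^ m ≤ 2 ^ 5 from hle)
      interval_cases m <;> omega
    let Y := el y8 small_facts.1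
    let σf : N.comap c.fw → N.comap c.fw := fun x => ⟨Y * x * Y⁻¹, by
      show c.fw _ ∈ N
      rw [map_mul, map_mul, map_inv]
      exact (inferInstance : N.Normal).conj_mem _ (x.2 : c.fw x ∈ N) _⟩
    have hσi : Function.Injective σf := fun x y h => Subtype.ext (by
      simpa [σf] using congrArg Subtype.val h)
    let σ : Equiv.Perm (N.comap c.fw) := Equiv.ofBijective σf (Finite.injective_iff_bijective.1 hσi)
    have hσ : ∀ x, ((σ x : Cw) : A8) = y8 * (x : Cw) * y8⁻¹ := fun x => rfl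
    have hσ3 : σ ^ 3 = 1 := Equiv.ext fun x => Subtype.ext (Subtype.ext (by
      rw [pow_succ, pow_two, Perm.mul_apply, Perm.mul_apply, hσ, hσ, hσ,
        show y8 * (y8 * (y8 * ((x : Cw) : A8) * y8⁻¹) * y8⁻¹) * y8⁻¹ =
          (y8 * y8 * y8) * ((x : Cw) : A8) * (y8 * y8 * y8)⁻¹ by group, small_facts.2.2.2.2.2.2.1]
      simp))
    let := Fintype.ofFinite (N.comap c.fw)
    have h14 := dvd_support Nat.prime_three σ hσ3
    have hwM : el w8 rfl ∈ N.comap c.fw := by
      show c.fw _ ∈ N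
      rw [show c.fw (el w8 rfl) = 1 from c.πw_Wk]
      exact one_mem _
    have hsupp : σ.supportᶜ = {1, ⟨el w8 rfl, hwM⟩} := by
      ext x
      rw [Finset.mem_compl, mem_support, not_not, Finset.mem_insert, Finset.mem_singleton]
      constructor
      · intro hx
        have hx' := congrArg (fun z : N.comap c.fw => ((z : Cw) : A8)) hx
        simp only [hσ] at hx'
        rw [mul_inv_eq_iff_eq_mul, ← hg x] at hx'
        rcases hEy _ hx'.symm with e | e
        · exact Or.inl (Subtype.ext (Subtype.ext (by rw [← hg x, e]; rfl)))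
        · exact Or.inr (Subtype.ext (Subtype.ext (by rw [← hg x, e]; rfl)))
      · rintro (rfl | rfl) <;> refine Subtype.ext (Subtype.ext ?_) <;> rw [hσ]
        · simp
        · show y8 * w8 * y8⁻¹ = w8
          rw [small_facts.1, mul_inv_cancel_right]
    have hc2 := congrArg Finset.card hsupp
    rw [Finset.card_compl, Finset.card_pair (fun h => by
      have e := congrArg (fun z : N.comap c.fw => ((z : Cw) : A8)) h
      exact (by decide +kernel : (1 : A8) ≠ w8) e), ← Nat.card_eq_fintype_card, h16] at hc2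
    omega
  refine ⟨h32, fun e => ?_⟩
  have hgb : Function.Bijective g := (Nat.bijective_iff_injective_and_card g).2
    ⟨hgi, by rw [h32]; simp⟩
  obtain ⟨x, hx⟩ := hgb.2 e
  have := x.2
  rwa [show (x : Cw) = el (cE e) (hEw e) from Subtype.ext (by rw [← hg x, hx]; rfl)] at this

/-- The centraliser of `v` in the kernel lies in the model. -/
theorem cent_v_in_kernel (N : Subgroup (c.Kw ⧸ zpowers c.Wk)) [N.Normal] (hNil : Group.IsNilpotent N)
    (h8 : ∀ x : Cw, c.fw x ∈ N → (x : A8) ^ 8 = 1) (hM16 : 16 ≤ Nat.card (N.comap c.fw))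
    {k : c.Kw} (hk : c.πw k ∈ N) (hkv : (k : G) * c.φ v8 = c.φ v8 * k) :
    ∃ e, c.φ (cE e) = k ∧ cE e * v8 = v8 * cE e := by
  obtain ⟨hyw, hvw, huw, hww, hvv, hvy, hy3, hy1, hyw', hyu, hyu', hfw, hf2, hf1', hff, huv2, huv1,
    huvf, hvw2, hvw1, hvwf, hv1, hvf, ⟨eu, heu⟩, hE0⟩ := small_facts
  set T : Subgroup c.Kw := N.comap c.πw with hT
  have hTnil : Group.IsNilpotent T := by
    let r : T →* N := (c.πw.comp T.subtype).codRestrict N fun x => x.2
    refine Subgroup.isNilpotent_of_ker_le_center r fun x hx => ?_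
    rw [mem_center_iff]
    intro y
    have h1 : c.πw (x : c.Kw) = 1 := congrArg Subtype.val hx
    exact Subtype.ext (mem_center_iff.1 (c.Wk_center ((QuotientGroup.eq_one_iff _).1 h1)) y)
  let V : c.Kw := c.ιw (el v8 hvw)
  set R : Subgroup T := (centralizer ({V} : Set c.Kw)).subgroupOf T with hR
  let P : Subgroup R := Subgroup.comap (c.Kw.subtype.comp (T.subtype.comp R.subtype)) c.φ.range
  have hPE : ∀ r ∈ P, ∃ e, c.φ (cE e) = ((r : T) : c.Kw) ∧ cE e * v8 = v8 * cE e := by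
    intro r hr
    obtain ⟨a, ha⟩ := (hr : (((r : T) : c.Kw) : G) ∈ c.φ.range)
    change c.φ a = (((r : T) : c.Kw) : G) at ha
    have haw : a * w8 = w8 * a :=
      c.inv_comm (ha ▸ mem_centralizer_singleton_iff.1 ((r : T) : c.Kw).2)
    obtain ⟨e, he⟩ := c.kernel_le_E N h8 (el a haw) (by
      show c.πw (c.ιw (el a haw)) ∈ N
      rw [show c.ιw (el a haw) = ((r : T) : c.Kw) from Subtype.ext ha]
      exact (r : T).2)
    change cE e = a at he
    refine ⟨e, by rw [he, ha], c.inv_comm ?_⟩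
    rw [he, ha]
    exact congrArg Subtype.val (mem_centralizer_singleton_iff.1 r.2)
  suffices hP : P = ⊤ by
    exact hPE ⟨⟨k, hk⟩, mem_centralizer_singleton_iff.2 (Subtype.ext hkv)⟩ (hP ▸ mem_top _)
  by_contra hP
  obtain ⟨r, hrN, hrP⟩ := SetLike.exists_of_lt
    (Group.normalizerCondition_of_isNilpotent P (lt_top_iff_ne_top.2 hP))
  obtain ⟨ru, hru⟩ : ∃ ru : R, (((ru : T) : c.Kw) : G) = c.φ u8 := by
    refine ⟨⟨⟨c.ιw (el u8 huw), ?_⟩, ?_⟩, rfl⟩
    · show c.fw (el u8 huw) ∈ N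
      rw [show el u8 huw = el (cE eu) (E_facts.1 eu) from Subtype.ext heu.symm]
      exact (c.kernel_eq_E N h8 hM16).2 eu
    · show c.ιw (el u8 huw) ∈ centralizer ({V} : Set c.Kw)
      refine mem_centralizer_singleton_iff.2 (Subtype.ext ?_)
      exact c.map_comm ((by decide +kernel : u8 * v8 = v8 * u8))
  have himg : r * ru * r⁻¹ ∈ P := (mem_normalizer_iff.1 hrN ru).1 ⟨u8, hru.symm⟩
  obtain ⟨e, he, hev⟩ := hPE _ himg
  set gr := (((r : T) : c.Kw) : G) with hgr
  have he' : c.φ (cE e) = gr * c.φ u8 * gr⁻¹ := by rw [he]; push_cast; rw [hru]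
  have hconj : IsConj (c.φ u8) (c.φ (cE e)) := isConj_iff.2 ⟨gr, he'.symm⟩
  obtain ⟨he2, hcases⟩ := E_cent_v e hev
  have hgv : gr * c.φ v8 * gr⁻¹ = c.φ v8 := by
    rw [mul_inv_eq_iff_eq_mul]
    exact congrArg Subtype.val (mem_centralizer_singleton_iff.1 r.2)
  rcases hcases with h | h | h | h
  · rw [h, map_one] at he'
    exact (by decide +kernel : u8 ≠ 1) (c.inj (by
      rw [eq_comm, mul_inv_eq_one, mul_eq_left] at he'; rw [he', map_one]))
  · rw [h, eq_comm, mul_inv_eq_iff_eq_mul] at he'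
    obtain ⟨i, hi⟩ := c.cent_V he' (mul_inv_eq_iff_eq_mul.1 hgv)
    exact hrP ⟨cv i, hi⟩
  · have hprod : IsConj (c.φ (u8 * v8)) (c.φ (f1 * v8)) := isConj_iff.2 ⟨gr, by
      rw [map_mul, map_mul, ← h, he']
      calc gr * (c.φ u8 * c.φ v8) * gr⁻¹ = gr * c.φ u8 * gr⁻¹ * (gr * c.φ v8 * gr⁻¹) := by group
        _ = _ := by rw [hgv]⟩
    exact huvf ((c.fpf_iff huv2 huv1).2 (((c.fpf_iff hf2 hf1').1 hff).trans hprod.symm))
  · have h1 : cE e ≠ 1 := by
      intro h'
      exact (h 0) (by rw [h']; rfl)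
    exact c.u_not_conj_w (hconj.trans ((c.fpf_iff he2 h1).1 h).symm)

theorem cent_v_card (N : Subgroup (c.Kw ⧸ zpowers c.Wk)) [N.Normal] (hNil : Group.IsNilpotent N)
    (h8 : ∀ x : Cw, c.fw x ∈ N → (x : A8) ^ 8 = 1) (hM16 : 16 ≤ Nat.card (N.comap c.fw)) :
    Nat.card (N ⊓ centralizer ({c.fw (el v8 small_facts.2.1)} : Set (c.Kw ⧸ zpowers c.Wk)) :
      Subgroup _) ≤ 4 := by
  obtain ⟨hyw, hvw, huw, hww, hvv, hvy, hy3, hy1, hyw', hyu, hyu', hfw, hf2, hf1', hff, huv2, huv1,
    huvf, hvw2, hvw1, hvwf, hv1, hvf, ⟨eu, heu⟩, hE0⟩ := small_facts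
  have hw' : ∀ a b : Fin 2, (bit u8 a * bit d1 b) * w8 = w8 * (bit u8 a * bit d1 b) := by decide +kernel
  let e4 : Fin 2 × Fin 2 → c.Kw ⧸ zpowers c.Wk := fun p => c.fw (el _ (hw' p.1 p.2))
  have hsub : ((N ⊓ centralizer ({c.fw (el v8 hvw)} : Set (c.Kw ⧸ zpowers c.Wk)) : Subgroup _) : Set _) ⊆
      Set.range e4 := by
    rintro n ⟨hn, hnv⟩
    obtain ⟨k, rfl⟩ := QuotientGroup.mk'_surjective (zpowers c.Wk) n
    set V := c.ιw (el v8 hvw) with hV
    have h0 : c.πw k * c.πw V = c.πw V * c.πw k := mem_centralizer_singleton_iff.1 hnv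
    have h1 : c.πw (k * V * k⁻¹ * V⁻¹) = 1 := by
      rw [map_mul, map_mul, map_mul, map_inv, map_inv, h0]
      group
    have hkV : (k : G) * c.φ v8 = c.φ v8 * k := by
      rcases c.πw_eq_one h1 with e | e
      · rw [mul_inv_eq_one, mul_inv_eq_iff_eq_mul] at e; exact congrArg Subtype.val e
      · exfalso
        have e' : (k : G) * c.φ v8 * (k : G)⁻¹ * (c.φ v8)⁻¹ = c.φ w8 := congrArg Subtype.val e
        rw [mul_inv_eq_iff_eq_mul, ← map_mul, ← hvw] at e'
        have hcj : IsConj (c.φ v8) (c.φ (v8 * w8)) := isConj_iff.2 ⟨k, e'⟩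
        exact hvf ((c.fpf_iff hvv hv1).2 (((c.fpf_iff hvw2 hvw1).1 hvwf).trans hcj.symm))
    obtain ⟨e, he, hev⟩ := c.cent_v_in_kernel N hNil h8 hM16 hn hkV
    obtain ⟨a, b, o, hab⟩ := E_cent_v_mod e hev
    refine ⟨(a, b), ?_⟩
    have ek : k = c.ιw (el _ (hw' a b)) * c.Wk ^ (o : ℕ) := by
      apply Subtype.ext
      rw [show (k : G) = c.φ (cE e) from he.symm, hab, map_mul]
      rcases (by decide : ∀ o : Fin 2, o = 0 ∨ o = 1) o with rfl | rfl <;> simp [bit, Wk, el]
    show _ = c.πw k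
    rw [ek, map_mul, map_pow, c.πw_Wk, one_pow, mul_one]
    rfl
  exact (Nat.card_mono (Set.finite_range e4) hsub).trans ((Finite.card_range_le e4).trans (by simp))

/-- The kernel is the image of the normal subgroup of order thirty-two. -/
theorem kernel_shape (N : Subgroup (c.Kw ⧸ zpowers c.Wk)) [N.Normal] (hNil : Group.IsNilpotent N)
    (h8 : ∀ x : Cw, c.fw x ∈ N → (x : A8) ^ 8 = 1) (hM16 : 16 ≤ Nat.card (N.comap c.fw)) :
    Nat.card N = 16 ∧ (∀ k : c.Kw, c.πw k ∈ N → ∃ e, c.φ (cE e) = k) ∧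
      ∀ e, c.πw (c.ιw (el (cE e) (E_facts.1 e))) ∈ N := by
  classical
  obtain ⟨h32, hall⟩ := c.kernel_eq_E N h8 hM16
  obtain ⟨hEw, hEv, hEy, hEmul, hEcw⟩ := E_facts
  have hyw := small_facts.1
  have hsq := card_eq_sq N c.yk (c.fw (el v8 small_facts.2.1))
    (by rw [← pow_two, ← pow_succ, c.yk_cube])
    (by rw [← map_mul, show el v8 small_facts.2.1 * el v8 small_facts.2.1 = 1 from
      Subtype.ext small_facts.2.2.2.2.1, map_one])
    (by
      rw [yk, ← map_mul, ← map_mul, ← map_inv]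
      exact congrArg c.fw (Subtype.ext small_facts.2.2.2.2.2.1))
    (by
      intro n hn hny
      have hmem : n ∈ centralizer ((zpowers c.yk : Subgroup _) : Set (c.Kw ⧸ zpowers c.Wk)) := by
        rw [mem_centralizer_iff]
        rintro _ ⟨i, rfl⟩
        exact ((show Commute c.yk n from mul_inv_eq_iff_eq_mul.1 hny).zpow_left i).eq
      rw [c.cent_yk] at hmem
      obtain ⟨i, rfl⟩ := hmem
      by_contra hne
      have hy3z : c.yk ^ (3 : ℤ) = 1 := by exact_mod_cast c.yk_cube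
      have hyN : c.yk ∈ N := by
        have hdvd : ¬ (3 : ℤ) ∣ i := fun ⟨d, hd⟩ => hne (by
          show c.yk ^ i = 1
          rw [hd, zpow_mul, hy3z, one_zpow])
        obtain ⟨a, b, hab⟩ : IsCoprime i 3 :=
          ((Int.prime_three).coprime_iff_not_dvd.2 hdvd).symm
        have : c.yk = (c.yk ^ i) ^ a := by
          conv_lhs => rw [← zpow_one c.yk, ← hab]
          rw [zpow_add, mul_comm b 3, zpow_mul c.yk (3 : ℤ), hy3z, one_zpow, mul_one, mul_comm,
            zpow_mul]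
        rw [this]
        exact zpow_mem hn a
      have h8' : y8 ^ 8 = 1 := h8 (el y8 hyw) hyN
      revert h8'
      exact (by decide +kernel : y8 ^ 8 = 1 → False))
  have hc4 := c.cent_v_card N hNil h8 hM16
  have hle : Nat.card N ≤ 16 := by
    rw [hsq]
    exact le_trans (Nat.pow_le_pow_left hc4 2) (by norm_num)
  let F : N.comap c.fw →* N := (c.fw.comp (N.comap c.fw).subtype).codRestrict N fun x => x.2
  have hker : Nat.card F.ker ≤ 2 := by
    refine le_trans (Nat.card_le_card_of_injective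
      (fun x : F.ker => (⟨((x : N.comap c.fw) : Cw), congrArg Subtype.val x.2⟩ : c.fw.ker))
      fun a b h => Subtype.ext (Subtype.ext (congrArg (fun z : c.fw.ker => (z : Cw)) h))) c.card_fw_ker
  have h1 := F.ker.card_mul_index
  rw [index_ker, h32] at h1
  have h2 : Nat.card F.range ≤ Nat.card N := Nat.card_le_card_of_injective _ Subtype.val_injective
  have hN16 : Nat.card N = 16 := by nlinarith
  have hr : Nat.card F.range = Nat.card N := by nlinarith
  have hsurj : F.range = ⊤ := Subgroup.eq_top_of_card_eq _ hr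
  refine ⟨hN16, fun k hk => ?_, hall⟩
  obtain ⟨x, hx⟩ := (hsurj ▸ mem_top (⟨c.πw k, hk⟩ : N) : (⟨c.πw k, hk⟩ : N) ∈ F.range)
  obtain ⟨e, he⟩ := c.kernel_le_E N h8 x.1 x.2
  have h' : c.πw ((c.ιw x.1)⁻¹ * k) = 1 := by
    rw [map_mul, map_inv, inv_mul_eq_one]
    exact congrArg Subtype.val hx
  rcases c.πw_eq_one h' with d | d
  · refine ⟨e, ?_⟩
    rw [he]; exact congrArg Subtype.val (inv_mul_eq_one.1 d)
  · obtain ⟨e', he'⟩ := hEmul e
    refine ⟨e', ?_⟩
    rw [he', map_mul, he]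
    exact (congrArg Subtype.val (inv_mul_eq_iff_eq_mul.1 d)).symm

/-- No elementary abelian kernel with quotient of order sixty. -/
theorem no_five (N : Subgroup (c.Kw ⧸ zpowers c.Wk)) [N.Normal] (hidx : N.index = 60)
    (iso : (c.Kw ⧸ zpowers c.Wk) ⧸ N ≃* alternatingGroup (Fin 5))
    (hrange : ∀ k : c.Kw, c.πw k ∈ N → ∃ e, c.φ (cE e) = k)
    (hE : ∀ e, c.πw (c.ιw (el (cE e) (E_facts.1 e))) ∈ N) : False := by
  classical
  obtain ⟨hyw, hvw, huw, hww, hvv, hvy, hy3, hy1, hyw', hyu, hyu', hfw, hf2, hf1', hff, huv2, huv1,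
    huvf, hvw2, hvw1, hvwf, hv1, hvf, ⟨eu, heu⟩, hE0⟩ := small_facts
  set T : Subgroup c.Kw := N.comap c.πw with hT
  let el' : (Fin 2 × Fin 2 × Fin 2 × Fin 2 × Fin 2) → T := fun e =>
    ⟨c.ιw (el (cE e) (E_facts.1 e)), hE e⟩
  have hel : Function.Bijective el' := by
    refine ⟨fun a b h => E_inj (congrArg Subtype.val (c.ιw_inj (congrArg Subtype.val h))), fun t => ?_⟩
    obtain ⟨e, he⟩ := hrange t.1 t.2
    exact ⟨e, Subtype.ext (Subtype.ext he)⟩
  have hT32 : Nat.card T = 32 := by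
    rw [← Nat.card_eq_of_bijective el' hel]; simp
  -- an element of order five
  have : Fact (Nat.Prime 5) := ⟨by norm_num⟩
  have h5 : 5 ∣ Nat.card c.Kw := by
    have h1 : N.index ∣ Nat.card c.Kw :=
      (Subgroup.index_dvd_card N).trans (Subgroup.card_quotient_dvd_card _)
    rw [hidx] at h1
    exact (show 5 ∣ 60 by norm_num).trans h1
  obtain ⟨k5, hk5⟩ := exists_prime_orderOf_dvd_card' 5 h5
  let σe : T ≃* T := MulAut.conjNormal k5
  let σ : Equiv.Perm T := σe.toEquiv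
  have hσv : ∀ t : T, ((σ t : T) : c.Kw) = k5 * t * k5⁻¹ := fun t => MulAut.conjNormal_apply k5 t
  have hpow : ∀ (n : ℕ) (t : T), (((σ ^ n) t : T) : c.Kw) = k5 ^ n * t * (k5 ^ n)⁻¹ := by
    intro n
    induction n with
    | zero => intro t; simp
    | succ n ih => intro t; rw [pow_succ', Perm.mul_apply, hσv, ih, pow_succ']; group
  have hσ5 : σ ^ 5 = 1 := Equiv.ext fun t => Subtype.ext (by
    rw [hpow, ← hk5, pow_orderOf_eq_one]; simp)
  let := Fintype.ofFinite T
  let F : Subgroup T := (centralizer ({k5} : Set c.Kw)).subgroupOf T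
  have hF : ∀ t : T, t ∈ F ↔ σ t = t := by
    intro t
    rw [mem_subgroupOf, mem_centralizer_singleton_iff]
    refine ⟨fun h => Subtype.ext (by rw [hσv, ← h]; group), fun h => ?_⟩
    have h' := congrArg Subtype.val h
    rw [hσv, mul_inv_eq_iff_eq_mul] at h'
    exact h'.symm
  have hcomp : σ.supportᶜ = Finset.univ.filter (· ∈ F) := by
    ext t; simp [hF]
  have hFcard : (σ.supportᶜ).card = Nat.card F := by
    rw [hcomp, Nat.card_eq_fintype_card, Fintype.card_subtype]
  have h1 := dvd_support (by norm_num) σ hσ5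
  have hTc : Fintype.card T = 32 := by rw [← Nat.card_eq_fintype_card, hT32]
  rw [Finset.card_compl, hTc] at hFcard
  have hFd : Nat.card F ∣ 32 := by
    have := card_subgroup_dvd_card F
    rwa [hT32] at this
  have hle : σ.support.card ≤ 32 := hTc ▸ Finset.card_le_univ _
  have hm' : Nat.card F = 2 ∨ Nat.card F = 32 := by
    have hF32 : Nat.card F ≤ 32 := Nat.le_of_dvd (by norm_num) hFd
    obtain ⟨d, hd⟩ := h1
    generalize Nat.card F = n at hFcard hFd hF32 ⊢
    interval_cases n <;> omega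
  have hcent : ∀ t : T, k5 * (t : c.Kw) = t * k5 := by
    rcases hm' with h2 | h32
    · exfalso
      let p : T → Prop := fun t => t * t = 1
      have hp : ∀ t, p (σ t) ↔ p t := fun t => by
        show σe t * σe t = 1 ↔ _
        rw [← map_mul]
        exact MulEquiv.map_eq_one_iff _
      set σ' := σ.subtypePerm hp with hσ'
      have hσ'5 : σ' ^ 5 = 1 := Equiv.ext fun t => Subtype.ext (by
        rw [hσ', Equiv.Perm.subtypePerm_pow]
        show (σ ^ 5) t.1 = t.1
        rw [hσ5]; rfl)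
      have h20 : Fintype.card {t // p t} = 20 := by
        rw [← E_squares]
        refine (Fintype.card_congr ((Equiv.ofBijective el' hel).subtypeEquiv fun e => ?_)).symm
        show cE e * cE e = 1 ↔ el' e * el' e = 1
        rw [Subtype.ext_iff (a1 := el' e * el' e), Subgroup.coe_mul, OneMemClass.coe_one,
          show ((el' e : T) : c.Kw) = c.ιw (el (cE e) (E_facts.1 e)) from rfl, ← map_mul,
          map_eq_one_iff c.ιw c.ιw_inj]
        exact ⟨fun h => Subtype.ext h, fun h => congrArg Subtype.val h⟩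
      have hwT : c.Wk ∈ T := by show c.πw c.Wk ∈ N; rw [c.πw_Wk]; exact one_mem _
      have hw1 : (⟨c.Wk, hwT⟩ : T) ≠ 1 := fun h => by
        have := congrArg (fun t : T => ((t : c.Kw) : G)) h
        change c.φ w8 = 1 at this
        rw [← map_one c.φ] at this
        exact (by decide +kernel : w8 ≠ (1 : A8)) (c.inj this)
      have hwF : (⟨c.Wk, hwT⟩ : T) ∈ F :=
        mem_subgroupOf.2 (mem_centralizer_singleton_iff.2
          ((mem_center_iff.1 (c.Wk_center (mem_zpowers c.Wk))) k5).symm)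
      have hfix2 : σ'.supportᶜ = {⟨1, one_mul 1⟩, ⟨⟨c.Wk, hwT⟩, Subtype.ext c.Wk_sq⟩} := by
        ext t
        rw [Finset.mem_compl, mem_support, not_not, Finset.mem_insert, Finset.mem_singleton]
        constructor
        · intro ht
          have htF : (t : T) ∈ F := (hF _).2 (congrArg Subtype.val ht)
          by_cases ht1 : (t : T) = 1
          · exact Or.inl (Subtype.ext ht1)
          · have e := ((Nat.card_eq_two_iff' (1 : F)).1 h2).unique (y₁ := ⟨t, htF⟩) (y₂ := ⟨_, hwF⟩)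
              (fun h => ht1 (congrArg Subtype.val h)) (fun h => hw1 (congrArg Subtype.val h))
            exact Or.inr (Subtype.ext (congrArg (fun z : F => (z : T)) e))
        · rintro (rfl | rfl) <;> refine Subtype.ext ?_
          · exact map_one σe
          · exact (hF _).1 hwF
      have h3 := dvd_support (by norm_num) σ' hσ'5
      have h4 := congrArg Finset.card hfix2
      rw [Finset.card_compl, h20, Finset.card_pair (fun h => hw1 (congrArg Subtype.val h).symm)] at h4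
      omega
    · intro t
      have : F = ⊤ := Subgroup.eq_top_of_card_eq _ (by rw [h32, hT32])
      exact (mem_centralizer_singleton_iff.1 (mem_subgroupOf.1 (this ▸ mem_top t : t ∈ F))).symm
  let Kc : Subgroup c.Kw := centralizer (T : Set c.Kw)
  have hKcn : Kc.Normal := inferInstance
  let θ : c.Kw →* alternatingGroup (Fin 5) :=
    iso.toMonoidHom.comp ((QuotientGroup.mk' N).comp c.πw)
  have hθs : Function.Surjective θ :=
    iso.surjective.comp ((QuotientGroup.mk'_surjective N).comp (QuotientGroup.mk'_surjective _))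
  have hθ : ∀ k, θ k = 1 → k ∈ T := by
    intro k hk
    have : QuotientGroup.mk' N (c.πw k) = 1 := iso.injective (hk.trans (map_one iso).symm)
    exact (QuotientGroup.eq_one_iff (c.πw k)).1 this
  have hn : (Kc.map θ).Normal := hKcn.map θ hθs
  have hsimple : IsSimpleGroup (alternatingGroup (Fin 5)) := alternatingGroup.isSimpleGroup (by simp)
  have htop : Kc.map θ = ⊤ := by
    refine hn.eq_bot_or_eq_top.resolve_left fun h => ?_
    have hk5c : k5 ∈ Kc := mem_centralizer_iff.2 fun t ht => (hcent ⟨t, ht⟩).symm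
    have h1 : θ k5 = 1 := by
      have := mem_map_of_mem θ hk5c
      rwa [h, mem_bot] at this
    obtain ⟨e, he⟩ := hrange k5 (hθ _ h1)
    have h8 : cE e ^ 8 = 1 := (by decide +kernel : ∀ e, cE e ^ 8 = 1) e
    have : k5 ^ 8 = 1 := Subtype.ext (by
      rw [SubmonoidClass.coe_pow, ← he, ← map_pow, h8, map_one]; rfl)
    have h9 := orderOf_dvd_of_pow_eq_one this
    rw [hk5] at h9
    norm_num at h9
  set Y := c.ιw (el y8 hyw) with hY
  obtain ⟨kc, hkc, hkcy⟩ : ∃ kc ∈ Kc, θ kc = θ Y := mem_map.1 (htop ▸ mem_top _)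
  have hyT : kc⁻¹ * Y ∈ T := hθ _ (by rw [map_mul, map_inv, hkcy, inv_mul_cancel])
  obtain ⟨e, he⟩ := hrange _ hyT
  set U := c.ιw (el (cE eu) (E_facts.1 eu)) with hU
  have hu : U ∈ T := hE eu
  have hteu : kc⁻¹ * Y * U * (kc⁻¹ * Y)⁻¹ ∈ T := mul_mem (mul_mem hyT hu) (inv_mem hyT)
  have hcomm : ∀ t ∈ T, kc * t * kc⁻¹ = t := fun t ht => by
    rw [← mem_centralizer_iff.1 hkc t ht, mul_inv_cancel_right]
  have hkey : Y * U * Y⁻¹ = kc⁻¹ * Y * U * (kc⁻¹ * Y)⁻¹ := by
    conv_rhs => rw [← hcomm _ hteu]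
    group
  have hA : y8 * u8 * y8⁻¹ = cE e * u8 * (cE e)⁻¹ := by
    apply c.inj
    rw [map_mul, map_mul, map_inv, map_mul, map_mul, map_inv, he, ← heu]
    exact congrArg Subtype.val hkey
  obtain h | h := (by decide +kernel :
      ∀ e, cE e * u8 * (cE e)⁻¹ = u8 ∨ cE e * u8 * (cE e)⁻¹ = u8 * w8) e
  · exact hyu (hA.trans h)
  · exact hyu' (hA.trans h)

/-- The centraliser of a fixed-point-free involution lies in the image. -/
theorem cent_w {g : G} (hg : g * c.φ w8 = c.φ w8 * g) : ∃ i, c.φ (cw i) = g := by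
  classical
  have himage : 96 ≤ Nat.card c.fw.range := by
    have h1 := c.fw.ker.card_mul_index
    rw [index_ker, card_Cw] at h1
    have h2 := c.card_fw_ker
    nlinarith
  have hrel : ∀ (N : Subgroup (c.Kw ⧸ zpowers c.Wk)) [N.Normal],
      (N.comap c.fw).index ∣ N.index ∧
        Nat.card (N.comap c.fw) * (N.comap c.fw).index = 192 := by
    intro N hN
    refine ⟨?_, ?_⟩
    · rw [Subgroup.index_comap]; exact relIndex_dvd_index_of_normal _ _
    · rw [card_mul_index, card_Cw]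
  rcases S3331.result (zpowers c.yk) (by rw [Nat.card_zpowers, c.yk_order]) c.cent_yk with
    ⟨N, hN, hnil, hcop, hquot⟩ | ⟨N, hN, hab, hsq, ⟨iso⟩⟩ | ⟨iso⟩
  · have hidx : N.index ≤ 6 := by
      rw [Subgroup.index_eq_card]
      rcases hquot with h | ⟨⟨e⟩⟩
      · omega
      · rw [Nat.card_congr e.toEquiv, Nat.card_perm, Nat.card_fin]; rfl
    have h8 : ∀ x : Cw, c.fw x ∈ N → (x : A8) ^ 8 = 1 := by
      intro x hx
      have h1 : orderOf x ∣ 192 := card_Cw ▸ _root_.orderOf_dvd_natCard x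
      have h2 : orderOf (c.fw x) ∣ Nat.card N := Subgroup.orderOf_dvd_natCard N hx
      have h3 : orderOf (c.fw x) ∣ 2 ^ 6 := (hcop.coprime_dvd_left h2).dvd_of_dvd_mul_left
        (show orderOf (c.fw x) ∣ 3 * 2 ^ 6 from (orderOf_map_dvd c.fw x).trans h1)
      have e1 : c.fw (x ^ 2 ^ 6) = 1 := by rw [map_pow]; exact orderOf_dvd_iff_pow_eq_one.1 h3
      apply pow_eight_of_two_power _ (k := 7)
      rw [show (2 : ℕ) ^ 7 = 2 ^ 6 * 2 from pow_succ 2 6, pow_mul, pow_two]
      rcases c.fw_eq_one e1 with d | d <;> rw [SubmonoidClass.coe_pow] at d <;> rw [d]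
      · exact one_mul 1
      · exact small_facts.2.2.2.1
    have hM16 : 16 ≤ Nat.card (N.comap c.fw) := by
      obtain ⟨h1, h2⟩ := hrel N
      have h3 := Nat.le_of_dvd (Nat.pos_of_ne_zero index_ne_zero_of_finite) h1
      nlinarith
    obtain ⟨h16, hrange, -⟩ := c.kernel_shape N hnil h8 hM16
    have hsurj : c.fw.range = ⊤ := by
      refine Subgroup.eq_top_of_le_card _ ?_
      have := N.card_mul_index
      nlinarith
    set k : c.Kw := ⟨g, mem_centralizer_singleton_iff.2 hg⟩ with hk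
    obtain ⟨x, hx⟩ := (hsurj ▸ mem_top (c.πw k) : c.πw k ∈ c.fw.range)
    have h' : c.πw ((c.ιw x)⁻¹ * k) = 1 := by
      rw [map_mul, map_inv, inv_mul_eq_one]; exact hx
    obtain ⟨a, ha, haw⟩ : ∃ a : A8, c.φ a = g ∧ a * w8 = w8 * a := by
      rcases c.πw_eq_one h' with d | d
      · exact ⟨x, congrArg Subtype.val (inv_mul_eq_one.1 d), mem_centralizer_singleton_iff.1 x.2⟩
      · refine ⟨x * w8, ?_, mem_centralizer_singleton_iff.1 (mul_mem x.2 (el w8 rfl).2)⟩
        rw [map_mul]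
        exact (congrArg Subtype.val (inv_mul_eq_iff_eq_mul.1 d)).symm
    obtain ⟨j, hj⟩ := cw_complete a haw
    exact ⟨j, by rw [hj, ha]⟩
  · exfalso
    have hnil : Group.IsNilpotent N := by
      let : CommGroup N := { (inferInstance : Group N) with mul_comm := hab.is_comm.comm }
      exact CommGroup.isNilpotent
    have h8 : ∀ x : Cw, c.fw x ∈ N → (x : A8) ^ 8 = 1 := by
      intro x hx
      have e1 : c.fw (x ^ 2) = 1 := by rw [map_pow]; exact hsq _ hx
      refine (pow_mul (x : A8) 2 4).trans ?_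
      rcases c.fw_eq_one e1 with d | d
      · change ((x : A8)) ^ 2 = 1 at d
        rw [d, one_pow]
      · change ((x : A8)) ^ 2 = w8 at d
        rw [d, show (4 : ℕ) = 2 * 2 from rfl, pow_mul, pow_two, pow_two, small_facts.2.2.2.1, one_mul]
    have hidx : N.index = 60 := by
      rw [Subgroup.index_eq_card, Nat.card_congr iso.toEquiv, nat_card_alternatingGroup, Nat.card_fin]
      rfl
    have hM16 : 16 ≤ Nat.card (N.comap c.fw) := by
      obtain ⟨h1, h2⟩ := hrel N
      rw [hidx] at h1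
      have h3 : (N.comap c.fw).index ∣ 12 := by
        have := Nat.dvd_gcd (Dvd.intro_left _ h2) h1
        simpa using this
      have h4 := Nat.le_of_dvd (by norm_num) h3
      nlinarith
    obtain ⟨h16, hrange, hE⟩ := c.kernel_shape N hnil h8 hM16
    exact c.no_five N hidx iso hrange hE
  · exfalso
    have h168 : Nat.card (Matrix.ProjectiveSpecialLinearGroup (Fin 2) (ZMod 7)) = 168 := by
      have : Fact (Nat.Prime 7) := ⟨by norm_num⟩
      have h := Linear.card_PSL_two_mul (F := ZMod 7)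
      rw [ZMod.card] at h
      rw [show Nat.gcd 2 (7 - 1) = 2 from rfl, show 7 * (7 ^ 2 - 1) = 2 * 168 from rfl] at h
      omega
    obtain ⟨iso⟩ := iso
    have h1 := card_subgroup_dvd_card c.fw.range
    rw [Nat.card_congr iso.toEquiv, h168] at h1
    have h2 : Nat.card c.fw.range ∣ 192 := card_Cw ▸ card_range_dvd c.fw
    have h3 := Nat.le_of_dvd (Nat.gcd_pos_of_pos_left 192 (by norm_num : 0 < 168)) (Nat.dvd_gcd h1 h2)
    rw [show Nat.gcd 168 192 = 24 from rfl] at h3
    omega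

end Ctx

end Cfsg.Agent.H70.AltEight
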