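import Cfsg.Agent.H70.AltEight.Five
import Cfsg.Agent.Coprime.Generation

/-!
The centraliser of a point stabiliser `A₄` of the `A₅` component, and of its Klein group.
-/

set_option autoImplicit false
set_option maxRecDepth 4000

namespace Cfsg.Agent.H70.AltEight

open Equiv Equiv.Perm Subgroup

universe u

variable {G : Type u} [Group G]

namespace Setup

variable (S : Setup G)

/-- The centraliser of the image of a point stabiliser. -/
def X (i : Fin 5) : Subgroup G := centralizer (S.ψ '' {b | sign b = 1 ∧ b i = i})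

theorem mem_X {i : Fin 5} {x : G} :
    x ∈ S.X i ↔ ∀ b, sign b = 1 → b i = i → x * S.ψ b = S.ψ b * x := by
  simp only [X, mem_centralizer_iff, Set.forall_mem_image, Set.mem_ofPred_eq, and_imp]
  exact forall_congr' fun b => forall_congr' fun _ => forall_congr' fun _ => eq_comm

theorem z_mem_X (i : Fin 5) : S.z ∈ S.X i := S.mem_X.2 fun _ hb _ => (S.ψ_comm hb).symm

theorem X_conj (σ : Perm (Fin 5)) {i : Fin 5} {x : G} (hx : x ∈ S.X i) :
    S.ψ σ * x * (S.ψ σ)⁻¹ ∈ S.X (σ i) := by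
  refine S.mem_X.2 fun b hb hbi => ?_
  have h := S.mem_X.1 hx (σ⁻¹ * b * σ) (by rw [map_mul, map_mul, hb, mul_one, map_inv, inv_mul_cancel])
    (by simp [hbi])
  rw [map_mul, map_mul, map_inv] at h
  calc S.ψ σ * x * (S.ψ σ)⁻¹ * S.ψ b
      = S.ψ σ * (x * ((S.ψ σ)⁻¹ * S.ψ b * S.ψ σ)) * (S.ψ σ)⁻¹ := by group
    _ = _ := by rw [h]; group

theorem four_comm_r {x : G} (hx : x ∈ S.X 4) : x * S.r = S.r * x :=
  S.mem_X.1 hx cr sign_cr klein_gen_stab.2.2.2.2.2

theorem X_four_comm_z {x : G} (hx : x ∈ S.X 4) (hz : x * S.z = S.z * x) :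
    ∃ k : Fin 3, x = S.z ^ (k : ℕ) := by
  obtain ⟨k, b, hb, rfl⟩ := S.comm_z_iff.1 hz
  obtain ⟨h1, h1', h2, h2', h3, h3'⟩ := klein_gen_stab
  have key : ∀ c : Perm (Fin 5), sign c = 1 → c 4 = 4 → b * c = c * b := fun c hc hc4 => by
    have hzk : Commute (S.z ^ (k : ℕ)) (S.ψ c) := (Commute.pow_left (S.ψ_comm hc).symm _)
    have h := S.mem_X.1 hx c hc hc4
    rw [mul_assoc, ← mul_assoc (S.ψ c), ← hzk.eq, mul_assoc, mul_left_cancel_iff] at h
    exact S.ψ_inj (by rw [map_mul, map_mul]; exact h)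
  refine ⟨k, ?_⟩
  rw [cent_stab_four b (key _ h1 h1') (key _ h2 h2') (key _ h3 h3'), map_one, mul_one]

theorem X_four_not_invert {x : G} (hx : x ∈ S.X 4) : x * S.z * x⁻¹ ≠ S.z⁻¹ := by
  intro h
  obtain ⟨k, b, hb, rfl⟩ := S.inverts_iff.1 h
  obtain ⟨h1, h1', h2, h2', h3, h3'⟩ := klein_gen_stab
  have key : ∀ c : Perm (Fin 5), sign c = 1 → c 4 = 4 → b * c = c * b := fun c hc hc4 => by
    have hzk : Commute (S.z ^ (k : ℕ)) (S.ψ c) := (Commute.pow_left (S.ψ_comm hc).symm _)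
    have h := S.mem_X.1 hx c hc hc4
    rw [mul_assoc, ← mul_assoc (S.ψ c), ← hzk.eq, mul_assoc, mul_left_cancel_iff] at h
    exact S.ψ_inj (by rw [map_mul, map_mul]; exact h)
  rw [cent_stab_four b (key _ h1 h1') (key _ h2 h2') (key _ h3 h3'), map_one] at hb
  exact absurd hb (by decide)

/-- `b ↦ t ψ(b) t`. -/
def tψ : Perm (Fin 5) →* G := (MulAut.conj S.t).toMonoidHom.comp S.ψ

theorem tψ_apply (b : Perm (Fin 5)) : S.tψ b = S.t * S.ψ b * S.t := S.conj_t _

theorem tψ_cr : S.tψ cr = S.z := by rw [S.tψ_apply]; exact S.t_r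

theorem tψ_inj : Function.Injective S.tψ := (MulAut.conj S.t).injective.comp S.ψ_inj

theorem tψ_comm_r {b : Perm (Fin 5)} (hb : sign b = 1) : S.tψ b * S.r = S.r * S.tψ b :=
  S.comm_r_iff.2 ⟨0, b, hb, by simp [S.tψ_apply]⟩

theorem r_pow_three : S.r ^ 3 = 1 := by
  rw [Setup.r, ← map_pow, show cr ^ 3 = 1 by decide, map_one]

theorem r_pow_inj {k : Fin 3} (h : S.r ^ (k : ℕ) = 1) : k = 0 := by
  rw [Setup.r, ← map_pow, ← map_one S.ψ] at h
  exact (by decide : ∀ k : Fin 3, cr ^ (k : ℕ) = 1 → k = 0) k (S.ψ_inj h)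

/-- The projection of `X₄` to the component of `C(r)`. -/
def proj4 : Subgroup (Perm (Fin 5)) where
  carrier := {b | sign b = 1 ∧ ∃ k : ℕ, S.r ^ k * S.tψ b ∈ S.X 4}
  one_mem' := ⟨map_one _, 0, by simp⟩
  mul_mem' {a b} ha hb := by
    obtain ⟨hsa, k, hk⟩ := ha
    obtain ⟨hsb, l, hl⟩ := hb
    refine ⟨by rw [map_mul, hsa, hsb, one_mul], k + l, ?_⟩
    have hc : Commute (S.tψ a) (S.r ^ l) := (Commute.pow_right (S.tψ_comm_r hsa) l)
    have e : S.r ^ (k + l) * S.tψ (a * b) = S.r ^ k * S.tψ a * (S.r ^ l * S.tψ b) := by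
      rw [map_mul, pow_add]
      calc S.r ^ k * S.r ^ l * (S.tψ a * S.tψ b)
          = S.r ^ k * (S.r ^ l * S.tψ a) * S.tψ b := by group
        _ = _ := by rw [← hc.eq]; group
    rw [e]
    exact mul_mem hk hl
  inv_mem' {a} ha := by
    obtain ⟨hsa, k, hk⟩ := ha
    refine ⟨by rw [map_inv, hsa, inv_one], 2 * k, ?_⟩
    have hc : Commute (S.tψ a) (S.r ^ k) := (Commute.pow_right (S.tψ_comm_r hsa) k)
    have e : S.r ^ (2 * k) * S.tψ a⁻¹ = (S.r ^ k * S.tψ a)⁻¹ := by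
      rw [mul_inv_rev, map_inv, ← (hc.inv_left.inv_right).eq.symm,
        eq_comm.1 (show (S.r ^ k)⁻¹ = S.r ^ (2 * k) from ?_)]
      rw [inv_eq_iff_mul_eq_one, ← pow_add, show k + 2 * k = 3 * k by omega, pow_mul,
        S.r_pow_three, one_pow]
    rw [e]
    exact inv_mem hk

theorem mem_proj4 {b : Perm (Fin 5)} :
    b ∈ S.proj4 ↔ sign b = 1 ∧ ∃ k : ℕ, S.r ^ k * S.tψ b ∈ S.X 4 := Iff.rfl

theorem X_four_form {x : G} (hx : x ∈ S.X 4) :
    ∃ (k : Fin 3) (b : Perm (Fin 5)), b ∈ S.proj4 ∧ x = S.r ^ (k : ℕ) * S.tψ b := by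
  obtain ⟨k, b, hb, e⟩ := S.comm_r_iff.1 (S.four_comm_r hx)
  rw [← S.tψ_apply] at e
  exact ⟨k, b, ⟨hb, k, e ▸ hx⟩, e⟩

theorem proj4_unique {k : Fin 3} (h : S.r ^ (k : ℕ) ∈ S.X 4) : k = 0 := by
  have hz : S.r ^ (k : ℕ) * S.z = S.z * S.r ^ (k : ℕ) :=
    (Commute.pow_left (S.ψ_comm sign_cr) (k : ℕ)).eq
  obtain ⟨m, hm⟩ := S.X_four_comm_z h hz
  have := (S.normal_eq_iff (k := m) (l := 0) (a := 1) (b := cr ^ (k : ℕ))).1 (by
    simp [← hm, Setup.r])
  exact (by decide : ∀ k : Fin 3, (1 : Perm (Fin 5)) = cr ^ (k : ℕ) → k = 0) k this.2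

theorem cr_mem_proj4 : cr ∈ S.proj4 := ⟨sign_cr, 0, by simp [S.tψ_cr, S.z_mem_X]⟩

theorem proj4_not_invert {b : Perm (Fin 5)} (hb : b ∈ S.proj4) : b * cr * b⁻¹ ≠ cr⁻¹ := by
  intro h
  obtain ⟨hs, k, hk⟩ := hb
  apply S.X_four_not_invert hk
  have e : S.tψ b * S.z * (S.tψ b)⁻¹ = S.z⁻¹ := by
    rw [← S.tψ_cr, ← map_inv, ← map_mul, ← map_mul, h, map_inv]
  have hc : Commute (S.r ^ k) S.z⁻¹ := (Commute.pow_left (S.ψ_comm sign_cr) k).inv_right
  calc S.r ^ k * S.tψ b * S.z * (S.r ^ k * S.tψ b)⁻¹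
      = S.r ^ k * (S.tψ b * S.z * (S.tψ b)⁻¹) * (S.r ^ k)⁻¹ := by group
    _ = _ := by rw [e, hc.eq]; group

theorem proj4_fix {b : Perm (Fin 5)} (hb : b ∈ S.proj4) : b 3 = 3 ∨ b 4 = 4 := by
  by_contra h
  push Not at h
  obtain ⟨i, hi⟩ := exists_inverter b hb.1 h.1 h.2
  exact S.proj4_not_invert (word_mem S.cr_mem_proj4 hb i) hi

/-- Either `X₄ = ⟨z⟩` or `X₄` is a point stabiliser in the component of `C(r)`. -/
theorem X_four_cases : (∀ x ∈ S.X 4, ∃ k : Fin 3, x = S.z ^ (k : ℕ)) ∨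
    ∃ a : Fin 5, (a = 3 ∨ a = 4) ∧
      ∀ x, x ∈ S.X 4 ↔ ∃ b, sign b = 1 ∧ b a = a ∧ x = S.tψ b := by
  by_cases hall : ∀ b ∈ S.proj4, b 3 = 3 ∧ b 4 = 4
  · refine Or.inl fun x hx => ?_
    obtain ⟨k, b, hb, rfl⟩ := S.X_four_form hx
    have hbz : S.tψ b ∈ S.X 4 := by
      rcases cr_cases b hb.1 (hall b hb).1 (hall b hb).2 with rfl | rfl | rfl
      · rw [map_one]; exact one_mem _
      · rw [S.tψ_cr]; exact S.z_mem_X 4
      · rw [map_inv, S.tψ_cr]; exact inv_mem (S.z_mem_X 4)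
    have hk : k = 0 := S.proj4_unique (by
      have := mul_mem hx (inv_mem hbz)
      rwa [mul_inv_cancel_right] at this)
    subst hk
    rcases cr_cases b hb.1 (hall b hb).1 (hall b hb).2 with rfl | rfl | rfl
    · exact ⟨0, by simp⟩
    · exact ⟨1, by simp [S.tψ_cr]⟩
    · exact ⟨2, by simp [S.tψ_cr, S.inv_z]⟩
  · refine Or.inr ?_
    push Not at hall
    obtain ⟨b₀, hb₀, hb₀'⟩ := hall
    obtain ⟨a, a', hcase, ha, ha'⟩ : ∃ a a' : Fin 5, ((a = 3 ∧ a' = 4) ∨ (a = 4 ∧ a' = 3)) ∧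
        b₀ a = a ∧ b₀ a' ≠ a' := by
      rcases S.proj4_fix hb₀ with h | h
      · exact ⟨3, 4, Or.inl ⟨rfl, rfl⟩, h, hb₀' h⟩
      · exact ⟨4, 3, Or.inr ⟨rfl, rfl⟩, h, fun h3 => hb₀' h3 h⟩
    have ha34 : a = 3 ∨ a = 4 := hcase.imp And.left And.left
    have hsub : ∀ b ∈ S.proj4, b a = a := by
      intro b hb
      by_contra hne
      rcases hcase with ⟨rfl, rfl⟩ | ⟨rfl, rfl⟩
      · obtain ⟨h1, h2⟩ := stab_pair b₀ b ha ha' ((S.proj4_fix hb).resolve_left hne) hne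
        exact (S.proj4_fix (mul_mem hb₀ hb)).elim h1 h2
      · obtain ⟨h1, h2⟩ := stab_pair b b₀ ((S.proj4_fix hb).resolve_right hne) hne ha ha'
        exact (S.proj4_fix (mul_mem hb hb₀)).elim h1 h2
    have hfull : ∀ g : Perm (Fin 5), sign g = 1 → g a = a → g ∈ S.proj4 := by
      intro g hg hga
      have hne : ∀ c : Perm (Fin 5), c 3 = 3 → c 4 = 4 → b₀ ≠ c := by
        rintro c h3 h4 rfl
        rcases hcase with ⟨rfl, rfl⟩ | ⟨rfl, rfl⟩
        · exact ha' h4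
        · exact ha' h3
      obtain ⟨i, k, j, l, rfl⟩ := stab_gen a ha34 b₀ hb₀.1 ha
        (hne 1 rfl rfl) (hne cr (by decide) (by decide)) (hne cr⁻¹ (by decide) (by decide)) g hg hga
      exact mul_mem (mul_mem (mul_mem (pow_mem S.cr_mem_proj4 _) (pow_mem hb₀ _))
        (pow_mem S.cr_mem_proj4 _)) (pow_mem hb₀ _)
    have hpure : ∀ g : Perm (Fin 5), sign g = 1 → g a = a → S.tψ g ∈ S.X 4 := by
      intro g hg hga
      obtain ⟨j, hj⟩ := stab_sq a ha34 g hg hga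
      have hca : cr a = a := by rcases ha34 with rfl | rfl <;> decide
      set v := g * cr ^ (j : ℕ) with hv
      have hvs : sign v = 1 := by rw [hv, map_mul, map_pow, hg, sign_cr, one_pow, one_mul]
      have hva : v a = a := by
        rw [hv, Perm.mul_apply, Perm.pow_apply_eq_self_of_apply_eq_self hca, hga]
      obtain ⟨-, k, hk⟩ := hfull v hvs hva
      have hc : Commute (S.tψ v) (S.r ^ k) := (Commute.pow_right (S.tψ_comm_r hvs) k)
      have h2 : S.r ^ (k * 2) ∈ S.X 4 := by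
        have := pow_mem hk 2
        rwa [hc.symm.mul_pow, ← map_pow, pow_two v, hj, map_one, mul_one, ← pow_mul] at this
      have hr : S.r ^ k = 1 := by
        have e : S.r ^ k = (S.r ^ (k * 2)) ^ 2 := by
          rw [← pow_mul, show k * 2 * 2 = k + 3 * k by omega, pow_add, pow_mul S.r 3,
            S.r_pow_three, one_pow, mul_one]
        have h3 : S.r ^ ((⟨k % 3, Nat.mod_lt _ (by norm_num)⟩ : Fin 3) : ℕ) ∈ S.X 4 := by
          show S.r ^ (k % 3) ∈ _
          rw [← pow_eq_pow_mod k S.r_pow_three, e]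
          exact pow_mem h2 2
        have h4 := congrArg Fin.val (S.proj4_unique h3)
        rw [pow_eq_pow_mod k S.r_pow_three]
        simp only [Fin.val_zero] at h4
        rw [h4, pow_zero]
      rw [hr, one_mul] at hk
      have := mul_mem hk (inv_mem (pow_mem (S.z_mem_X 4) (j : ℕ)))
      rwa [← S.tψ_cr, ← map_pow, ← map_inv, ← map_mul, hv, mul_inv_cancel_right] at this
    refine ⟨a, ha34, fun x => ⟨fun hx => ?_, ?_⟩⟩
    · obtain ⟨k, b, hb, rfl⟩ := S.X_four_form hx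
      have hba := hsub b hb
      have hk : k = 0 := S.proj4_unique (by
        have := mul_mem hx (inv_mem (hpure b hb.1 hba))
        rwa [mul_inv_cancel_right] at this)
      exact ⟨b, hb.1, hba, by rw [hk]; simp⟩
    · rintro ⟨b, hb, hba, rfl⟩
      exact hpure b hb hba

/-- The centraliser of the Klein group of `A₄`. -/
def CV : Subgroup G := centralizer ({S.ψ u5, S.ψ v5} : Set G)

theorem mem_CV {g : G} : g ∈ S.CV ↔ g * S.ψ u5 = S.ψ u5 * g ∧ g * S.ψ v5 = S.ψ v5 * g := by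
  simp [CV, mem_centralizer_iff, eq_comm]

theorem zk_comm {c : Perm (Fin 5)} (hc : sign c = 1) (k : ℕ) (b : Perm (Fin 5))
    (h : S.z ^ k * S.ψ b * S.ψ c = S.ψ c * (S.z ^ k * S.ψ b)) : b * c = c * b := by
  have hzk : Commute (S.z ^ k) (S.ψ c) := (Commute.pow_left (S.ψ_comm hc).symm _)
  rw [mul_assoc, ← mul_assoc (S.ψ c), ← hzk.eq, mul_assoc, mul_left_cancel_iff] at h
  exact S.ψ_inj (by rw [map_mul, map_mul]; exact h)

theorem CV_comm_z {g : G} (hg : g ∈ S.CV) (hz : g * S.z = S.z * g) :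
    ∃ (k : Fin 3) (b : Perm (Fin 5)), InKlein b ∧ g = S.z ^ (k : ℕ) * S.ψ b := by
  obtain ⟨k, b, hb, rfl⟩ := S.comm_z_iff.1 hz
  obtain ⟨h1, -, h2, -, -, -⟩ := klein_gen_stab
  obtain ⟨e1, e2⟩ := S.mem_CV.1 hg
  exact ⟨k, b, klein_cent b (S.zk_comm h1 _ _ e1) (S.zk_comm h2 _ _ e2), rfl⟩

theorem CV_not_invert {g : G} (hg : g ∈ S.CV) : g * S.z * g⁻¹ ≠ S.z⁻¹ := by
  intro h
  obtain ⟨k, b, hb, rfl⟩ := S.inverts_iff.1 h
  obtain ⟨h1, -, h2, -, -, -⟩ := klein_gen_stab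
  obtain ⟨e1, e2⟩ := S.mem_CV.1 hg
  have := (klein_even b (klein_cent b (S.zk_comm h1 _ _ e1) (S.zk_comm h2 _ _ e2))).1
  rw [hb] at this
  exact absurd this (by decide)

theorem z_mem_CV : S.z ∈ S.CV :=
  S.mem_CV.2 ⟨(S.ψ_comm klein_gen_stab.1).symm, (S.ψ_comm klein_gen_stab.2.2.1).symm⟩

theorem klein_mem_CV {b : Perm (Fin 5)} (hb : InKlein b) : S.ψ b ∈ S.CV := by
  obtain ⟨h1, h2⟩ : b * u5 = u5 * b ∧ b * v5 = v5 * b := by
    rcases hb with rfl | rfl | rfl | rfl <;> decide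
  exact S.mem_CV.2 ⟨by rw [← map_mul, h1, map_mul], by rw [← map_mul, h2, map_mul]⟩

theorem X_four_le_CV : S.X 4 ≤ S.CV := fun _ hx =>
  S.mem_CV.2 ⟨S.mem_X.1 hx u5 klein_gen_stab.1 klein_gen_stab.2.1,
    S.mem_X.1 hx v5 klein_gen_stab.2.2.1 klein_gen_stab.2.2.2.1⟩

theorem mem_X_four_of_CV {g : G} (hg : g ∈ S.CV) (hr : g * S.r = S.r * g) : g ∈ S.X 4 := by
  refine S.mem_X.2 fun b hb hb4 => ?_
  obtain ⟨j, v, hv, rfl⟩ := stab_four_decomp b hb hb4
  obtain ⟨e1, e2⟩ := S.mem_CV.1 hg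
  have hcv : Commute g (S.ψ v) := by
    rcases hv with rfl | rfl | rfl | rfl
    · simp
    · exact e1
    · exact e2
    · rw [map_mul]; exact Commute.mul_right e1 e2
  rw [map_mul, map_pow]
  exact (hcv.mul_right (Commute.pow_right hr _)).eq

section Finite

variable [Finite G]

omit [Finite G] in
theorem card_cent_zr : ∀ i j : Fin 3, i ≠ 0 → j ≠ 0 →
    Nat.card (centralizer ({S.z ^ (i : ℕ) * S.r ^ (j : ℕ)} : Set G)) = 18 := by
  have hy := S.card_y
  have hrz : Commute S.r S.z := S.ψ_comm sign_cr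
  have h34 : Nat.card (centralizer ({S.z⁻¹ * S.r} : Set G)) = 18 := by
    rw [← hy, ← centralizer_conj_card (S.ψ (swap 3 4)) (S.z * S.ψ cr)]
    have e : S.ψ (swap 3 4) * (S.z * S.ψ cr) * (S.ψ (swap 3 4))⁻¹ = S.z⁻¹ * S.r := by
      rw [show S.ψ (swap 3 4) * (S.z * S.ψ cr) * (S.ψ (swap 3 4))⁻¹ =
        (S.ψ (swap 3 4) * S.z * (S.ψ (swap 3 4))⁻¹) * (S.ψ (swap 3 4) * S.ψ cr * (S.ψ (swap 3 4))⁻¹) by
        group, S.ψ_inv (by decide), ← map_inv, ← map_mul, ← map_mul,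
        show swap (3 : Fin 5) 4 * cr * (swap (3 : Fin 5) 4)⁻¹ = cr by decide +kernel, Setup.r]
    rw [e]
  have hr2 : S.r ^ 2 = S.r⁻¹ := by rw [eq_inv_iff_mul_eq_one, ← pow_succ, S.r_pow_three]
  intro i j hi hj
  rcases (by decide : ∀ i : Fin 3, i ≠ 0 → i = 1 ∨ i = 2) i hi with rfl | rfl <;>
    rcases (by decide : ∀ i : Fin 3, i ≠ 0 → i = 1 ∨ i = 2) j hj with rfl | rfl <;>
    simp only [Fin.val_one, Fin.val_two, pow_one, ← S.inv_z, hr2]
  · exact hy
  · rw [← centralizer_inv_eq, mul_inv_rev, inv_inv, hrz.inv_right.eq]; exact h34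
  · exact h34
  · rw [← centralizer_inv_eq, mul_inv_rev, inv_inv, inv_inv, hrz.eq]; exact hy

/-- The abelian group `⟨z, r⟩`. -/
def Dz : Subgroup G := closure {S.z, S.r}

omit [Finite G] in
theorem z_mem_Dz : S.z ∈ S.Dz := subset_closure (by simp)

omit [Finite G] in
theorem r_mem_Dz : S.r ∈ S.Dz := subset_closure (by simp)

omit [Finite G] in
theorem mem_Dz {d : G} (hd : d ∈ S.Dz) :
    ∃ i j : Fin 3, d = S.z ^ (i : ℕ) * S.r ^ (j : ℕ) := by
  have hrz : Commute S.r S.z := S.ψ_comm sign_cr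
  have red : ∀ i j : ℕ, ∃ i' j' : Fin 3, S.z ^ i * S.r ^ j = S.z ^ (i' : ℕ) * S.r ^ (j' : ℕ) :=
    fun i j => ⟨⟨i % 3, Nat.mod_lt _ (by norm_num)⟩, ⟨j % 3, Nat.mod_lt _ (by norm_num)⟩, by
      show _ = S.z ^ (i % 3) * S.r ^ (j % 3)
      rw [← pow_eq_pow_mod i S.z_pow_three, ← pow_eq_pow_mod j S.r_pow_three]⟩
  unfold Dz at hd
  induction hd using closure_induction with
  | mem x hx =>
    rcases hx with rfl | rfl
    · exact ⟨1, 0, by simp⟩
    · exact ⟨0, 1, by simp⟩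
  | one => exact ⟨0, 0, by simp⟩
  | mul x y _ _ hx hy =>
    obtain ⟨i, j, rfl⟩ := hx
    obtain ⟨i', j', rfl⟩ := hy
    obtain ⟨a, b, e⟩ := red ((i : ℕ) + i') ((j : ℕ) + j')
    refine ⟨a, b, ?_⟩
    rw [← e, pow_add, pow_add, mul_assoc, ← mul_assoc (S.r ^ (j : ℕ)), (hrz.pow_pow _ _).eq]
    group
  | inv x _ hx =>
    obtain ⟨i, j, rfl⟩ := hx
    obtain ⟨a, b, e⟩ := red (2 * (i : ℕ)) (2 * (j : ℕ))
    refine ⟨a, b, ?_⟩
    rw [← e, inv_eq_iff_mul_eq_one, mul_assoc, ← mul_assoc (S.r ^ (j : ℕ)), (hrz.pow_pow _ _).eq,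
      mul_assoc, ← pow_add, ← mul_assoc, ← pow_add, show (i : ℕ) + 2 * i = 3 * i by omega,
      show (j : ℕ) + 2 * j = 3 * j by omega, pow_mul, pow_mul, S.z_pow_three, S.r_pow_three,
      one_pow, one_pow, one_mul]

omit [Finite G] in
theorem isMulCommutative_Dz : IsMulCommutative S.Dz := by
  refine ⟨⟨fun a b => Subtype.ext ?_⟩⟩
  have hrz : Commute S.r S.z := S.ψ_comm sign_cr
  obtain ⟨i, j, ha⟩ := S.mem_Dz a.2
  obtain ⟨k, l, hb⟩ := S.mem_Dz b.2
  show (a : G) * b = b * a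
  rw [ha, hb]
  exact (((Commute.refl _).pow_pow _ _).mul_right (hrz.symm.pow_pow _ _)).mul_left
    ((hrz.pow_pow _ _).mul_right ((Commute.refl _).pow_pow _ _))

omit [Finite G] in
theorem card_Dz : Nat.card S.Dz = 9 := by
  let f : Fin 3 × Fin 3 → S.Dz := fun p => ⟨S.z ^ (p.1 : ℕ) * S.r ^ (p.2 : ℕ),
    mul_mem (pow_mem S.z_mem_Dz _) (pow_mem S.r_mem_Dz _)⟩
  have hf : Function.Bijective f := by
    refine ⟨fun p q h => ?_, fun d => ?_⟩
    · have e := congrArg Subtype.val h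
      simp only [f, Setup.r, ← map_pow] at e
      obtain ⟨h1, h2⟩ := S.normal_eq_iff.1 e
      exact Prod.ext h1 ((by decide : ∀ a b : Fin 3, cr ^ (a : ℕ) = cr ^ (b : ℕ) → a = b) _ _ h2)
    · obtain ⟨i, j, e⟩ := S.mem_Dz d.2
      exact ⟨(i, j), Subtype.ext e.symm⟩
  rw [← Nat.card_eq_of_bijective f hf]
  simp

omit [Finite G] in
theorem not_cyclic_Dz : ¬ IsCyclic S.Dz := by
  intro h
  obtain ⟨g, hg⟩ := h.exists_ofOrder_eq_natCard
  rw [S.card_Dz] at hg
  obtain ⟨i, j, e⟩ := S.mem_Dz g.2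
  have hrz : Commute S.r S.z := S.ψ_comm sign_cr
  have : g ^ 3 = 1 := Subtype.ext (by
    rw [SubgroupClass.coe_pow, e, (hrz.symm.pow_pow _ _).mul_pow, ← pow_mul, ← pow_mul,
      mul_comm (i : ℕ), mul_comm (j : ℕ), pow_mul, pow_mul, S.z_pow_three, S.r_pow_three]
    simp)
  have := orderOf_dvd_of_pow_eq_one this
  rw [hg] at this
  norm_num at this

/-- `3`-subgroups containing `z` centralise it. -/
theorem three_group_comm {Q : Subgroup G} (hQ : IsPGroup 3 Q) (hz : S.z ∈ Q) {q : G} (hq : q ∈ Q) :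
    q * S.z = S.z * q := by
  obtain ⟨n, hn⟩ := IsPGroup.iff_card.1 hQ
  have hn2 : n ≤ 2 := by
    by_contra h
    apply S.no27
    have h1 := card_subgroup_dvd_card Q
    rw [hn] at h1
    exact (pow_dvd_pow 3 (show 3 ≤ n by omega)).trans h1
  have hcomm : ∀ a b : Q, a * b = b * a := by
    interval_cases n
    · have := (Nat.card_eq_one_iff_unique.1 hn).1
      exact fun a b => Subsingleton.elim _ _
    · have hc : IsCyclic Q := isCyclic_of_prime_card (p := 3) (by simpa using hn)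
      obtain ⟨g, hg⟩ := hc.exists_generator
      intro a b
      obtain ⟨i, rfl⟩ := hg a
      obtain ⟨j, rfl⟩ := hg b
      exact ((Commute.refl g).zpow_zpow i j).eq
    · have : Fact (Nat.Prime 3) := ⟨Nat.prime_three⟩
      exact (IsPGroup.isMulCommutative_of_card_eq_prime_sq hn).is_comm.comm
  exact congrArg Subtype.val (hcomm ⟨q, hq⟩ ⟨S.z, hz⟩)

/-- `C(V) = V × C(A₄)`. -/
theorem CV_decomp {g : G} (hg : g ∈ S.CV) :
    ∃ b, InKlein b ∧ ∃ x ∈ S.X 4, g = S.ψ b * x := by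
  classical
  have : Fact (Nat.Prime 3) := ⟨Nat.prime_three⟩
  let zC : S.CV := ⟨S.z, S.z_mem_CV⟩
  have hzC : orderOf zC = 3 := (Subgroup.orderOf_coe zC).symm.trans S.orderOf_z
  obtain ⟨P, hP⟩ := (IsPGroup.of_card (G := zpowers zC) (n := 1)
    (by rw [Nat.card_zpowers, hzC, pow_one])).exists_le_sylow
  have hPeq : (P : Subgroup S.CV) = zpowers zC := by
    refine le_antisymm (fun q hq => ?_) hP
    have hQ : IsPGroup 3 ((P : Subgroup S.CV).map S.CV.subtype) := P.2.map _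
    have hc := S.three_group_comm hQ (mem_map_of_mem _ (hP (mem_zpowers zC))) (mem_map_of_mem _ hq)
    obtain ⟨k, b, hb, e⟩ := S.CV_comm_z q.2 hc
    obtain ⟨hs, hb2⟩ := klein_even b hb
    obtain ⟨n, hn⟩ := P.2 ⟨q, hq⟩
    have hq3 : (q : G) ^ 3 ^ n = 1 := congrArg (fun x : (P : Subgroup S.CV) => ((x : S.CV) : G)) hn
    rw [e, (Commute.pow_left (S.ψ_comm hs).symm (k : ℕ)).mul_pow, ← map_pow] at hq3
    have hb1 : b = 1 := by
      have hodd : Odd (3 ^ n) := Odd.pow (by decide)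
      obtain ⟨m, hm⟩ := hodd
      rw [← pow_mul, hm] at hq3
      have e2 : b ^ (2 * m + 1) = b := by rw [pow_succ, pow_mul, pow_two, hb2, one_pow, one_mul]
      rw [e2] at hq3
      obtain ⟨-, h2⟩ := S.inj ⟨((k : ℕ) * (2 * m + 1)) % 3, Nat.mod_lt _ (by norm_num)⟩ b (by
        show S.z ^ (((k : ℕ) * (2 * m + 1)) % 3) * S.ψ b = 1
        rw [← pow_eq_pow_mod _ S.z_pow_three]; exact hq3)
      exact h2
    rw [hb1, map_one, mul_one] at e
    rw [show q = zC ^ (k : ℕ) from Subtype.ext (by rw [e]; rfl)]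
    exact pow_mem (mem_zpowers zC) _
  have hcent : normalizer ((P : Subgroup S.CV) : Set S.CV) ≤
      centralizer ((P : Subgroup S.CV) : Set S.CV) := by
    intro n hn
    rw [hPeq] at hn ⊢
    have h1 : n * zC * n⁻¹ ∈ zpowers zC := (mem_normalizer_iff.1 hn zC).1 (mem_zpowers zC)
    obtain ⟨k, hk⟩ := (mem_zpowers_iff_mem_range_orderOf).1 h1 |> Finset.mem_image.1
    rw [Finset.mem_range, hzC] at hk
    have hkG : (n : G) * S.z * (n : G)⁻¹ = S.z ^ k := (congrArg Subtype.val hk.2).symm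
    have hk1 : k = 1 := by
      rcases (show k = 0 ∨ k = 1 ∨ k = 2 by omega) with rfl | rfl | rfl
      · rw [pow_zero, mul_inv_eq_one, mul_eq_left] at hkG
        exact absurd hkG S.z_ne
      · rfl
      · rw [← S.inv_z] at hkG
        exact absurd hkG (S.CV_not_invert n.2)
    rw [hk1, pow_one, mul_inv_eq_iff_eq_mul] at hkG
    rw [mem_centralizer_iff]
    rintro _ ⟨i, rfl⟩
    exact ((show Commute n zC from Subtype.ext hkG).zpow_right i).eq.symm
  set K₀ := (MonoidHom.transferSylow P hcent).ker with hK₀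
  have hcompl := MonoidHom.ker_transferSylow_isComplement' P hcent
  have hndvd := MonoidHom.not_dvd_card_ker_transferSylow P hcent
  set K := K₀.map S.CV.subtype with hK
  have hKcard : Nat.card K = Nat.card K₀ :=
    (Nat.card_congr (K₀.equivMapOfInjective _ (Subtype.val_injective)).toEquiv).symm
  -- the complement is the set of elements of order prime to three
  have hKmem : ∀ x : S.CV, x ∈ K₀ ↔ ¬ 3 ∣ orderOf x := by
    refine fun x => ⟨fun hx h => hndvd (h.trans ?_), fun h => ?_⟩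
    · rw [← Subgroup.orderOf_mk x hx]; exact _root_.orderOf_dvd_natCard _
    · rw [hK₀, MonoidHom.mem_ker]
      have h1 : orderOf (MonoidHom.transferSylow P hcent x) ∣ orderOf x := orderOf_map_dvd _ x
      have h2 : orderOf (MonoidHom.transferSylow P hcent x) ∣ 3 :=
        (_root_.orderOf_dvd_natCard _).trans (by rw [hPeq, Nat.card_zpowers, hzC])
      rcases (Nat.dvd_prime Nat.prime_three).1 h2 with e | e
      · exact orderOf_eq_one_iff.1 e
      · exact absurd (e ▸ h1) h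
  have hKG : ∀ x : G, x ∈ K ↔ x ∈ S.CV ∧ ¬ 3 ∣ orderOf x := fun x => by
    rw [hK, Subgroup.mem_map]
    constructor
    · rintro ⟨y, hy, rfl⟩
      exact ⟨y.2, by rw [show S.CV.subtype y = (y : G) from rfl, Subgroup.orderOf_coe]
                     exact (hKmem y).1 hy⟩
    · rintro ⟨h1, h2⟩
      exact ⟨⟨x, h1⟩, (hKmem _).2 (by rwa [← Subgroup.orderOf_coe]), rfl⟩
  have hDCV : ∀ d ∈ S.Dz, ∀ x ∈ S.CV, d * x * d⁻¹ ∈ S.CV := by
    intro d hd x hx
    obtain ⟨i, j, rfl⟩ := S.mem_Dz hd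
    have hz1 := S.z_mem_CV
    have hrx : S.r ^ (j : ℕ) * x * (S.r ^ (j : ℕ))⁻¹ ∈ S.CV := by
      obtain ⟨e1, e2⟩ := S.mem_CV.1 hx
      have hK5 : ∀ b, InKlein b → S.ψ b * x = x * S.ψ b := by
        rintro b (rfl | rfl | rfl | rfl)
        · simp
        · exact e1.symm
        · exact e2.symm
        · rw [map_mul]; exact (Commute.mul_left e1.symm e2.symm).eq
      have hrel : ∀ (j : Fin 3) (b : Perm (Fin 5)), b = u5 ∨ b = v5 →
          InKlein ((cr ^ (j : ℕ))⁻¹ * b * cr ^ (j : ℕ)) := by decide +kernel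
      have key : ∀ b, b = u5 ∨ b = v5 → S.r ^ (j : ℕ) * x * (S.r ^ (j : ℕ))⁻¹ * S.ψ b =
          S.ψ b * (S.r ^ (j : ℕ) * x * (S.r ^ (j : ℕ))⁻¹) := by
        intro b hb
        have h := hK5 _ (hrel j b hb)
        rw [map_mul, map_mul, map_inv, map_pow, ← Setup.r] at h
        calc S.r ^ (j : ℕ) * x * (S.r ^ (j : ℕ))⁻¹ * S.ψ b
            = S.r ^ (j : ℕ) * (x * ((S.r ^ (j : ℕ))⁻¹ * S.ψ b * S.r ^ (j : ℕ))) *
              (S.r ^ (j : ℕ))⁻¹ := by group
          _ = _ := by rw [← h]; group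
      exact S.mem_CV.2 ⟨key u5 (Or.inl rfl), key v5 (Or.inr rfl)⟩
    have := mul_mem (mul_mem (pow_mem hz1 (i : ℕ)) hrx) (inv_mem (pow_mem hz1 (i : ℕ)))
    simpa [mul_assoc] using this
  have hnorm : S.Dz ≤ normalizer (K : Set G) := by
    intro d hd
    refine mem_normalizer_fintype fun x hx => ?_
    obtain ⟨h1, h2⟩ := (hKG x).1 hx
    exact (hKG _).2 ⟨hDCV d hd x h1, by rwa [← MulAut.conj_apply, MulEquiv.orderOf_eq]⟩
  have hcop : (Nat.card S.Dz).Coprime (Nat.card K) := by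
    rw [S.card_Dz, hKcard, show 9 = 3 ^ 2 from rfl]
    exact Nat.Coprime.pow_left _ (Nat.prime_three.coprime_iff_not_dvd.2 hndvd)
  -- the target subgroup
  let M : Subgroup G := closure {S.ψ u5, S.ψ v5} ⊔ S.X 4
  have hKM : K ≤ M := by
    have := S.isMulCommutative_Dz
    refine Coprime.le_of_centralizer_noncyclic_le S.not_cyclic_Dz hnorm hcop fun d hd hd1 x hx => ?_
    obtain ⟨hxK, hxd⟩ := hx
    obtain ⟨hxC, hx3⟩ := (hKG x).1 hxK
    obtain ⟨i, j, rfl⟩ := S.mem_Dz hd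
    have hxd' : x * (S.z ^ (i : ℕ) * S.r ^ (j : ℕ)) = S.z ^ (i : ℕ) * S.r ^ (j : ℕ) * x :=
      mem_centralizer_singleton_iff.1 hxd
    by_cases hi : i = 0
    · subst hi
      have hj : j ≠ 0 := fun h => hd1 (by simp [h])
      simp only [Fin.val_zero, pow_zero, one_mul] at hxd'
      have hxr : x * S.r = S.r * x := by
        rcases (by decide : ∀ i : Fin 3, i ≠ 0 → i = 1 ∨ i = 2) j hj with rfl | rfl
        · simpa using hxd'
        · have e : S.r = (S.r ^ ((2 : Fin 3) : ℕ)) ^ 2 := by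
            rw [Fin.val_two, ← pow_mul, pow_succ, S.r_pow_three, one_mul]
          rw [e]
          exact (Commute.pow_right hxd' 2).eq
      exact mem_sup_right (S.mem_X_four_of_CV hxC hxr)
    by_cases hj : j = 0
    · subst hj
      simp only [Fin.val_zero, pow_zero, mul_one] at hxd'
      have hxz : x * S.z = S.z * x := by
        rcases (by decide : ∀ i : Fin 3, i ≠ 0 → i = 1 ∨ i = 2) i hi with rfl | rfl
        · simpa using hxd'
        · have e : S.z = (S.z ^ ((2 : Fin 3) : ℕ)) ^ 2 := by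
            rw [Fin.val_two, ← pow_mul, pow_succ, S.z_pow_three, one_mul]
          rw [e]
          exact (Commute.pow_right hxd' 2).eq
      obtain ⟨k, b, hb, rfl⟩ := S.CV_comm_z hxC hxz
      have hb' : S.ψ b ∈ M := mem_sup_left (by
        rcases hb with rfl | rfl | rfl | rfl
        · rw [map_one]; exact one_mem _
        · exact subset_closure (by simp)
        · exact subset_closure (by simp)
        · rw [map_mul]; exact mul_mem (subset_closure (by simp)) (subset_closure (by simp)))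
      exact mul_mem (mem_sup_right (pow_mem (S.z_mem_X 4) _)) hb'
    · -- the centraliser of a y-type element contributes nothing
      set d := S.z ^ (i : ℕ) * S.r ^ (j : ℕ) with hd'
      set E := K ⊓ centralizer ({d} : Set G) with hE
      have hEcard : Nat.card E ∣ 2 := by
        have h1 : Nat.card E ∣ 18 :=
          S.card_cent_zr i j hi hj ▸ card_dvd_of_le (inf_le_right : E ≤ _)
        have h2 : (Nat.card E).Coprime 9 :=
          Nat.Coprime.coprime_dvd_left (card_dvd_of_le (inf_le_left : E ≤ K))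
            (by rw [← S.card_Dz]; exact hcop.symm)
        exact h2.dvd_of_dvd_mul_right (show Nat.card E ∣ 2 * 9 from h1)
      have hfix : ∀ e ∈ S.Dz, e * x * e⁻¹ = x := by
        intro e he
        have hex : e * x * e⁻¹ ∈ E := ⟨(mem_normalizer_iff.1 (hnorm he) x).1 hxK,
          mem_centralizer_singleton_iff.2 (by
            have hde : e * d = d * e :=
              congrArg Subtype.val ((S.isMulCommutative_Dz).is_comm.comm (⟨e, he⟩ : S.Dz) ⟨d, hd⟩)
            calc e * x * e⁻¹ * d = e * x * (e⁻¹ * d) := by group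
              _ = e * x * (d * e⁻¹) := by
                rw [(Commute.inv_left (show Commute e d from hde)).eq]
              _ = e * (x * d) * e⁻¹ := by group
              _ = e * (d * x) * e⁻¹ := by rw [hxd']
              _ = (e * d) * x * e⁻¹ := by group
              _ = _ := by rw [hde]; group)⟩
        have hxE : x ∈ E := ⟨hxK, hxd⟩
        by_contra hne
        have hx1 : x ≠ 1 := fun h => hne (by rw [h]; group)
        have he1 : e * x * e⁻¹ ≠ 1 := fun h => hx1 (by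
          rw [mul_inv_eq_one, mul_eq_left] at h; exact h)
        rcases (Nat.dvd_prime Nat.prime_two).1 hEcard with h1 | h2
        · have := (Nat.card_eq_one_iff_unique.1 h1).1
          exact hx1 (congrArg Subtype.val (Subsingleton.elim (⟨x, hxE⟩ : E) 1))
        · have hu := (Nat.card_eq_two_iff' (1 : E)).1 h2
          exact hne (congrArg Subtype.val (hu.unique (y₁ := ⟨_, hex⟩) (y₂ := ⟨x, hxE⟩)
            (fun h => he1 (congrArg Subtype.val h)) (fun h => hx1 (congrArg Subtype.val h))))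
      have hxz : x * S.z = S.z * x := (mul_inv_eq_iff_eq_mul.1 (hfix _ S.z_mem_Dz)).symm
      have hxr : x * S.r = S.r * x := (mul_inv_eq_iff_eq_mul.1 (hfix _ S.r_mem_Dz)).symm
      exact mem_sup_right (S.mem_X_four_of_CV hxC hxr)
  -- every element
  have hgM : g ∈ M := by
    obtain ⟨⟨k, p⟩, e⟩ := hcompl.2 (⟨g, hg⟩ : S.CV)
    have e' : ((k : S.CV) : G) * ((p : S.CV) : G) = g := congrArg Subtype.val e
    rw [← e']
    refine mul_mem (hKM (mem_map_of_mem _ k.2)) (mem_sup_right ?_)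
    obtain ⟨i, hi⟩ := (hPeq ▸ p.2 : (p : S.CV) ∈ zpowers zC)
    rw [← hi]
    exact zpow_mem (S.z_mem_X 4) i
  -- shape of the elements of M
  have hcommM : ∀ b, InKlein b → ∀ x ∈ S.X 4, Commute (S.ψ b) x := by
    rintro b (rfl | rfl | rfl | rfl) x hx
    · simp
    · exact (S.mem_CV.1 (S.X_four_le_CV hx)).1.symm
    · exact (S.mem_CV.1 (S.X_four_le_CV hx)).2.symm
    · rw [map_mul]
      exact Commute.mul_left (S.mem_CV.1 (S.X_four_le_CV hx)).1.symm
        (S.mem_CV.1 (S.X_four_le_CV hx)).2.symm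
  have hkl : ∀ a b, InKlein a → InKlein b → InKlein (a * b) := by
    rintro a b (rfl | rfl | rfl | rfl) (rfl | rfl | rfl | rfl) <;> decide
  let M' : Subgroup G :=
    { carrier := {g | ∃ b, InKlein b ∧ ∃ x ∈ S.X 4, g = S.ψ b * x}
      one_mem' := ⟨1, Or.inl rfl, 1, one_mem _, by simp⟩
      mul_mem' := by
        rintro _ _ ⟨a, ha, x, hx, rfl⟩ ⟨b, hb, y, hy, rfl⟩
        refine ⟨a * b, hkl a b ha hb, x * y, mul_mem hx hy, ?_⟩
        rw [map_mul, mul_assoc, ← mul_assoc x, ← (hcommM b hb x hx).eq]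
        group
      inv_mem' := by
        rintro _ ⟨a, ha, x, hx, rfl⟩
        refine ⟨a, ha, x⁻¹, inv_mem hx, ?_⟩
        rw [mul_inv_rev, ← map_inv, inv_eq_of_mul_eq_one_right (klein_even a ha).2]
        exact ((hcommM a ha x hx).inv_right).eq.symm }
  have : M ≤ M' := by
    refine sup_le ((closure_le _).2 ?_) fun x hx => ⟨1, Or.inl rfl, x, hx, by simp⟩
    rintro x (rfl | rfl)
    · exact ⟨u5, Or.inr (Or.inl rfl), 1, one_mem _, by simp⟩
    · exact ⟨v5, Or.inr (Or.inr (Or.inl rfl)), 1, one_mem _, by simp⟩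
  exact this hgM

end Finite

end Setup

end Cfsg.Agent.H70.AltEight
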