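import Mathlib

/-!
Finite facts about the alternating group of degree eight: the centralisers of the two classes of
involutions, of the two classes of elements of order three and of a four-group.
-/

set_option autoImplicit false
set_option maxRecDepth 20000
set_option synthInstance.maxSize 512
set_option exponentiation.threshold 512

namespace Cfsg.Agent.H70.AltEight.Eight

open Equiv Equiv.Perm

/-- Alternating group of degree eight. -/
abbrev A8 := alternatingGroup (Fin 8)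

def z8 : A8 := ⟨swap 0 1 * swap 1 2, Equiv.Perm.mem_alternatingGroup.2 (by decide)⟩
def c8 : A8 := ⟨swap 3 4 * swap 4 5, Equiv.Perm.mem_alternatingGroup.2 (by decide)⟩
def a8 : A8 := ⟨swap 0 3 * swap 3 5, Equiv.Perm.mem_alternatingGroup.2 (by decide)⟩
def b8 : A8 := ⟨swap 1 4 * swap 4 6, Equiv.Perm.mem_alternatingGroup.2 (by decide)⟩
def y8 : A8 := ⟨swap 0 3 * swap 3 5 * (swap 1 4 * swap 4 6), Equiv.Perm.mem_alternatingGroup.2 (by decide)⟩
def u8 : A8 := ⟨swap 3 4 * swap 5 6, Equiv.Perm.mem_alternatingGroup.2 (by decide)⟩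
def v8 : A8 := ⟨swap 3 5 * swap 4 6, Equiv.Perm.mem_alternatingGroup.2 (by decide)⟩
def w8 : A8 := ⟨swap 0 1 * swap 2 7 * (swap 3 4 * swap 5 6), Equiv.Perm.mem_alternatingGroup.2 (by decide)⟩
def f1 : A8 := ⟨swap 0 1 * swap 2 7, Equiv.Perm.mem_alternatingGroup.2 (by decide)⟩
def f2 : A8 := ⟨swap 0 1 * swap 3 4, Equiv.Perm.mem_alternatingGroup.2 (by decide)⟩
def f3 : A8 := ⟨swap 0 1 * swap 5 6, Equiv.Perm.mem_alternatingGroup.2 (by decide)⟩
def e2 : A8 := ⟨swap 0 2 * swap 1 7, Equiv.Perm.mem_alternatingGroup.2 (by decide)⟩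
def d1 : A8 := ⟨swap 0 2 * swap 1 7 * (swap 3 5 * swap 4 6), Equiv.Perm.mem_alternatingGroup.2 (by decide)⟩
def d2 : A8 := ⟨swap 0 3 * swap 1 4 * (swap 2 5 * swap 7 6), Equiv.Perm.mem_alternatingGroup.2 (by decide)⟩

/-- `a` fixes no letter. -/
def Fpf (a : A8) : Prop := ∀ p, (a : Perm (Fin 8)) p ≠ p

instance (a : A8) : Decidable (Fpf a) := by unfold Fpf; infer_instance

/-- The product `a ^ i * b`, with small exponent. -/
def bit (a : A8) (i : Fin 2) : A8 := if i = 0 then 1 else a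

/-- The normal subgroup of order thirty-two of the centraliser of `w8`. -/
def cE (i : Fin 2 × Fin 2 × Fin 2 × Fin 2 × Fin 2) : A8 :=
  bit f1 i.1 * bit f2 i.2.1 * bit f3 i.2.2.1 * bit d1 i.2.2.2.1 * bit d2 i.2.2.2.2

/-- The centraliser of `w8`. -/
def cw (i : (Fin 2 × Fin 2 × Fin 2 × Fin 2 × Fin 2) × Fin 3 × Fin 2) : A8 :=
  cE i.1 * y8 ^ (i.2.1 : ℕ) * bit v8 i.2.2

/-- The elementary abelian group of order sixteen. -/
def cS (i : Fin 2 × Fin 2 × Fin 2 × Fin 2) : A8 :=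
  bit f1 i.1 * bit e2 i.2.1 * bit u8 i.2.2.1 * bit v8 i.2.2.2

/-- The centraliser of `u8`. -/
def cu (i : (Fin 2 × Fin 2 × Fin 2 × Fin 2) × Fin 3 × Fin 2) : A8 :=
  cS i.1 * z8 ^ (i.2.1 : ℕ) * bit f2 i.2.2

/-- The centraliser of the four-group `⟨u8, v8⟩`. -/
def cv (i : (Fin 2 × Fin 2 × Fin 2 × Fin 2) × Fin 3) : A8 := cS i.1 * z8 ^ (i.2 : ℕ)

/-- The centraliser of `y8`. -/
def cy (i : Fin 3 × Fin 3 × Fin 2) : A8 := a8 ^ (i.1 : ℕ) * b8 ^ (i.2.1 : ℕ) * bit w8 i.2.2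

/-- The last five letters. -/
def ext5 (b : alternatingGroup (Fin 5)) : A8 :=
  ⟨(finSumFinEquiv (m := 3) (n := 5)).permCongr (Perm.sumCongr 1 (b : Perm (Fin 5))), by
    rw [mem_alternatingGroup, sign_permCongr, sign_sumCongr, map_one, one_mul]
    exact mem_alternatingGroup.1 b.2⟩

/-- The centraliser of `z8`. -/
def cz (i : Fin 3 × alternatingGroup (Fin 5)) : A8 := z8 ^ (i.1 : ℕ) * ext5 i.2

theorem card_cz_index : Nat.card (Fin 3 × alternatingGroup (Fin 5)) = 180 := by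
  rw [Nat.card_prod, Nat.card_fin, nat_card_alternatingGroup, Nat.card_fin]
  rfl

theorem cz_comm : ∀ i, cz i * z8 = z8 * cz i := by decide +kernel

theorem cz_inj : Function.Injective cz := by
  rintro ⟨k, b⟩ ⟨l, c⟩ h
  have hb : b = c := by
    apply Subtype.ext
    apply Equiv.ext
    intro p
    have h1 : ∀ (k : Fin 3) (q : Fin 8), 3 ≤ (q : ℕ) → ((z8 ^ (k : ℕ) : A8) : Perm (Fin 8)) q = q := by
      decide +kernel
    have h2 : ∀ (b : alternatingGroup (Fin 5)), (ext5 b : Perm (Fin 8)) (finSumFinEquiv (Sum.inr p)) =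
        finSumFinEquiv (Sum.inr ((b : Perm (Fin 5)) p)) := fun b => by
      simp [ext5, Equiv.permCongr_apply]
    have e := congrArg (fun x : A8 => (x : Perm (Fin 8)) (finSumFinEquiv (Sum.inr p))) h
    simp only [cz, Subgroup.coe_mul, Perm.mul_apply, h2] at e
    rw [h1 _ _ (by simp [finSumFinEquiv]), h1 _ _ (by simp [finSumFinEquiv])] at e
    simpa using e
  subst hb
  have hk : z8 ^ (k : ℕ) = z8 ^ (l : ℕ) := mul_right_cancel h
  rw [(by decide +kernel : ∀ k l : Fin 3, z8 ^ (k : ℕ) = z8 ^ (l : ℕ) → k = l) k l hk]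

theorem cy_facts : (∀ i, cy i * y8 = y8 * cy i) ∧ Function.Injective cy := by
  constructor <;> decide +kernel

theorem cv_facts : (∀ i, cv i * u8 = u8 * cv i ∧ cv i * v8 = v8 * cv i) ∧ Function.Injective cv := by
  constructor <;> decide +kernel

theorem cw_facts : ∀ i, cw i * w8 = w8 * cw i := by decide +kernel

theorem cw_inj : Function.Injective cw := by decide +kernel

theorem cu_facts : ∀ i, cu i * u8 = u8 * cu i := by decide +kernel

theorem w_four : ∀ a b c d : Fin 8, b ≠ a → b ≠ (w8 : Perm (Fin 8)) a →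
    c ≠ a → c ≠ (w8 : Perm (Fin 8)) a → c ≠ b → c ≠ (w8 : Perm (Fin 8)) b →
    d ≠ a → d ≠ (w8 : Perm (Fin 8)) a → d ≠ b → d ≠ (w8 : Perm (Fin 8)) b → d ≠ c →
    d ≠ (w8 : Perm (Fin 8)) c →
    ∃ (o : Fin 2) (i : (Fin 2 × Fin 2 × Fin 2 × Fin 2 × Fin 2) × Fin 3 × Fin 2),
      (((cw i : A8) : Perm (Fin 8)) * (swap (0 : Fin 8) 1) ^ (o : ℕ)) 0 = a ∧
      (((cw i : A8) : Perm (Fin 8)) * (swap (0 : Fin 8) 1) ^ (o : ℕ)) 2 = b ∧
      (((cw i : A8) : Perm (Fin 8)) * (swap (0 : Fin 8) 1) ^ (o : ℕ)) 3 = c ∧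
      (((cw i : A8) : Perm (Fin 8)) * (swap (0 : Fin 8) 1) ^ (o : ℕ)) 5 = d := by decide +kernel

theorem cw_complete (x : A8) (hx : x * w8 = w8 * x) : ∃ i, cw i = x := by
  set σ := (x : Perm (Fin 8)) with hσ
  have hc : σ * (w8 : Perm (Fin 8)) = (w8 : Perm (Fin 8)) * σ := congrArg Subtype.val hx
  have happ : ∀ p, σ ((w8 : Perm (Fin 8)) p) = (w8 : Perm (Fin 8)) (σ p) := fun p =>
    congrArg (fun f : Perm (Fin 8) => f p) hc
  have hne : ∀ p q, p ≠ q → σ p ≠ σ q := fun p q h e => h (σ.injective e)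
  have hw : ∀ p q, p ≠ (w8 : Perm (Fin 8)) q → σ p ≠ (w8 : Perm (Fin 8)) (σ q) := fun p q h => by
    rw [← happ]; exact hne _ _ h
  obtain ⟨o, i, h0, h2, h3, h5⟩ := w_four (σ 0) (σ 2) (σ 3) (σ 5)
    (hne _ _ (by decide)) (hw _ _ (by decide)) (hne _ _ (by decide)) (hw _ _ (by decide))
    (hne _ _ (by decide)) (hw _ _ (by decide)) (hne _ _ (by decide)) (hw _ _ (by decide))
    (hne _ _ (by decide)) (hw _ _ (by decide)) (hne _ _ (by decide)) (hw _ _ (by decide))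
  set τ := ((cw i : A8) : Perm (Fin 8)) * (swap (0 : Fin 8) 1) ^ (o : ℕ) with hτ
  have hoc : ∀ o : Fin 2, (swap (0 : Fin 8) 1) ^ (o : ℕ) * (w8 : Perm (Fin 8)) = (w8 : Perm (Fin 8)) * (swap 0 1) ^ (o : ℕ) := by
    decide +kernel
  have hτc : τ * (w8 : Perm (Fin 8)) = (w8 : Perm (Fin 8)) * τ := by
    rw [hτ, mul_assoc, hoc, ← mul_assoc, ← mul_assoc]
    congr 1
    exact congrArg Subtype.val (cw_facts i)
  have happ' : ∀ p, τ ((w8 : Perm (Fin 8)) p) = (w8 : Perm (Fin 8)) (τ p) := fun p =>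
    congrArg (fun f : Perm (Fin 8) => f p) hτc
  have heq : τ = σ := by
    apply Equiv.ext
    intro p
    have hp : ∀ p : Fin 8, ∃ q ∈ ([0, 2, 3, 5] : List (Fin 8)), p = q ∨ p = (w8 : Perm (Fin 8)) q := by
      decide +kernel
    obtain ⟨q, hq, e⟩ := hp p
    have hq' : τ q = σ q := by
      simp only [List.mem_cons, List.not_mem_nil, or_false] at hq
      rcases hq with rfl | rfl | rfl | rfl <;> assumption
    rcases e with rfl | rfl
    · exact hq'
    · rw [happ, happ', hq']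
  have ho : o = 0 := by
    have h1 : sign τ = 1 := heq ▸ mem_alternatingGroup.1 x.2
    rw [hτ, map_mul, mem_alternatingGroup.1 (cw i).2, one_mul] at h1
    exact (by decide +kernel : ∀ o : Fin 2, sign ((swap (0 : Fin 8) 1) ^ (o : ℕ)) = 1 → o = 0) o h1
  refine ⟨i, Subtype.ext ?_⟩
  rw [← hσ, ← heq, hτ, ho]
  simp

theorem u_five : ∀ a : Fin 8, (u8 : Perm (Fin 8)) a = a → ∀ b : Fin 8, (u8 : Perm (Fin 8)) b = b →
    b ≠ a → ∀ c : Fin 8, (u8 : Perm (Fin 8)) c = c → c ≠ a → c ≠ b →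
    ∀ d : Fin 8, (u8 : Perm (Fin 8)) d ≠ d → ∀ e : Fin 8, (u8 : Perm (Fin 8)) e ≠ e → e ≠ d →
      e ≠ (u8 : Perm (Fin 8)) d →
    ∃ (o : Fin 2) (i : (Fin 2 × Fin 2 × Fin 2 × Fin 2) × Fin 3 × Fin 2),
      (((cu i : A8) : Perm (Fin 8)) * (swap (3 : Fin 8) 4) ^ (o : ℕ)) 0 = a ∧
      (((cu i : A8) : Perm (Fin 8)) * (swap (3 : Fin 8) 4) ^ (o : ℕ)) 1 = b ∧
      (((cu i : A8) : Perm (Fin 8)) * (swap (3 : Fin 8) 4) ^ (o : ℕ)) 2 = c ∧
      (((cu i : A8) : Perm (Fin 8)) * (swap (3 : Fin 8) 4) ^ (o : ℕ)) 3 = d ∧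
      (((cu i : A8) : Perm (Fin 8)) * (swap (3 : Fin 8) 4) ^ (o : ℕ)) 5 = e := by decide +kernel

theorem cu_complete (x : A8) (hx : x * u8 = u8 * x) : ∃ i, cu i = x := by
  set σ := (x : Perm (Fin 8)) with hσ
  have hc : σ * (u8 : Perm (Fin 8)) = (u8 : Perm (Fin 8)) * σ := congrArg Subtype.val hx
  have happ : ∀ p, σ ((u8 : Perm (Fin 8)) p) = (u8 : Perm (Fin 8)) (σ p) := fun p =>
    congrArg (fun f : Perm (Fin 8) => f p) hc
  have hne : ∀ p q, p ≠ q → σ p ≠ σ q := fun p q h e => h (σ.injective e)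
  have hfix : ∀ p, (u8 : Perm (Fin 8)) p = p → (u8 : Perm (Fin 8)) (σ p) = σ p := fun p h => by
    rw [← happ, h]
  have hmov : ∀ p, (u8 : Perm (Fin 8)) p ≠ p → (u8 : Perm (Fin 8)) (σ p) ≠ σ p := fun p h e =>
    h (σ.injective (by rw [happ, e]))
  obtain ⟨o, i, h0, h1, h2, h3, h5⟩ := u_five (σ 0) (hfix _ (by decide)) (σ 1) (hfix _ (by decide))
    (hne _ _ (by decide)) (σ 2) (hfix _ (by decide)) (hne _ _ (by decide)) (hne _ _ (by decide))
    (σ 3) (hmov _ (by decide)) (σ 5) (hmov _ (by decide)) (hne _ _ (by decide))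
    (by rw [← happ]; exact hne _ _ (by decide))
  set τ := ((cu i : A8) : Perm (Fin 8)) * (swap (3 : Fin 8) 4) ^ (o : ℕ) with hτ
  have hoc : ∀ o : Fin 2, (swap (3 : Fin 8) 4) ^ (o : ℕ) * (u8 : Perm (Fin 8)) = (u8 : Perm (Fin 8)) * (swap 3 4) ^ (o : ℕ) := by
    decide +kernel
  have hτc : τ * (u8 : Perm (Fin 8)) = (u8 : Perm (Fin 8)) * τ := by
    rw [hτ, mul_assoc, hoc, ← mul_assoc, ← mul_assoc]
    congr 1
    exact congrArg Subtype.val (cu_facts i)
  have happ' : ∀ p, τ ((u8 : Perm (Fin 8)) p) = (u8 : Perm (Fin 8)) (τ p) := fun p =>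
    congrArg (fun f : Perm (Fin 8) => f p) hτc
  have h7 : ∀ p : Fin 8, p ≠ 7 → τ p = σ p := by
    intro p hp
    have hp' : ∀ p : Fin 8, p ≠ 7 → ∃ q ∈ ([0, 1, 2, 3, 5] : List (Fin 8)),
        p = q ∨ p = (u8 : Perm (Fin 8)) q := by decide +kernel
    obtain ⟨q, hq, e⟩ := hp' p hp
    have hq' : τ q = σ q := by
      simp only [List.mem_cons, List.not_mem_nil, or_false] at hq
      rcases hq with rfl | rfl | rfl | rfl | rfl <;> assumption
    rcases e with rfl | rfl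
    · exact hq'
    · rw [happ, happ', hq']
  have heq : τ = σ := by
    apply Equiv.ext
    intro p
    by_cases hp : p = 7
    · subst hp
      obtain ⟨q, hq⟩ := τ.surjective (σ 7)
      by_cases hq7 : q = 7
      · rw [← hq, hq7]
      · rw [h7 q hq7] at hq
        exact absurd (σ.injective hq) hq7
    · exact h7 p hp
  have ho : o = 0 := by
    have h1' : sign τ = 1 := heq ▸ mem_alternatingGroup.1 x.2
    rw [hτ, map_mul, mem_alternatingGroup.1 (cu i).2, one_mul] at h1'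
    exact (by decide +kernel : ∀ o : Fin 2, sign ((swap (3 : Fin 8) 4) ^ (o : ℕ)) = 1 → o = 0) o h1'
  refine ⟨i, Subtype.ext ?_⟩
  rw [← hσ, ← heq, hτ, ho]
  simp

end Cfsg.Agent.H70.AltEight.Eight
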