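import Cfsg.Agent.H70.AltEight.Setup

/-!
Extracting the three-local data from the hypotheses of S3329.
-/

set_option autoImplicit false

namespace Cfsg.Agent.H70.AltEight

open Equiv Equiv.Perm Subgroup

universe u

/-- Sign representatives on three letters. -/
def twoThree (s : ℤˣ) : Perm (Fin 3) := if s = 1 then 1 else swap 0 1

theorem twoThree_mul (s s' : ℤˣ) : twoThree (s * s') = twoThree s * twoThree s' := by
  rcases Int.units_eq_one_or s with rfl | rfl <;> rcases Int.units_eq_one_or s' with rfl | rfl <;>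
    decide

theorem sign_twoThree (s : ℤˣ) : sign (twoThree s) = s := by
  rcases Int.units_eq_one_or s with rfl | rfl <;> decide

set_option synthInstance.maxSize 512 in
theorem moves_order_three : ∀ b : Perm (Fin 5), b * b * b = 1 → b ≠ 1 →
    ∃ c : Perm (Fin 5), sign c = 1 ∧ ¬(c * b * c⁻¹ = b) ∧ ¬(c * b * c⁻¹ = b⁻¹) := by decide +kernel

theorem three_cases : ∀ a : Perm (Fin 3), a * a * a = 1 → a ≠ 1 →
    (∀ s : ℤˣ, twoThree s * a * (twoThree s)⁻¹ = a ^ ((s : ℤˣ) : ℤ)) ∧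
    (∀ p : Perm (Fin 3), ∃ k : Fin 3, p = a ^ (k : ℕ) * twoThree (sign p)) ∧
    ∀ k : Fin 3, ∀ s : ℤˣ, a ^ (k : ℕ) * twoThree s = 1 → k = 0 := by decide +kernel

theorem exists_conj_cr : ∀ b : Perm (Fin 5), b * b * b = 1 → b ≠ 1 → sign b = 1 →
    ∃ σ : Perm (Fin 5), σ * cr * σ⁻¹ = b := by decide +kernel

theorem card_norm_cr : Fintype.card {b : Perm (Fin 5) //
    b * cr * b⁻¹ = cr ∨ b * cr * b⁻¹ = cr⁻¹} = 12 := by decide +kernel

/-- The kernel of the product of the signs. -/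
abbrev SignKer : Subgroup (Perm (Fin 3) × Perm (Fin 5)) :=
  (((Equiv.Perm.sign).comp (MonoidHom.fst (Equiv.Perm (Fin 3)) (Equiv.Perm (Fin 5)))) *
    ((Equiv.Perm.sign).comp (MonoidHom.snd (Equiv.Perm (Fin 3)) (Equiv.Perm (Fin 5))))).ker

theorem mem_signKer {p : Perm (Fin 3) × Perm (Fin 5)} : p ∈ SignKer ↔ sign p.1 = sign p.2 := by
  rw [MonoidHom.mem_ker]
  show sign p.1 * sign p.2 = 1 ↔ _
  rw [mul_eq_one_iff_eq_inv, Int.units_inv_eq_self]

variable {G : Type u} [Group G] [Finite G]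

/-- The normaliser of `z` in coordinates. -/
structure Frame (z : G) where
  ψ : Perm (Fin 5) →* G
  rel : ∀ b, ψ b * z * (ψ b)⁻¹ = z ^ ((sign b : ℤˣ) : ℤ)
  surj : ∀ g : G, g * z * g⁻¹ = z ∨ g * z * g⁻¹ = z⁻¹ → ∃ (k : Fin 3) (b : Perm (Fin 5)),
    g = z ^ (k : ℕ) * ψ b
  inj : ∀ (k : Fin 3) (b : Perm (Fin 5)), z ^ (k : ℕ) * ψ b = 1 → k = 0 ∧ b = 1

omit [Finite G] in
theorem mem_zpowers_three {z x : G} (hz : z ^ 3 = 1) (hx : x ∈ zpowers z) :
    x = 1 ∨ x = z ∨ x = z⁻¹ := by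
  obtain ⟨i, rfl⟩ := hx
  show z ^ i = 1 ∨ z ^ i = z ∨ z ^ i = z⁻¹
  have hz' : z ^ (3 : ℤ) = 1 := by exact_mod_cast hz
  have he : z ^ i = z ^ (i % 3) := by
    rw [show z ^ i = z ^ (3 * (i / 3) + i % 3) by rw [Int.mul_ediv_add_emod], zpow_add, zpow_mul,
      hz', one_zpow, one_mul]
  rw [he]
  rcases (show i % 3 = 0 ∨ i % 3 = 1 ∨ i % 3 = 2 by omega) with h | h | h <;> rw [h]
  · simp
  · simp
  · refine Or.inr (Or.inr ?_)
    rw [eq_inv_iff_mul_eq_one, ← zpow_add_one, show ((2 : ℤ) + 1) = 3 from rfl, hz']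

theorem mem_normalizer_three {z g : G} (hz : orderOf z = 3)
    (hg : g * z * g⁻¹ = z ∨ g * z * g⁻¹ = z⁻¹) :
    g ∈ normalizer (zpowers z : Set G) := by
  have hz3 : z ^ 3 = 1 := hz ▸ pow_orderOf_eq_one z
  refine mem_normalizer_fintype fun x hx => ?_
  obtain ⟨i, rfl⟩ := hx
  show g * z ^ i * g⁻¹ ∈ zpowers z
  rw [← conj_zpow]
  rcases hg with h | h <;> rw [h]
  · exact zpow_mem (mem_zpowers z) i
  · exact zpow_mem (inv_mem (mem_zpowers z)) i

theorem exists_frame (z : G) (hz : orderOf z = 3)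
    (eL : normalizer (zpowers z : Set G) ≃* SignKer) : Nonempty (Frame z) := by
  have hz3 : z ^ 3 = 1 := hz ▸ pow_orderOf_eq_one z
  have hzN : z ∈ normalizer (zpowers z : Set G) :=
    le_normalizer (mem_zpowers z)
  set F : SignKer →* G := (normalizer (zpowers z : Set G)).subtype.comp eL.symm.toMonoidHom with hF
  have hFinj : Function.Injective F := fun x y h =>
    eL.symm.injective (Subtype.ext h)
  set e₀ := eL ⟨z, hzN⟩ with he₀
  have hFe : F e₀ = z := by simp [hF, he₀]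
  have hne : e₀ ≠ 1 := fun h => by
    rw [h, map_one] at hFe
    rw [← hFe, orderOf_one] at hz
    omega
  have hcube : e₀ * e₀ * e₀ = 1 := hFinj (by
    rw [map_mul, map_mul, hFe, map_one, ← pow_two, ← pow_succ, hz3])
  have hconj : ∀ n : SignKer, n * e₀ * n⁻¹ = e₀ ∨ n * e₀ * n⁻¹ = e₀⁻¹ := fun n => by
    have hn : F n ∈ normalizer (zpowers z : Set G) := (eL.symm n).2
    have h1 : F n * z * (F n)⁻¹ ∈ zpowers z :=
      (mem_normalizer_iff.1 hn z).1 (mem_zpowers z)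
    rcases mem_zpowers_three hz3 h1 with h | h | h
    · rw [mul_inv_eq_one, mul_eq_left] at h
      rw [h, orderOf_one] at hz
      omega
    · exact Or.inl (hFinj (by rw [map_mul, map_mul, map_inv, hFe, h]))
    · exact Or.inr (hFinj (by rw [map_mul, map_mul, map_inv, map_inv, hFe, h]))
  obtain ⟨⟨a, b⟩, hab⟩ := e₀
  have hb : b = 1 := by
    by_contra hb
    have hb3 : b * b * b = 1 := congrArg (fun x : SignKer => x.1.2) hcube
    obtain ⟨c, hc, hc1, hc2⟩ := moves_order_three b hb3 hb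
    have hcm : ((1 : Perm (Fin 3)), c) ∈ SignKer := mem_signKer.2 (by simp [hc])
    rcases hconj ⟨_, hcm⟩ with h | h
    · exact hc1 (congrArg (fun x : SignKer => x.1.2) h)
    · exact hc2 (congrArg (fun x : SignKer => x.1.2) h)
  subst hb
  have ha : a ≠ 1 := fun h => hne (Subtype.ext (Prod.ext h rfl))
  have ha3 : a * a * a = 1 := congrArg (fun x : SignKer => x.1.1) hcube
  obtain ⟨hrel, hsurj, hinj⟩ := three_cases a ha3 ha
  let ι : Perm (Fin 5) →* SignKer :=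
    { toFun := fun c => ⟨(twoThree (sign c), c), mem_signKer.2 (sign_twoThree _)⟩
      map_one' := Subtype.ext (by simp [twoThree])
      map_mul' := fun c d => Subtype.ext (by simp [twoThree_mul]) }
  have hpow : ∀ k : ℕ, z ^ k = F ⟨(a ^ k, 1), mem_signKer.2 (by
      have h1 : sign a = sign (1 : Perm (Fin 5)) := mem_signKer.1 hab
      rw [map_pow, h1, map_one, one_pow])⟩ := fun k => by
    rw [← hFe, ← map_pow]
    exact congrArg F (Subtype.ext (Prod.ext rfl (one_pow k)))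
  have hkb : ∀ (k : Fin 3) (c : Perm (Fin 5)),
      ∃ h : (a ^ (k : ℕ) * twoThree (sign c), c) ∈ SignKer,
        z ^ (k : ℕ) * (F.comp ι) c = F ⟨_, h⟩ := fun k c => by
    have h1 : sign a = 1 := (mem_signKer.1 hab).trans (map_one _)
    refine ⟨mem_signKer.2 (by rw [map_mul, map_pow, h1, one_pow, one_mul, sign_twoThree]), ?_⟩
    refine (congrArg (· * (F.comp ι) c) (hpow k)).trans ?_
    show F _ * F _ = _
    rw [← map_mul]
    exact congrArg F (Subtype.ext (Prod.ext rfl (one_mul c)))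
  refine ⟨{ ψ := F.comp ι, rel := fun c => ?_, surj := fun g hg => ?_, inj := fun k c h => ?_ }⟩
  · rw [MonoidHom.comp_apply, ← hFe, ← map_inv, ← map_mul, ← map_mul, ← map_zpow]
    congr 1
    refine Subtype.ext (Prod.ext ?_ ?_)
    · rw [SubgroupClass.coe_zpow]
      exact hrel (sign c)
    · rw [SubgroupClass.coe_zpow]
      show c * 1 * c⁻¹ = (1 : Perm (Fin 5)) ^ ((sign c : ℤˣ) : ℤ)
      simp
  · obtain ⟨x, hx⟩ : ∃ x : SignKer, F x = g := by
      exact ⟨eL ⟨g, mem_normalizer_three hz hg⟩, by simp [hF]⟩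
    obtain ⟨k, hk⟩ := hsurj x.1.1
    refine ⟨k, x.1.2, ?_⟩
    obtain ⟨_, e⟩ := hkb k x.1.2
    rw [e, ← hx]
    congr 1
    refine Subtype.ext (Prod.ext ?_ rfl)
    rw [hk, mem_signKer.1 x.2]
  · obtain ⟨_, e⟩ := hkb k c
    rw [e, ← map_one F] at h
    have h' := hFinj h
    exact ⟨hinj k (sign c) (congrArg (fun x : SignKer => x.1.1) h'),
      congrArg (fun x : SignKer => x.1.2) h'⟩

/-- Composing a frame with a conjugation. -/
def Frame.twist {z : G} (f : Frame z) (σ : Perm (Fin 5)) : Frame z where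
  ψ := f.ψ.comp (MulAut.conj σ).toMonoidHom
  rel b := by
    show f.ψ (σ * b * σ⁻¹) * z * (f.ψ (σ * b * σ⁻¹))⁻¹ = _
    rw [f.rel, map_mul, map_mul, map_inv, mul_right_comm, mul_inv_cancel, one_mul]
  surj g hg := by
    obtain ⟨k, b, e⟩ := f.surj g hg
    refine ⟨k, σ⁻¹ * b * σ, ?_⟩
    show g = z ^ (k : ℕ) * f.ψ (σ * (σ⁻¹ * b * σ) * σ⁻¹)
    rw [e]; congr 2; group
  inj k b h := by
    obtain ⟨h1, h2⟩ := f.inj k (σ * b * σ⁻¹) h
    exact ⟨h1, by simpa using h2⟩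

theorem exists_setup (D : Subgroup G) (P : Sylow 3 G) (hDP : D = P) (y z : G)
    (hgen : closure {y, z} = D) (hcomm : IsMulCommutative D) (hcard : Nat.card D = 9)
    (hexp : ∀ a ∈ D, a ^ 3 = 1) (hC : centralizer (D : Set G) = D)
    (eN : normalizer (D : Set G) ⧸ D.subgroupOf (normalizer (D : Set G)) ≃* DihedralGroup 4)
    (hycard : Nat.card (centralizer ({y} : Set G)) = 18)
    (eC : centralizer ({z} : Set G) ≃* Multiplicative (ZMod 3) × alternatingGroup (Fin 5))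
    (eL : normalizer (zpowers z : Set G) ≃* SignKer) : Nonempty (Setup G) := by
  classical
  have hzD : z ∈ D := hgen ▸ subset_closure (by simp)
  have hyD : y ∈ D := hgen ▸ subset_closure (by simp)
  have hz3 : z ^ 3 = 1 := hexp z hzD
  have hC180 : Nat.card (centralizer ({z} : Set G)) = 180 := by
    rw [Nat.card_congr eC.toEquiv, Nat.card_prod,
      Nat.card_congr Multiplicative.toAdd, Nat.card_zmod, nat_card_alternatingGroup, Nat.card_fin]
    rfl
  have hz1 : z ≠ 1 := by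
    intro h
    have h1 : centralizer ({z} : Set G) = ⊤ := by
      rw [eq_top_iff]; intro g _
      rw [mem_centralizer_singleton_iff, h]; simp
    have h2 : Nat.card (centralizer ({y} : Set G)) ∣ Nat.card G := card_subgroup_dvd_card _
    have h3 : Nat.card G = 180 := by rw [← hC180, h1, card_top]
    have hn : normalizer (zpowers z : Set G) = ⊤ := by
      rw [h, zpowers_one_eq_bot]
      exact eq_top_iff.2 fun g _ => mem_normalizer_iff.2 fun x => by simp [mem_bot]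
    have h6 := Nat.card_congr eL.toEquiv
    rw [hn, card_top, h3, Nat.card_eq_fintype_card (α := SignKer)] at h6
    have h7 : Fintype.card SignKer = 360 := by decide +kernel
    omega
  have hz : orderOf z = 3 := orderOf_eq_prime hz3 hz1
  obtain ⟨f₀⟩ := exists_frame z hz eL
  have hcommD : ∀ a ∈ D, ∀ b ∈ D, a * b = b * a := fun a ha b hb =>
    congrArg Subtype.val (hcomm.is_comm.comm (⟨a, ha⟩ : D) ⟨b, hb⟩)
  have hcomm_f : ∀ (f : Frame z) (g : G), g * z = z * g →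
      ∃ (k : Fin 3) (b : Perm (Fin 5)), sign b = 1 ∧ g = z ^ (k : ℕ) * f.ψ b := by
    intro f g h
    let S : g * z * g⁻¹ = z := mul_inv_eq_iff_eq_mul.2 h
    obtain ⟨k, b, rfl⟩ := f.surj g (Or.inl S)
    refine ⟨k, b, (Int.units_eq_one_or _).resolve_right fun hb => ?_, rfl⟩
    have : (z ^ (k : ℕ) * f.ψ b) * z * (z ^ (k : ℕ) * f.ψ b)⁻¹ = z⁻¹ := by
      calc _ = z ^ (k : ℕ) * (f.ψ b * z * (f.ψ b)⁻¹) * (z ^ (k : ℕ))⁻¹ := by group
        _ = _ := by rw [f.rel, hb]; simp [((Commute.refl z).pow_left _).inv_right.eq]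
    rw [S] at this
    have h2 : z * z = 1 := mul_eq_one_iff_eq_inv.2 this
    apply hz1
    rw [pow_succ, pow_two, h2, one_mul] at hz3
    exact hz3
  -- place a three-cycle of the frame in D
  obtain ⟨d, hdD, hdz⟩ : ∃ d ∈ D, d ∉ zpowers z := by
    by_contra hno
    push Not at hno
    have := Nat.le_of_dvd (by rw [Nat.card_zpowers, hz]; norm_num) (card_dvd_of_le (show D ≤ zpowers z from hno))
    rw [hcard, Nat.card_zpowers, hz] at this
    omega
  obtain ⟨k, b, hb, rfl⟩ := hcomm_f f₀ d (hcommD _ hdD _ hzD)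
  have hψbD : f₀.ψ b ∈ D := by
    have := mul_mem (inv_mem (pow_mem hzD (k : ℕ))) hdD
    rwa [inv_mul_cancel_left] at this
  have hb1 : b ≠ 1 := fun h => hdz (by rw [h, map_one, mul_one]; exact pow_mem (mem_zpowers z) _)
  have hb3 : b * b * b = 1 := by
    have e := hexp _ hψbD
    rw [← map_pow] at e
    have := (f₀.inj 0 (b ^ 3) (by simpa using e)).2
    rwa [pow_succ, pow_two] at this
  obtain ⟨σ, hσ⟩ := exists_conj_cr b hb3 hb1 hb
  let f := f₀.twist σ
  have hrD : f.ψ cr ∈ D := by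
    show f₀.ψ (σ * cr * σ⁻¹) ∈ D
    rwa [hσ]
  set r := f.ψ cr with hr
  -- every element of D
  have hinj2 : ∀ i j i' j' : Fin 3, z ^ (i : ℕ) * r ^ (j : ℕ) = z ^ (i' : ℕ) * r ^ (j' : ℕ) →
      i = i' ∧ j = j' := by
    intro i j i' j' h
    have hzi : z ^ ((i - i' : Fin 3) : ℕ) * f.ψ (cr ^ (j : ℕ) * (cr ^ (j' : ℕ))⁻¹) = 1 := by
      have hk : z ^ ((i - i' : Fin 3) : ℕ) = (z ^ (i' : ℕ))⁻¹ * z ^ (i : ℕ) := by
        refine (eq_inv_mul_iff_mul_eq.2 ?_)
        rw [← pow_add, pow_eq_pow_iff_modEq, hz]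
        have : ((i' + (i - i') : Fin 3) : ℕ) = i := by rw [add_sub_cancel]
        rw [Fin.val_add] at this
        exact this.trans (Nat.mod_eq_of_lt i.2).symm
      rw [hk, map_mul, map_inv, map_pow, map_pow, ← hr, ← mul_assoc, mul_assoc _ _ (r ^ (j : ℕ)), h]
      group
    obtain ⟨h1, h2⟩ := f.inj _ _ hzi
    refine ⟨sub_eq_zero.1 h1, ?_⟩
    revert h2
    exact (by decide +kernel : ∀ a c : Fin 3, cr ^ (a : ℕ) * (cr ^ (c : ℕ))⁻¹ = 1 → a = c) j j'
  have hDelts : ∀ x ∈ D, ∃ i j : Fin 3, x = z ^ (i : ℕ) * r ^ (j : ℕ) := by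
    let g : Fin 3 × Fin 3 → D := fun p => ⟨_, mul_mem (pow_mem hzD (p.1 : ℕ)) (pow_mem hrD (p.2 : ℕ))⟩
    have hg : Function.Bijective g := by
      refine (Nat.bijective_iff_injective_and_card g).2 ⟨fun p q h => ?_, by simp [hcard]⟩
      obtain ⟨h1, h2⟩ := hinj2 _ _ _ _ (congrArg Subtype.val h)
      exact Prod.ext h1 h2
    intro x hx
    obtain ⟨p, hp⟩ := hg.2 ⟨x, hx⟩
    exact ⟨p.1, p.2, (congrArg Subtype.val hp).symm⟩
  -- the subgroup N(D) ∩ N(z)
  set N := normalizer (D : Set G) with hN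
  have hDN : D ≤ N := le_normalizer
  have hNcard : Nat.card N = 72 := by
    have h1 := (D.subgroupOf N).card_eq_card_quotient_mul_card_subgroup
    rw [h1, Nat.card_congr eN.toEquiv, Nat.card_congr (subgroupOfEquivOfLe hDN).toEquiv, hcard,
      DihedralGroup.nat_card]
  have hconj_r : ∀ c : Perm (Fin 5), f.ψ c * r * (f.ψ c)⁻¹ = f.ψ (c * cr * c⁻¹) := fun c => by
    simp [hr]
  have hnorm_mem : ∀ c : Perm (Fin 5), c * cr * c⁻¹ = cr ∨ c * cr * c⁻¹ = cr⁻¹ → f.ψ c ∈ N := by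
    intro c hc
    refine mem_normalizer_fintype fun x hx => ?_
    obtain ⟨i, j, rfl⟩ := hDelts x hx
    rw [show f.ψ c * (z ^ (i : ℕ) * r ^ (j : ℕ)) * (f.ψ c)⁻¹ =
      (f.ψ c * z ^ (i : ℕ) * (f.ψ c)⁻¹) * (f.ψ c * r ^ (j : ℕ) * (f.ψ c)⁻¹) by group,
      ← conj_pow, ← conj_pow, f.rel, hconj_r]
    refine mul_mem (pow_mem (zpow_mem hzD _) _) (pow_mem ?_ _)
    rcases hc with h | h <;> rw [h]
    · exact hrD
    · rw [map_inv]; exact inv_mem hrD
  set M := N ⊓ normalizer (zpowers z : Set G) with hM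
  have hM36 : 36 ≤ Nat.card M := by
    have hz_mem : ∀ i : ℕ, z ^ i ∈ normalizer (zpowers z : Set G) := fun i =>
      le_normalizer (pow_mem (mem_zpowers z) i)
    let g : Fin 3 × {c : Perm (Fin 5) // c * cr * c⁻¹ = cr ∨ c * cr * c⁻¹ = cr⁻¹} → M := fun p =>
      ⟨z ^ (p.1 : ℕ) * f.ψ p.2.1, mul_mem (hDN (pow_mem hzD _)) (hnorm_mem _ p.2.2),
        mul_mem (hz_mem _) (mem_normalizer_three hz (by
          rw [f.rel]; rcases Int.units_eq_one_or (sign p.2.1) with h | h <;> rw [h] <;> simp))⟩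
    have hg : Function.Injective g := fun p q h => by
      have e : z ^ (p.1 : ℕ) * f.ψ p.2.1 = z ^ (q.1 : ℕ) * f.ψ q.2.1 := congrArg Subtype.val h
      have hk : z ^ ((p.1 - q.1 : Fin 3) : ℕ) = (z ^ (q.1 : ℕ))⁻¹ * z ^ (p.1 : ℕ) := by
        refine (eq_inv_mul_iff_mul_eq.2 ?_)
        rw [← pow_add, pow_eq_pow_iff_modEq, hz]
        have : ((q.1 + (p.1 - q.1) : Fin 3) : ℕ) = p.1 := by rw [add_sub_cancel]
        rw [Fin.val_add] at this
        exact this.trans (Nat.mod_eq_of_lt p.1.2).symm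
      obtain ⟨h1, h2⟩ := f.inj (p.1 - q.1) (p.2.1 * q.2.1⁻¹) (by
        rw [hk, map_mul, map_inv, ← mul_assoc, mul_assoc _ _ (f.ψ p.2.1), e]; group)
      exact Prod.ext (sub_eq_zero.1 h1) (Subtype.ext (mul_inv_eq_one.1 h2))
    have := Nat.card_le_card_of_injective g hg
    rwa [Nat.card_prod, Nat.card_fin, Nat.card_eq_fintype_card, card_norm_cr] at this
  have hMz : ∀ h ∈ M, h * z * h⁻¹ = z ∨ h * z * h⁻¹ = z⁻¹ := fun h hh => by
    have h1 : h * z * h⁻¹ ∈ zpowers z := (mem_normalizer_iff.1 hh.2 z).1 (mem_zpowers z)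
    rcases mem_zpowers_three hz3 h1 with e | e | e
    · rw [mul_inv_eq_one, mul_eq_left] at e
      exact absurd e hz1
    · exact Or.inl e
    · exact Or.inr e
  -- an element moving the line of z
  have hex : ∃ k ∈ N, ¬ (k * z * k⁻¹ = z ∨ k * z * k⁻¹ = z⁻¹) := by
    by_contra hno
    push Not at hno
    have hNM : N ≤ normalizer (zpowers z : Set G) := fun g hg =>
      mem_normalizer_three hz (hno g hg)
    have hd := card_dvd_of_le hNM
    rw [hNcard, Nat.card_congr eL.toEquiv, Nat.card_eq_fintype_card (α := SignKer),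
      show Fintype.card SignKer = 360 by decide +kernel] at hd
    -- inside the normaliser of z the stabiliser of D has order 36
    have hsurj' : ∀ x : N, ∃ p : Fin 3 × {c : Perm (Fin 5) //
        c * cr * c⁻¹ = cr ∨ c * cr * c⁻¹ = cr⁻¹}, z ^ (p.1 : ℕ) * f.ψ p.2.1 = x.1 := by
      intro x
      obtain ⟨kk, cc, hs⟩ := f.surj x.1 (hno x.1 x.2)
      have hmem : f.ψ cc ∈ N := by
        have h2 := mul_mem (inv_mem (hDN (pow_mem hzD (kk : ℕ)))) x.2
        rwa [hs, inv_mul_cancel_left] at h2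
      have hcr : f.ψ cc * r * (f.ψ cc)⁻¹ ∈ D := (mem_normalizer_iff.1 hmem r).1 hrD
      rw [hconj_r] at hcr
      obtain ⟨i, j, hij⟩ := hDelts _ hcr
      rw [hr, ← map_pow] at hij
      have hi := f.inj i (cr ^ (j : ℕ) * (cc * cr * cc⁻¹)⁻¹) (by
        rw [map_mul f.ψ (cr ^ (j : ℕ)), ← mul_assoc, ← hij, map_inv, mul_inv_cancel])
      refine ⟨⟨kk, cc, ?_⟩, hs.symm⟩
      have h2 := mul_inv_eq_one.1 hi.2
      rw [← h2]
      revert h2
      exact (by decide +kernel : ∀ (j : Fin 3) (c : Perm (Fin 5)), cr ^ (j : ℕ) = c * cr * c⁻¹ →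
        cr ^ (j : ℕ) = cr ∨ cr ^ (j : ℕ) = cr⁻¹) j cc
    choose g hg using hsurj'
    have hgi : Function.Injective g := fun x x' h => Subtype.ext (by rw [← hg x, ← hg x', h])
    have := Nat.card_le_card_of_injective g hgi
    rw [Nat.card_prod, Nat.card_fin, hNcard, Nat.card_eq_fintype_card, card_norm_cr] at this
    omega
  obtain ⟨k, hkN, hk⟩ := hex
  have hkM : k ∉ M := fun h => hk (hMz k h)
  have hMN : M ≤ N := inf_le_left
  have hidx : (M.subgroupOf N).index = 2 := by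
    have h1 := (M.subgroupOf N).card_mul_index
    rw [Nat.card_congr (subgroupOfEquivOfLe hMN).toEquiv, hNcard] at h1
    have h2 : (M.subgroupOf N).index ≠ 1 := fun h => by
      rw [index_eq_one] at h
      exact hkM ((mem_subgroupOf (h := (⟨k, hkN⟩ : N))).1 (h ▸ mem_top _))
    have h3 : (M.subgroupOf N).index ≠ 0 := index_ne_zero_of_finite
    by_contra hne
    have : 3 ≤ (M.subgroupOf N).index := by omega
    have := Nat.mul_le_mul hM36 this
    omega
  have hsq : k * k ∈ M := by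
    have := Subgroup.mul_self_mem_of_index_two hidx ⟨k, hkN⟩
    exact (mem_subgroupOf.1 this)
  have : (M.subgroupOf N).Normal := normal_of_index_eq_two hidx
  have h34 : f.ψ (swap 3 4) ∈ M :=
    ⟨hnorm_mem _ (by decide +kernel), mem_normalizer_three hz (Or.inr (by
      rw [f.rel, show sign (swap (3 : Fin 5) 4) = -1 by decide]; simp))⟩
  have hswap : ∀ g ∈ N, g ∉ M → ∃ j : Fin 3, j ≠ 0 ∧ g * z * g⁻¹ = r ^ (j : ℕ) := by
    intro g hgN hgM
    obtain ⟨i, j, hij⟩ := hDelts _ ((mem_normalizer_iff.1 hgN z).1 hzD)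
    have hj : j ≠ 0 := by
      rintro rfl
      apply hgM
      refine ⟨hgN, mem_normalizer_three hz ?_⟩
      simp only [Fin.val_zero, pow_zero, mul_one] at hij
      rcases mem_zpowers_three hz3 (hij ▸ pow_mem (mem_zpowers z) (i : ℕ) : g * z * g⁻¹ ∈ zpowers z)
        with e | e | e
      · rw [mul_inv_eq_one, mul_eq_left] at e
        exact absurd e hz1
      · exact Or.inl e
      · exact Or.inr e
    have hh : g⁻¹ * f.ψ (swap 3 4) * g ∈ M := by
      have := Subgroup.Normal.conj_mem this (⟨_, hMN h34⟩ : N) (mem_subgroupOf.2 h34) ⟨g⁻¹, inv_mem hgN⟩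
      simpa using mem_subgroupOf.1 this
    set s := f.ψ (swap (3 : Fin 5) 4) with hs
    have hsz : s * z * s⁻¹ = z⁻¹ := by rw [hs, f.rel, show sign (swap (3 : Fin 5) 4) = -1 by decide]; simp
    have hsr : s * r * s⁻¹ = r := by
      rw [hs, hconj_r, hr]; congr 1; decide +kernel
    have himg : s * (g * z * g⁻¹) * s⁻¹ = (z⁻¹) ^ (i : ℕ) * r ^ (j : ℕ) := by
      rw [hij]
      calc s * (z ^ (i : ℕ) * r ^ (j : ℕ)) * s⁻¹
          = (s * z ^ (i : ℕ) * s⁻¹) * (s * r ^ (j : ℕ) * s⁻¹) := by group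
        _ = (s * z * s⁻¹) ^ (i : ℕ) * (s * r * s⁻¹) ^ (j : ℕ) := by rw [conj_pow, conj_pow]
        _ = _ := by rw [hsz, hsr]
    have hcases : s * (g * z * g⁻¹) * s⁻¹ = g * z * g⁻¹ ∨ s * (g * z * g⁻¹) * s⁻¹ = (g * z * g⁻¹)⁻¹ := by
      rcases hMz _ hh with e | e
      · left
        calc s * (g * z * g⁻¹) * s⁻¹ = g * ((g⁻¹ * s * g) * z * (g⁻¹ * s * g)⁻¹) * g⁻¹ := by group
          _ = _ := by rw [e]
      · right
        calc s * (g * z * g⁻¹) * s⁻¹ = g * ((g⁻¹ * s * g) * z * (g⁻¹ * s * g)⁻¹) * g⁻¹ := by group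
          _ = _ := by rw [e]; group
    have hrz : Commute r z := hcommD r hrD z hzD
    have hinvpow : ∀ (x : G), x ^ 3 = 1 → ∀ m : Fin 3, (x ^ (m : ℕ))⁻¹ = x ^ ((-m : Fin 3) : ℕ) := by
      intro x hx m
      rw [inv_eq_iff_mul_eq_one, ← pow_add]
      obtain ⟨q, hq⟩ : 3 ∣ (m : ℕ) + ((-m : Fin 3) : ℕ) :=
        (by decide : ∀ m : Fin 3, 3 ∣ (m : ℕ) + ((-m : Fin 3) : ℕ)) m
      rw [hq, pow_mul, hx, one_pow]
    rw [himg, hij, inv_pow, hinvpow z hz3] at hcases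
    refine ⟨j, hj, ?_⟩
    rcases hcases with e | e
    · obtain ⟨h1, -⟩ := hinj2 _ _ _ _ e
      have hi0 : i = 0 := (by decide : ∀ i : Fin 3, -i = i → i = 0) i h1
      rw [hij, hi0]; simp
    · rw [mul_inv_rev, hinvpow z hz3, hinvpow r (hexp r hrD), (hrz.pow_pow _ _).eq] at e
      obtain ⟨-, h2⟩ := hinj2 _ _ _ _ e
      exact absurd ((by decide : ∀ j : Fin 3, j = -j → j = 0) j h2) hj
  have hrpow : ∀ j : Fin 3, j ≠ 0 → r ^ (j : ℕ) = r ∨ r ^ (j : ℕ) = r⁻¹ := by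
    intro j hj
    have hr3 : r ^ 3 = 1 := hexp r hrD
    rcases (by decide : ∀ j : Fin 3, j ≠ 0 → j = 1 ∨ j = 2) j hj with rfl | rfl
    · exact Or.inl (pow_one r)
    · right
      rw [eq_inv_iff_mul_eq_one, ← pow_succ]
      exact hr3
  obtain ⟨j₁, hj₁, hk₁⟩ := hswap k hkN hkM
  obtain ⟨j₂, hj₂, hk₂⟩ := hswap k⁻¹ (inv_mem hkN) fun h => hkM (inv_mem_iff.1 h)
  have hkr : k * r * k⁻¹ = z ∨ k * r * k⁻¹ = z⁻¹ := by
    have e : k⁻¹ * z * k = r ^ (j₂ : ℕ) := by simpa using hk₂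
    rcases hrpow j₂ hj₂ with h | h <;> rw [h] at e
    · left; rw [← e]; group
    · right
      rw [eq_comm, inv_eq_iff_eq_inv] at e
      rw [e]; group
  -- normalise k
  obtain ⟨k₂, hk₂z, hk₂r⟩ : ∃ k₂ : G, k₂ * z * k₂⁻¹ = r ∧ k₂ * r * k₂⁻¹ = z := by
    obtain ⟨k₁, h1, h2⟩ : ∃ k₁ : G, k₁ * z * k₁⁻¹ = r ∧ (k₁ * r * k₁⁻¹ = z ∨ k₁ * r * k₁⁻¹ = z⁻¹) := by
      rcases hrpow j₁ hj₁ with h | h <;> rw [h] at hk₁
      · exact ⟨k, hk₁, hkr⟩
      · set c := swap (0 : Fin 5) 1 * swap 3 4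
        have hc1 : f.ψ c * z * (f.ψ c)⁻¹ = z := by rw [f.rel, show sign c = 1 by decide]; simp
        have hc2 : f.ψ c * r⁻¹ * (f.ψ c)⁻¹ = r := by
          rw [← conj_inv, hconj_r, show c * cr * c⁻¹ = cr⁻¹ by decide +kernel, map_inv, inv_inv, hr]
        refine ⟨f.ψ c * k, ?_, ?_⟩
        · calc f.ψ c * k * z * (f.ψ c * k)⁻¹ = f.ψ c * (k * z * k⁻¹) * (f.ψ c)⁻¹ := by group
            _ = _ := by rw [hk₁, hc2]
        · rcases hkr with e | e
          · left
            calc f.ψ c * k * r * (f.ψ c * k)⁻¹ = f.ψ c * (k * r * k⁻¹) * (f.ψ c)⁻¹ := by group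
              _ = _ := by rw [e, hc1]
          · right
            calc f.ψ c * k * r * (f.ψ c * k)⁻¹ = f.ψ c * (k * r * k⁻¹) * (f.ψ c)⁻¹ := by group
              _ = _ := by rw [e, ← conj_inv, hc1]
    rcases h2 with h2 | h2
    · exact ⟨k₁, h1, h2⟩
    · have hsz : f.ψ (swap 3 4) * z⁻¹ * (f.ψ (swap 3 4))⁻¹ = z := by
        rw [← conj_inv, f.rel, show sign (swap (3 : Fin 5) 4) = -1 by decide]; simp
      have hsr : f.ψ (swap 3 4) * r * (f.ψ (swap 3 4))⁻¹ = r := by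
        rw [hconj_r, hr]; congr 1; decide +kernel
      refine ⟨f.ψ (swap 3 4) * k₁, ?_, ?_⟩
      · calc f.ψ (swap 3 4) * k₁ * z * (f.ψ (swap 3 4) * k₁)⁻¹
            = f.ψ (swap 3 4) * (k₁ * z * k₁⁻¹) * (f.ψ (swap 3 4))⁻¹ := by group
          _ = _ := by rw [h1, hsr]
      · calc f.ψ (swap 3 4) * k₁ * r * (f.ψ (swap 3 4) * k₁)⁻¹
            = f.ψ (swap 3 4) * (k₁ * r * k₁⁻¹) * (f.ψ (swap 3 4))⁻¹ := by group
          _ = _ := by rw [h2, hsz]
  set t := k₂ * k₂ * k₂ with ht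
  have h22z : k₂ * k₂ * z * (k₂ * k₂)⁻¹ = z := by
    calc k₂ * k₂ * z * (k₂ * k₂)⁻¹ = k₂ * (k₂ * z * k₂⁻¹) * k₂⁻¹ := by group
      _ = _ := by rw [hk₂z, hk₂r]
  have h22D : k₂ * k₂ ∈ D := by
    rw [← hC, mem_centralizer_iff]
    intro x hx
    obtain ⟨i, j, rfl⟩ := hDelts x hx
    have hcr : k₂ * k₂ * r * (k₂ * k₂)⁻¹ = r := by
      calc k₂ * k₂ * r * (k₂ * k₂)⁻¹ = k₂ * (k₂ * r * k₂⁻¹) * k₂⁻¹ := by group
        _ = _ := by rw [hk₂r, hk₂z]
    have c1 : Commute z (k₂ * k₂) := (mul_inv_eq_iff_eq_mul.1 h22z).symm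
    have c2 : Commute r (k₂ * k₂) := (mul_inv_eq_iff_eq_mul.1 hcr).symm
    exact ((c1.pow_left _).mul_left (c2.pow_left _)).eq
  have ht2 : t * t = 1 := by
    have h3 := hexp _ h22D
    rw [ht, ← h3, pow_succ, pow_two]; group
  have htz : t * z * t = r := by
    have hti : t⁻¹ = t := inv_eq_of_mul_eq_one_right ht2
    calc t * z * t = t * z * t⁻¹ := by rw [hti]
      _ = k₂ * (k₂ * k₂ * z * (k₂ * k₂)⁻¹) * k₂⁻¹ := by rw [ht]; group
      _ = _ := by rw [h22z, hk₂z]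
  -- the element y
  have hr180 : Nat.card (centralizer ({r} : Set G)) = 180 := by
    rw [← hk₂z, centralizer_conj_card, hC180]
  have hy : Nat.card (centralizer ({z * r} : Set G)) = 18 := by
    obtain ⟨i, j, rfl⟩ := hDelts y hyD
    have hfix := fun x => centralizer_inv_eq (G := G) x
    have hr3 : r ^ 3 = 1 := hexp r hrD
    have hz2 : z ^ 2 = z⁻¹ := by rw [eq_inv_iff_mul_eq_one, ← pow_succ, hz3]
    have hr2 : r ^ 2 = r⁻¹ := by rw [eq_inv_iff_mul_eq_one, ← pow_succ, hr3]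
    have hflip : Nat.card (centralizer ({z⁻¹ * r} : Set G)) =
        Nat.card (centralizer ({z * r} : Set G)) := by
      rw [← centralizer_conj_card (f.ψ (swap 3 4)) (z * r)]
      congr 3
      rw [show f.ψ (swap 3 4) * (z * r) * (f.ψ (swap 3 4))⁻¹ =
        (f.ψ (swap 3 4) * z * (f.ψ (swap 3 4))⁻¹) * (f.ψ (swap 3 4) * r * (f.ψ (swap 3 4))⁻¹) by group,
        f.rel, hconj_r, show sign (swap (3 : Fin 5) 4) = -1 by decide]
      simp only [Units.val_neg, Units.val_one, zpow_neg, zpow_one]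
      rw [show swap (3 : Fin 5) 4 * cr * (swap (3 : Fin 5) 4)⁻¹ = cr by decide +kernel]
    have hrz : Commute r z := hcommD r hrD z hzD
    fin_cases i <;> fin_cases j <;> simp only [pow_zero, pow_one, one_mul, mul_one,
      hz2, hr2, hfix] at hycard ⊢
    · exfalso
      have htop : centralizer ({(1 : G)} : Set G) = ⊤ := by
        rw [eq_top_iff]; intro g _
        rw [mem_centralizer_singleton_iff]; simp
      rw [htop, card_top] at hycard
      have h2 : Nat.card (centralizer ({z} : Set G)) ∣ Nat.card G := card_subgroup_dvd_card _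
      rw [hC180, hycard] at h2
      norm_num at h2
    all_goals first
      | exact hycard
      | omega
      | (rw [← hfix (z * r), mul_inv_rev, ← hrz.inv_inv.eq.symm] ; exact hycard)
      | (rw [← hflip]; exact hycard)
      | (rw [← hflip, ← hfix (z⁻¹ * r), mul_inv_rev, inv_inv, hrz.inv_left.eq]; exact hycard)
  refine ⟨{
    z := z, ψ := f.ψ, t := t, z_cube := by rw [← pow_two, ← pow_succ, hz3], rel := f.rel,
    surj := f.surj, inj := f.inj, t_inv := ht2, t_z := htz, card_y := hy, no27 := fun h => ?_ }⟩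
  subst hDP
  have h1 := (P : Subgroup G).card_mul_index
  rw [hcard] at h1
  rw [← h1, show (27 : ℕ) = 9 * 3 from rfl] at h
  exact P.not_dvd_index ((Nat.mul_dvd_mul_iff_left (by norm_num : 0 < 9)).1 h)

end Cfsg.Agent.H70.AltEight
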