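import Cfsg.Agent.H70.AltEight.Embed
import Cfsg.Agent.H70.AltEight.Model8
import Cfsg.Agent.H70.AltEight.Start

/-!
Centralisers of elements of order three and of the four-group lie in the embedded alternating group.
-/

set_option autoImplicit false
set_option maxRecDepth 20000
set_option synthInstance.maxSize 512

namespace Cfsg.Agent.H70.AltEight

open Equiv Equiv.Perm Subgroup Eight

universe u

theorem w8_swap : swap (0 : Fin 8) 1 * (w8 : Perm (Fin 8)) * (swap (0 : Fin 8) 1)⁻¹ = w8 ∧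
    swap (3 : Fin 8) 4 * (u8 : Perm (Fin 8)) * (swap (3 : Fin 8) 4)⁻¹ = u8 := by decide +kernel

theorem conj_even {a b : A8} {s : Perm (Fin 8)} (hs : sign s = -1)
    (hsa : s * (a : Perm (Fin 8)) * s⁻¹ = a)
    (h : IsConj (a : Perm (Fin 8)) (b : Perm (Fin 8))) : IsConj a b := by
  obtain ⟨σ, hσ⟩ := isConj_iff.1 h
  rcases Int.units_eq_one_or (sign σ) with e | e
  · exact isConj_iff.2 ⟨⟨σ, mem_alternatingGroup.2 e⟩, Subtype.ext hσ⟩
  · refine isConj_iff.2 ⟨⟨σ * s, mem_alternatingGroup.2 (by rw [map_mul, e, hs]; rfl)⟩, Subtype.ext ?_⟩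
    show σ * s * (a : Perm (Fin 8)) * (σ * s)⁻¹ = b
    rw [show σ * s * (a : Perm (Fin 8)) * (σ * s)⁻¹ = σ * (s * a * s⁻¹) * σ⁻¹ by group, hsa, hσ]

/-- The two classes of involutions. -/
theorem involution_class (a : A8) (h2 : a * a = 1) (h1 : a ≠ 1) :
    (Fpf a ∧ IsConj w8 a) ∨ (¬ Fpf a ∧ IsConj u8 a) := by
  set σ := (a : Perm (Fin 8)) with hσ
  have hsq : σ * σ = 1 := congrArg Subtype.val h2
  have hrep : σ.cycleType = Multiset.replicate (Multiset.card σ.cycleType) 2 := by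
    refine Multiset.eq_replicate_card.mpr fun c hc => ?_
    have h1 := Equiv.Perm.dvd_of_mem_cycleType hc
    have h2 : orderOf σ ∣ 2 := orderOf_dvd_of_pow_eq_one (by rw [pow_two]; exact hsq)
    exact ((Nat.dvd_prime Nat.prime_two).mp (h1.trans h2)).resolve_left
      (Equiv.Perm.one_lt_of_mem_cycleType hc).ne'
  set c := Multiset.card σ.cycleType with hc
  have hsum := Equiv.Perm.sum_cycleType σ
  rw [hrep, Multiset.sum_replicate, smul_eq_mul] at hsum
  have hle : σ.support.card ≤ 8 := by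
    simpa using Finset.card_le_univ σ.support
  have hsgn := mem_alternatingGroup.1 a.2
  rw [Equiv.Perm.sign_of_cycleType, hrep, Multiset.sum_replicate, Multiset.card_replicate,
    smul_eq_mul] at hsgn
  have hc0 : c ≠ 0 := fun h => h1 (Subtype.ext (by
    have : σ.cycleType = 0 := Multiset.card_eq_zero.1 h
    exact Equiv.Perm.cycleType_eq_zero.1 this))
  have hc' : c = 2 ∨ c = 4 := by
    have h4 : c ≤ 4 := by omega
    rcases Nat.even_or_odd c with h | h
    · obtain ⟨d, hd⟩ := h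
      omega
    · exfalso
      have hodd : Odd (c * 2 + c) := by obtain ⟨d, hd⟩ := h; exact ⟨3 * d + 1, by omega⟩
      rw [hodd.neg_one_pow] at hsgn
      exact absurd hsgn (by decide)
  have hw : ((w8 : Perm (Fin 8))).cycleType = Multiset.replicate 4 2 := by decide +kernel
  have hu : ((u8 : Perm (Fin 8))).cycleType = Multiset.replicate 2 2 := by decide +kernel
  have hfpf : Fpf a ↔ σ.support.card = 8 := by
    refine ⟨fun h => ?_, fun h p => ?_⟩
    · rw [show σ.support = Finset.univ from Finset.eq_univ_of_forall fun p => mem_support.2 (h p)]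
      simp
    · exact mem_support.1 (by rw [Finset.eq_univ_of_card σ.support (by simpa using h)]; simp)
  rcases hc' with e | e
  · exact Or.inr ⟨by rw [hfpf]; omega, conj_even (by decide) w8_swap.2
      (isConj_iff_cycleType_eq.2 (by rw [hu, hrep, e]))⟩
  · exact Or.inl ⟨hfpf.2 (by omega), conj_even (by decide) w8_swap.1
      (isConj_iff_cycleType_eq.2 (by rw [hw, hrep, e]))⟩

/-- The embedded alternating group. -/
structure Ctx (G : Type u) [Group G] where
  S : Setup G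
  φ : A8 →* G
  inj : Function.Injective φ
  φ_z : φ z8 = S.z

variable {G : Type u} [Group G] [Finite G]

theorem exists_ctx (S : Setup G) : Nonempty (Ctx G) := by
  obtain ⟨φ, hφ, hz⟩ := S.exists_embedding
  exact ⟨⟨S, φ, hφ, by rw [← hz]; exact congrArg φ (Subtype.ext (by decide +kernel))⟩⟩

theorem range_of_card {φ : A8 →* G} (hφ : Function.Injective φ) (T : Subgroup G) {ι : Type*}
    [Fintype ι] (L : ι → A8) (hL : Function.Injective L) (hmem : ∀ i, φ (L i) ∈ T)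
    (hcard : Nat.card T ≤ Nat.card ι) {g : G} (hg : g ∈ T) : ∃ i, φ (L i) = g := by
  let f : ι → T := fun i => ⟨φ (L i), hmem i⟩
  have hf : Function.Injective f := fun i j h => hL (hφ (congrArg Subtype.val h))
  have hb : Function.Bijective f := (Nat.bijective_iff_injective_and_card f).2
    ⟨hf, le_antisymm (Nat.card_le_card_of_injective f hf) hcard⟩
  obtain ⟨i, hi⟩ := hb.2 ⟨g, hg⟩
  exact ⟨i, congrArg Subtype.val hi⟩

namespace Ctx

variable (c : Ctx G)

omit [Finite G] in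
theorem map_comm {a b : A8} (h : a * b = b * a) : c.φ a * c.φ b = c.φ b * c.φ a := by
  rw [← map_mul, h, map_mul]

omit [Finite G] in
theorem inv_comm {a b : A8} (h : c.φ a * c.φ b = c.φ b * c.φ a) : a * b = b * a :=
  c.inj (by rw [map_mul, map_mul, h])

theorem cent_z {g : G} (h : g * c.φ z8 = c.φ z8 * g) : ∃ i, c.φ (cz i) = g := by
  refine range_of_card c.inj (centralizer {c.φ z8}) cz cz_inj
    (fun i => mem_centralizer_singleton_iff.2 (c.map_comm (cz_comm i))) ?_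
    (mem_centralizer_singleton_iff.2 h)
  rw [c.φ_z, c.S.card_cent_z, card_cz_index]

theorem card_cent_y : Nat.card (centralizer ({c.φ y8} : Set G)) = 18 := by
  set S := c.S
  have hzc : c.φ c8 * S.z = S.z * c.φ c8 := by
    rw [← c.φ_z]; exact c.map_comm (by decide +kernel)
  obtain ⟨k, b, hb, e⟩ := S.comm_z_iff.1 hzc
  have hkb : Commute (S.z ^ (k : ℕ)) (S.ψ b) := Commute.pow_left (S.ψ_comm hb).symm _
  have hb3 : b * b * b = 1 := by
    have e3 : (c.φ c8) ^ 3 = 1 := by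
      rw [← map_pow, show c8 ^ 3 = 1 by decide +kernel, map_one]
    rw [e, hkb.mul_pow, ← pow_mul, mul_comm, pow_mul, S.z_pow_three, one_pow, one_mul, ← map_pow,
      ← map_one S.ψ] at e3
    have := S.ψ_inj e3
    rwa [pow_succ, pow_two] at this
  have hb1 : b ≠ 1 := by
    rintro rfl
    rw [map_one, mul_one, ← c.φ_z, ← map_pow] at e
    exact (by decide +kernel : ∀ k : Fin 3, c8 ≠ z8 ^ (k : ℕ)) k (c.inj e)
  obtain ⟨σ, hσ⟩ := exists_conj_cr b hb3 hb1 hb
  -- conjugate into the standard position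
  obtain ⟨i, hi⟩ : ∃ i : Fin 3, (S.ψ σ)⁻¹ * S.z * S.ψ σ = S.z ^ (i : ℕ) ∧ i ≠ 0 := by
    rcases Int.units_eq_one_or (sign σ) with h | h
    · exact ⟨1, by rw [Fin.val_one, pow_one, mul_assoc, ← S.ψ_comm h, inv_mul_cancel_left], by decide⟩
    · refine ⟨2, ?_, by decide⟩
      have h' : sign σ⁻¹ = -1 := by rw [map_inv, h]; rfl
      have := S.ψ_inv h'
      rw [map_inv, inv_inv] at this
      rw [this, Fin.val_two, S.inv_z]
  have hconj : ∀ m : ℕ, S.z ^ m * S.ψ b =
      S.ψ σ * ((S.z ^ (i : ℕ)) ^ m * S.r) * (S.ψ σ)⁻¹ := fun m => by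
    rw [← hi.1, Setup.r, ← hσ, map_mul, map_mul, map_inv]
    have hp := conj_pow (a := (S.ψ σ)⁻¹) (b := S.z) (i := m)
    rw [inv_inv] at hp
    rw [hp]
    group
  have h180 : Nat.card (centralizer ({c.φ c8} : Set G)) = 180 := by
    obtain ⟨a, ha⟩ : ∃ a : A8, a * z8 * a⁻¹ = c8 :=
      ⟨⟨swap 0 3 * swap 1 4 * (swap 2 5 * swap 6 7), mem_alternatingGroup.2 (by decide)⟩, by decide +kernel⟩
    rw [← ha, map_mul, map_mul, map_inv, c.φ_z, centralizer_conj_card, S.card_cent_z]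
  have hk : k = 0 := by
    by_contra hk
    rw [e, hconj, centralizer_conj_card, ← pow_mul] at h180
    have hik : (((i : ℕ) * k) % 3) ≠ 0 := by
      revert hk; have := hi.2; revert this
      exact (by decide : ∀ i k : Fin 3, i ≠ 0 → ¬ k = 0 → ((i : ℕ) * k) % 3 ≠ 0) i k
    rw [pow_eq_pow_mod _ S.z_pow_three] at h180
    have h18 := S.card_cent_zr ⟨((i : ℕ) * k) % 3, Nat.mod_lt _ (by norm_num)⟩ 1
      (fun h => hik (congrArg Fin.val h)) (by decide)
    rw [Fin.val_one, pow_one] at h18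
    change Nat.card (centralizer ({S.z ^ (((i : ℕ) * k) % 3) * S.r} : Set G)) = 18 at h18
    rw [h18] at h180
    omega
  subst hk
  rw [Fin.val_zero, pow_zero, one_mul] at e
  obtain ⟨a, ha⟩ : ∃ a : A8, a * (z8 * c8) * a⁻¹ = y8 :=
    ⟨⟨swap 1 3 * (swap 2 5 * swap 5 6 * swap 6 7), mem_alternatingGroup.2 (by decide)⟩,
      by decide +kernel⟩
  have h1 := hconj 1
  rw [pow_one, pow_one] at h1
  rw [← ha, map_mul, map_mul, map_inv, map_mul c.φ z8, c.φ_z, e, centralizer_conj_card, h1,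
    centralizer_conj_card]
  have h18 := S.card_cent_zr i 1 hi.2 (by decide)
  rwa [Fin.val_one, pow_one] at h18

theorem cent_y {g : G} (h : g * c.φ y8 = c.φ y8 * g) : ∃ i, c.φ (cy i) = g := by
  refine range_of_card c.inj (centralizer {c.φ y8}) cy cy_facts.2
    (fun i => mem_centralizer_singleton_iff.2 (c.map_comm (cy_facts.1 i))) ?_
    (mem_centralizer_singleton_iff.2 h)
  rw [c.card_cent_y]
  simp

omit [Finite G] in
theorem exists_five {a : A8} (hc : a * z8 = z8 * a) (h2 : a * a = 1) :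
    ∃ b : Perm (Fin 5), sign b = 1 ∧ b * b = 1 ∧ c.φ a = c.S.ψ b := by
  set S := c.S
  have hzc : c.φ a * S.z = S.z * c.φ a := by rw [← c.φ_z]; exact c.map_comm hc
  obtain ⟨k, b, hb, e⟩ := S.comm_z_iff.1 hzc
  have hkb : Commute (S.z ^ (k : ℕ)) (S.ψ b) := Commute.pow_left (S.ψ_comm hb).symm _
  have he : c.φ a * c.φ a = 1 := by rw [← map_mul, h2, map_one]
  rw [e, hkb.symm.mul_mul_mul_comm, ← pow_add, ← map_mul] at he
  obtain ⟨h0, hbb⟩ := S.inj ⟨((k : ℕ) + k) % 3, Nat.mod_lt _ (by norm_num)⟩ (b * b) (by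
    show S.z ^ (((k : ℕ) + k) % 3) * S.ψ (b * b) = 1
    rw [← pow_eq_pow_mod _ S.z_pow_three]; exact he)
  have hk : k = 0 := (by decide : ∀ k : Fin 3, ((k : ℕ) + k) % 3 = 0 → k = 0) k (congrArg Fin.val h0)
  exact ⟨b, hb, hbb, by rw [e, hk]; simp⟩

omit [Finite G] in
theorem conj_U : IsConj c.S.U (c.φ u8) := by
  obtain ⟨b, hb, hbb, e⟩ := c.exists_five (a := u8) (by decide +kernel) (by decide +kernel)
  rw [e]
  refine c.S.conj_U_of_even hb hbb fun h => ?_
  rw [h, map_one, ← map_one c.φ] at e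
  exact (by decide +kernel : u8 ≠ 1) (c.inj e)

theorem cent_V {g : G} (hu : g * c.φ u8 = c.φ u8 * g) (hv : g * c.φ v8 = c.φ v8 * g) :
    ∃ i, c.φ (cv i) = g := by
  set S := c.S
  refine range_of_card c.inj (centralizer {c.φ u8, c.φ v8}) cv cv_facts.2
    (fun i => ?_) ?_ (by simp [mem_centralizer_iff, hu, hv])
  · have h1 := c.map_comm (cv_facts.1 i).1
    have h2 := c.map_comm (cv_facts.1 i).2
    simp [mem_centralizer_iff, h1, h2]
  obtain ⟨a, ha, haa, ea⟩ := c.exists_five (a := u8) (by decide +kernel) (by decide +kernel)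
  change c.φ u8 = S.ψ a at ea
  obtain ⟨b, hb, hbb, eb⟩ := c.exists_five (a := v8) (by decide +kernel) (by decide +kernel)
  change c.φ v8 = S.ψ b at eb
  have ha1 : a ≠ 1 := fun h => by
    rw [h, map_one, ← map_one c.φ] at ea
    exact (by decide +kernel : u8 ≠ 1) (c.inj ea)
  have hb1 : b ≠ 1 := fun h => by
    rw [h, map_one, ← map_one c.φ] at eb
    exact (by decide +kernel : v8 ≠ 1) (c.inj eb)
  have hab : a ≠ b := fun h => (by decide +kernel : u8 ≠ v8) (c.inj (by rw [ea, eb, h]))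
  have hcab : a * b = b * a := S.ψ_inj (by
    rw [map_mul, map_mul, ← ea, ← eb]; exact c.map_comm (by decide +kernel))
  obtain ⟨σ, h1, h2⟩ := klein_pairs a b ha haa ha1 hb hbb hb1 hab hcab
  obtain ⟨ρ, -, -, h4, -⟩ := S.exists_coords
  -- the parametrisation
  let f : {b : Perm (Fin 5) // InKlein b} × {b : Perm (Fin 5) // sign b = 1 ∧ b 4 = 4} →
      (centralizer ({c.φ u8, c.φ v8} : Set G)) := fun p => ⟨S.ψ σ * (S.ψ p.1.1 * ρ p.2.1) * (S.ψ σ)⁻¹, by
    have hx : ρ p.2.1 ∈ S.CV := S.X_four_le_CV ((h4 _).2 ⟨p.2.1, p.2.2.1, p.2.2.2, rfl⟩)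
    obtain ⟨e1, e2⟩ := S.mem_CV.1 (mul_mem (S.klein_mem_CV p.1.2) hx)
    rw [mem_centralizer_iff]
    rintro x (rfl | rfl)
    · rw [ea, ← h1, map_mul, map_mul, map_inv]
      calc S.ψ σ * S.ψ u5 * (S.ψ σ)⁻¹ * (S.ψ σ * (S.ψ p.1.1 * ρ p.2.1) * (S.ψ σ)⁻¹)
          = S.ψ σ * (S.ψ u5 * (S.ψ p.1.1 * ρ p.2.1)) * (S.ψ σ)⁻¹ := by group
        _ = _ := by rw [← e1]; group
    · rw [eb, ← h2, map_mul, map_mul, map_inv]
      calc S.ψ σ * S.ψ v5 * (S.ψ σ)⁻¹ * (S.ψ σ * (S.ψ p.1.1 * ρ p.2.1) * (S.ψ σ)⁻¹)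
          = S.ψ σ * (S.ψ v5 * (S.ψ p.1.1 * ρ p.2.1)) * (S.ψ σ)⁻¹ := by group
        _ = _ := by rw [← e2]; group⟩
  have hf : Function.Surjective f := by
    rintro ⟨g, hg⟩
    have g1 : g * c.φ u8 = c.φ u8 * g := ((mem_centralizer_iff.1 hg) _ (by simp)).symm
    have g2 : g * c.φ v8 = c.φ v8 * g := ((mem_centralizer_iff.1 hg) _ (by simp)).symm
    have key : ∀ (x : A8) (d : Perm (Fin 5)) (q : Perm (Fin 5)), c.φ x = S.ψ d → σ * q * σ⁻¹ = d →
        g * c.φ x = c.φ x * g →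
        (S.ψ σ)⁻¹ * g * S.ψ σ * S.ψ q = S.ψ q * ((S.ψ σ)⁻¹ * g * S.ψ σ) := by
      intro x d q ex hq hg'
      rw [ex, ← hq, map_mul, map_mul, map_inv] at hg'
      calc (S.ψ σ)⁻¹ * g * S.ψ σ * S.ψ q
          = (S.ψ σ)⁻¹ * (g * (S.ψ σ * S.ψ q * (S.ψ σ)⁻¹)) * S.ψ σ := by group
        _ = _ := by rw [hg']; group
    obtain ⟨q, hq, x, hx, e⟩ := S.CV_decomp (S.mem_CV.2 ⟨key u8 a u5 ea h1 g1, key v8 b v5 eb h2 g2⟩)
    obtain ⟨d, hd, hd4, rfl⟩ := (h4 x).1 hx
    refine ⟨(⟨q, hq⟩, ⟨d, hd, hd4⟩), Subtype.ext ?_⟩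
    show S.ψ σ * (S.ψ q * ρ d) * (S.ψ σ)⁻¹ = g
    rw [← e]; group
  refine (Nat.card_le_card_of_surjective f hf).trans ?_
  rw [Nat.card_prod, Nat.card_eq_fintype_card, Nat.card_eq_fintype_card, Nat.card_eq_fintype_card,
    show Fintype.card {b : Perm (Fin 5) // InKlein b} = 4 by decide +kernel,
    show Fintype.card {b : Perm (Fin 5) // sign b = 1 ∧ b 4 = 4} = 12 by decide +kernel]
  simp

/-- An element of order three commuting with `x` whose centraliser is small separates `x` from `U`. -/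
theorem not_conj_U {x : G} (hx : x * c.φ y8 = c.φ y8 * x) : ¬ IsConj c.S.U x := by
  intro h
  set S := c.S
  obtain ⟨g, hg⟩ := isConj_iff.1 h
  set q := g⁻¹ * c.φ y8 * g with hq
  have hqU : q * S.U = S.U * q := by
    calc q * S.U = g⁻¹ * (c.φ y8 * (g * S.U * g⁻¹)) * g := by rw [hq]; group
      _ = g⁻¹ * ((g * S.U * g⁻¹) * c.φ y8) * g := by rw [hg, hx]
      _ = _ := by rw [hq]; group
  have hq3 : q ^ 3 = 1 := by
    rw [hq, show g⁻¹ * c.φ y8 * g = g⁻¹ * c.φ y8 * g⁻¹⁻¹ by rw [inv_inv], conj_pow, ← map_pow,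
      show y8 ^ 3 = 1 by decide +kernel, map_one]
    simp
  obtain ⟨k, -, hk⟩ := S.three_in_CU (centralizer {S.U})
    (fun m hm => mem_centralizer_singleton_iff.1 hm)
    (mem_centralizer_singleton_iff.2 (S.ψ_comm (klein_even u5 (Or.inr (Or.inl rfl))).1).symm)
    (mem_centralizer_singleton_iff.2 hqU) hq3
  have he : k * q * k⁻¹ = (k * g⁻¹) * c.φ y8 * (k * g⁻¹)⁻¹ := by rw [hq]; group
  have hne : k * q * k⁻¹ ≠ 1 := by
    rw [he]
    intro h1
    rw [mul_inv_eq_one, mul_eq_left, ← map_one c.φ] at h1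
    exact (by decide +kernel : y8 ≠ 1) (c.inj h1)
  have := S.card_cent_of_mem_zpowers hk hne
  rw [he, centralizer_conj_card, c.card_cent_y] at this
  norm_num at this

theorem u_not_conj_w : ¬ IsConj (c.φ u8) (c.φ w8) := fun h =>
  c.not_conj_U (c.map_comm (by decide +kernel)) (c.conj_U.trans h)

/-- An involution of the image is fused to `w` if and only if it fixes no letter. -/
theorem fpf_iff {a : A8} (h2 : a * a = 1) (h1 : a ≠ 1) : Fpf a ↔ IsConj (c.φ w8) (c.φ a) := by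
  rcases involution_class a h2 h1 with ⟨hf, hc⟩ | ⟨hf, hc⟩
  · exact iff_of_true hf (MonoidHom.map_isConj c.φ hc)
  · exact iff_of_false hf fun h => c.u_not_conj_w ((MonoidHom.map_isConj c.φ hc).trans h.symm)

end Ctx

end Cfsg.Agent.H70.AltEight
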