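import Cfsg.Agent.H70.AltEight.Residue
import Cfsg.Agent.H99.AltCarmichael

/-!
The embedding of the alternating group of degree eight.
-/

set_option autoImplicit false
set_option maxRecDepth 4000
set_option synthInstance.maxSize 512

namespace Cfsg.Agent.H70.AltEight

open Equiv Equiv.Perm Subgroup

universe u

/-- The candidates for Carmichael generators, inside the symmetric group on five letters. -/
def Cand (a : Fin 5) (x : Perm (Fin 5)) : Prop :=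
  sign x = 1 ∧ x a = a ∧ cr * x * (cr * x) = 1 ∧ x ≠ cr⁻¹

instance (a : Fin 5) (x : Perm (Fin 5)) : Decidable (Cand a x) := by unfold Cand; infer_instance

theorem cand_facts : (∃ x, Cand 4 x) ∧
    (∀ x, Cand 4 x → x * x * x = 1 ∧ cr * x * cr⁻¹ ≠ x) ∧
    ∀ x, Cand 4 x → ∀ y, Cand 4 y → ∃ m : Fin 3, cr ^ (m : ℕ) * x * (cr ^ (m : ℕ))⁻¹ = y := by
  decide +kernel

theorem cand_compat : ∀ x, Cand 4 x →
    ∃ y, Cand 3 y ∧ x * y * (x * y) = 1 ∧ ∀ y', Cand 3 y' → x * y' * (x * y') = 1 → y' = y := by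
  decide +kernel

theorem others : ∀ i j k : Fin 5, i ≠ j → i ≠ k → j ≠ k →
    ∃ σ : Perm (Fin 5), sign σ = -1 ∧ σ * σ = 1 ∧ σ i = i ∧ σ j = j ∧ σ k = k := by decide +kernel

theorem even_move : ∀ i : Fin 5, ∃ σ : Perm (Fin 5), sign σ = 1 ∧ σ 4 = i := by decide +kernel

theorem third : ∀ i j : Fin 5, i ≠ j → ∃ k : Fin 5, i ≠ k ∧ j ≠ k := by decide

namespace Setup

variable {G : Type u} [Group G] [Finite G] (S : Setup G)

/-- `X₄` and `X₃` are point stabilisers for one parametrisation of the component of `C(r)`. -/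
theorem exists_coords : ∃ ρ : Perm (Fin 5) →* G, Function.Injective ρ ∧ ρ cr = S.z ∧
    (∀ x, x ∈ S.X 4 ↔ ∃ b, sign b = 1 ∧ b 4 = 4 ∧ x = ρ b) ∧
    (∀ x, x ∈ S.X 3 ↔ ∃ b, sign b = 1 ∧ b 3 = 3 ∧ x = ρ b) := by
  obtain ⟨a, ha, hX⟩ := S.X_four_cases.resolve_left S.X_four_ne
  obtain ⟨π, hπ4, hπc, hππ⟩ : ∃ π : Perm (Fin 5), π 4 = a ∧ π * cr * π⁻¹ = cr ∧ π * π = 1 := by
    rcases ha with rfl | rfl
    · exact ⟨swap 3 4, by decide, by decide +kernel, Equiv.swap_mul_self _ _⟩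
    · exact ⟨1, rfl, by simp, by simp⟩
  let ρ : Perm (Fin 5) →* G := S.tψ.comp (MulAut.conj π).toMonoidHom
  have hρ : ∀ b, ρ b = S.tψ (π * b * π⁻¹) := fun b => rfl
  have hρi : Function.Injective ρ := S.tψ_inj.comp (MulAut.conj π).injective
  have hρc : ρ cr = S.z := by rw [hρ, hπc, S.tψ_cr]
  have h4 : ∀ x, x ∈ S.X 4 ↔ ∃ b, sign b = 1 ∧ b 4 = 4 ∧ x = ρ b := by
    intro x
    rw [hX]
    have hπs : π⁻¹ = π := inv_eq_of_mul_eq_one_right hππ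
    constructor
    · rintro ⟨b, hb, hba, rfl⟩
      refine ⟨π⁻¹ * b * π, ?_, ?_, ?_⟩
      · rw [map_mul, map_mul, hb, mul_one, map_inv, inv_mul_cancel]
      · rw [Perm.mul_apply, Perm.mul_apply, hπ4, hba, Perm.inv_eq_iff_eq, hπ4]
      · rw [hρ]; congr 1; group
    · rintro ⟨b, hb, hb4, rfl⟩
      refine ⟨π * b * π⁻¹, ?_, ?_, hρ b⟩
      · rw [map_mul, map_mul, hb, mul_one, map_inv, mul_inv_cancel]
      · rw [← hπ4, Perm.mul_apply, Perm.mul_apply, show π⁻¹ (π 4) = 4 from π.symm_apply_apply 4, hb4]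
  refine ⟨ρ, hρi, hρc, h4, ?_⟩
  -- the transposition of the last two points
  set τ := S.ψ (swap 3 4) with hτ
  have hτr : τ * S.r = S.r * τ := by
    rw [hτ, Setup.r, ← map_mul, ← map_mul, show swap (3 : Fin 5) 4 * cr = cr * swap 3 4 by decide +kernel]
  obtain ⟨k, b₀, hb₀, e₀⟩ := S.comm_r_iff.1 hτr
  rw [← S.tψ_apply] at e₀
  set σ := π⁻¹ * b₀ * π with hσ
  have hact : ∀ c, sign c = 1 → τ * ρ c * τ⁻¹ = ρ (σ * c * σ⁻¹) := by
    intro c hc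
    have h1 : π * (σ * c * σ⁻¹) * π⁻¹ = b₀ * (π * c * π⁻¹) * b₀⁻¹ := by rw [hσ]; group
    rw [hρ, hρ, h1, map_mul S.tψ _ b₀⁻¹, map_mul S.tψ b₀, map_inv S.tψ b₀, e₀]
    set y := S.tψ b₀ * S.tψ (π * c * π⁻¹) * (S.tψ b₀)⁻¹ with hy
    have hcy : Commute y S.r := by
      rw [hy, ← map_inv, ← map_mul, ← map_mul]
      exact S.tψ_comm_r (by simp [hc])
    calc S.r ^ (k : ℕ) * S.tψ b₀ * S.tψ (π * c * π⁻¹) * (S.r ^ (k : ℕ) * S.tψ b₀)⁻¹
        = S.r ^ (k : ℕ) * y * (S.r ^ (k : ℕ))⁻¹ := by rw [hy]; group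
      _ = y := by rw [← (hcy.pow_right _).eq, mul_inv_cancel_right]
  have hσs : sign σ = 1 := by rw [hσ, map_mul, map_mul, hb₀, mul_one, map_inv, inv_mul_cancel]
  have hτz : τ * S.z * τ⁻¹ = S.z⁻¹ := S.ψ_inv (by decide)
  have hσc : σ * cr * σ⁻¹ = cr⁻¹ := hρi (by rw [← hact cr sign_cr, hρc, hτz, map_inv, hρc])
  obtain ⟨hσ3, hσ4⟩ := flip_stab σ hσs hσc
  have hτ2 : τ⁻¹ = τ := inv_eq_of_mul_eq_one_right (by rw [hτ, ← map_mul, Equiv.swap_mul_self, map_one])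
  intro x
  constructor
  · intro hx
    have h : τ * x * τ⁻¹ ∈ S.X 4 := by
      have := S.X_conj (swap 3 4) hx
      rwa [show swap (3 : Fin 5) 4 3 = 4 by decide] at this
    obtain ⟨b, hb, hb4, e⟩ := (h4 _).1 h
    refine ⟨σ * b * σ⁻¹, ?_, ?_, ?_⟩
    · rw [map_mul, map_mul, hb, mul_one, map_inv, mul_inv_cancel]
    · rw [Perm.mul_apply, Perm.mul_apply, show σ⁻¹ 3 = 4 by rw [Perm.inv_eq_iff_eq, hσ4], hb4, hσ4]
    · rw [← hact b hb, ← e]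
      calc x = τ * τ * x * (τ * τ)⁻¹ := by
            rw [show τ * τ = 1 by rw [hτ, ← map_mul, Equiv.swap_mul_self, map_one]]; group
        _ = _ := by group
  · rintro ⟨b, hb, hb3, rfl⟩
    have hb' : ρ (σ⁻¹ * b * σ) ∈ S.X 4 := (h4 _).2 ⟨_, by
      rw [map_mul, map_mul, hb, mul_one, map_inv, inv_mul_cancel],
      by rw [Perm.mul_apply, Perm.mul_apply, hσ4, hb3, Perm.inv_eq_iff_eq, hσ4], rfl⟩
    have := S.X_conj (swap 3 4) hb'
    rwa [show swap (3 : Fin 5) 4 4 = 3 by decide, ← hτ,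
      hact _ (by rw [map_mul, map_mul, hb, mul_one, map_inv, inv_mul_cancel]),
      show σ * (σ⁻¹ * b * σ) * σ⁻¹ = b by group] at this

/-- Carmichael candidates at the point `i`. -/
def C (i : Fin 5) : Set G := {x | x ∈ S.X i ∧ S.z * x * (S.z * x) = 1 ∧ x ≠ S.z⁻¹}

omit [Finite G] in
theorem C_conj (σ : Perm (Fin 5)) (hσ : sign σ = 1) {i : Fin 5} {x : G} (hx : x ∈ S.C i) :
    S.ψ σ * x * (S.ψ σ)⁻¹ ∈ S.C (σ i) := by
  obtain ⟨h1, h2, h3⟩ := hx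
  have hz : S.ψ σ * S.z * (S.ψ σ)⁻¹ = S.z := mul_inv_eq_iff_eq_mul.2 (S.ψ_comm hσ)
  refine ⟨S.X_conj σ h1, ?_, fun h => h3 ?_⟩
  · calc S.z * (S.ψ σ * x * (S.ψ σ)⁻¹) * (S.z * (S.ψ σ * x * (S.ψ σ)⁻¹))
        = (S.ψ σ * S.z * (S.ψ σ)⁻¹) * (S.ψ σ * x * (S.ψ σ)⁻¹) *
          ((S.ψ σ * S.z * (S.ψ σ)⁻¹) * (S.ψ σ * x * (S.ψ σ)⁻¹)) := by rw [hz]
      _ = S.ψ σ * (S.z * x * (S.z * x)) * (S.ψ σ)⁻¹ := by group
      _ = 1 := by rw [h2]; group
  · apply (MulAut.conj (S.ψ σ)).injective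
    rw [MulAut.conj_apply, MulAut.conj_apply, h, ← conj_inv, hz]

omit [Finite G] in
theorem C_flip (σ : Perm (Fin 5)) (hσ : sign σ = -1) {i : Fin 5} (hi : σ i = i) {x : G}
    (hx : x ∈ S.C i) : S.ψ σ * x⁻¹ * (S.ψ σ)⁻¹ ∈ S.C i := by
  obtain ⟨h1, h2, h3⟩ := hx
  have hz : S.ψ σ * S.z⁻¹ * (S.ψ σ)⁻¹ = S.z := by rw [← conj_inv, S.ψ_inv hσ, inv_inv]
  refine ⟨?_, ?_, fun h => h3 ?_⟩
  · have := S.X_conj σ (inv_mem h1)
    rwa [hi] at this
  · calc S.z * (S.ψ σ * x⁻¹ * (S.ψ σ)⁻¹) * (S.z * (S.ψ σ * x⁻¹ * (S.ψ σ)⁻¹))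
        = (S.ψ σ * S.z⁻¹ * (S.ψ σ)⁻¹) * (S.ψ σ * x⁻¹ * (S.ψ σ)⁻¹) *
          ((S.ψ σ * S.z⁻¹ * (S.ψ σ)⁻¹) * (S.ψ σ * x⁻¹ * (S.ψ σ)⁻¹)) := by rw [hz]
      _ = S.ψ σ * (x * (S.z * x * (S.z * x)) * x⁻¹)⁻¹ * (S.ψ σ)⁻¹ := by group
      _ = 1 := by rw [h2]; group
  · have h4 : x⁻¹ = S.z := by
      apply (MulAut.conj (S.ψ σ)).injective
      rw [MulAut.conj_apply, MulAut.conj_apply, h, S.ψ_inv hσ]
    rw [← h4, inv_inv]

theorem C_basic (i : Fin 5) : (∃ x, x ∈ S.C i) ∧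
    (∀ x ∈ S.C i, x ^ 3 = 1 ∧ S.z * x * S.z⁻¹ ≠ x) ∧
    ∀ x ∈ S.C i, ∀ y ∈ S.C i, ∃ m : ℕ, S.z ^ m * x * (S.z ^ m)⁻¹ = y := by
  obtain ⟨ρ, hρi, hρc, h4, -⟩ := S.exists_coords
  obtain ⟨σ, hσ, rfl⟩ := even_move i
  obtain ⟨⟨x₀, hx₀⟩, hbas, horb⟩ := cand_facts
  have hC4 : ∀ x, x ∈ S.C 4 ↔ ∃ b, Cand 4 b ∧ x = ρ b := by
    intro x
    constructor
    · rintro ⟨h1, h2, h3⟩
      obtain ⟨b, hb, hb4, rfl⟩ := (h4 x).1 h1
      refine ⟨b, ⟨hb, hb4, hρi ?_, fun h => h3 ?_⟩, rfl⟩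
      · rw [map_mul, map_mul, hρc, h2, map_one]
      · rw [h, map_inv, hρc]
    · rintro ⟨b, ⟨hb, hb4, h2, h3⟩, rfl⟩
      refine ⟨(h4 _).2 ⟨b, hb, hb4, rfl⟩, ?_, fun h => h3 (hρi ?_)⟩
      · rw [← hρc, ← map_mul, ← map_mul, h2, map_one]
      · rw [h, map_inv, hρc]
  have hzc : Commute (S.ψ σ) S.z := S.ψ_comm hσ
  have hback : ∀ x ∈ S.C (σ 4), (S.ψ σ)⁻¹ * x * S.ψ σ ∈ S.C 4 := fun x hx => by
    have := S.C_conj σ⁻¹ (by rw [map_inv, hσ, inv_one]) hx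
    rwa [show σ⁻¹ (σ 4) = 4 from σ.symm_apply_apply 4, map_inv, inv_inv] at this
  refine ⟨⟨_, S.C_conj σ hσ ((hC4 _).2 ⟨x₀, hx₀, rfl⟩)⟩, fun x hx => ?_, fun x hx y hy => ?_⟩
  · obtain ⟨b, hb, e⟩ := (hC4 _).1 (hback x hx)
    have ex : x = S.ψ σ * ρ b * (S.ψ σ)⁻¹ := by rw [← e]; group
    obtain ⟨h3, hne⟩ := hbas b hb
    refine ⟨?_, fun h => hne (hρi ?_)⟩
    · rw [ex, conj_pow, ← map_pow, pow_succ, pow_two, h3, map_one]; group
    · rw [map_mul, map_mul, map_inv, hρc, ← e]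
      calc S.z * ((S.ψ σ)⁻¹ * x * S.ψ σ) * S.z⁻¹
          = (S.z * (S.ψ σ)⁻¹) * x * (S.ψ σ * S.z⁻¹) := by group
        _ = ((S.ψ σ)⁻¹ * S.z) * x * (S.z⁻¹ * S.ψ σ) := by
          rw [hzc.inv_left.eq, (hzc.inv_right).eq]
        _ = (S.ψ σ)⁻¹ * (S.z * x * S.z⁻¹) * S.ψ σ := by group
        _ = _ := by rw [h]
  · obtain ⟨b, hb, e⟩ := (hC4 _).1 (hback x hx)
    obtain ⟨c, hc, e'⟩ := (hC4 _).1 (hback y hy)
    obtain ⟨m, hm⟩ := horb b hb c hc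
    refine ⟨m, ?_⟩
    have hzm : Commute (S.ψ σ) (S.z ^ (m : ℕ)) := hzc.pow_right _
    apply (MulAut.conj (S.ψ σ)⁻¹).injective
    rw [MulAut.conj_apply, MulAut.conj_apply, inv_inv, e', ← hm, map_mul, map_mul, map_inv, map_pow,
      hρc, ← e]
    calc (S.ψ σ)⁻¹ * (S.z ^ (m : ℕ) * x * (S.z ^ (m : ℕ))⁻¹) * S.ψ σ
        = ((S.ψ σ)⁻¹ * S.z ^ (m : ℕ)) * x * ((S.z ^ (m : ℕ))⁻¹ * S.ψ σ) := by group
      _ = (S.z ^ (m : ℕ) * (S.ψ σ)⁻¹) * x * (S.ψ σ * (S.z ^ (m : ℕ))⁻¹) := by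
        rw [hzm.inv_left.eq, hzm.inv_right.eq]
      _ = _ := by group

theorem C_compat {i j : Fin 5} (hij : i ≠ j) {x : G} (hx : x ∈ S.C i) :
    ∃ y ∈ S.C j, x * y * (x * y) = 1 ∧ ∀ y' ∈ S.C j, x * y' * (x * y') = 1 → y' = y := by
  obtain ⟨ρ, hρi, hρc, h4, h3⟩ := S.exists_coords
  obtain ⟨σ, hσ, hσ4, hσ3⟩ := two_transitive i j hij
  have hC : ∀ a : Fin 5, (∀ g, g ∈ S.X a ↔ ∃ b, sign b = 1 ∧ b a = a ∧ g = ρ b) →
      ∀ g, g ∈ S.C a ↔ ∃ b, Cand a b ∧ g = ρ b := by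
    intro a ha g
    constructor
    · rintro ⟨h1, h2, h5⟩
      obtain ⟨b, hb, hba, rfl⟩ := (ha g).1 h1
      refine ⟨b, ⟨hb, hba, hρi ?_, fun h => h5 ?_⟩, rfl⟩
      · rw [map_mul, map_mul, hρc, h2, map_one]
      · rw [h, map_inv, hρc]
    · rintro ⟨b, ⟨hb, hba, h2, h5⟩, rfl⟩
      refine ⟨(ha _).2 ⟨b, hb, hba, rfl⟩, ?_, fun h => h5 (hρi ?_)⟩
      · rw [← hρc, ← map_mul, ← map_mul, h2, map_one]
      · rw [h, map_inv, hρc]
  have hback : ∀ (a : Fin 5) (g : G), g ∈ S.C (σ a) → (S.ψ σ)⁻¹ * g * S.ψ σ ∈ S.C a := fun a g hg => by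
    have := S.C_conj σ⁻¹ (by rw [map_inv, hσ, inv_one]) hg
    rwa [show σ⁻¹ (σ a) = a from σ.symm_apply_apply a, map_inv, inv_inv] at this
  obtain ⟨b, hb, e⟩ := (hC 4 h4 _).1 (hback 4 x (hσ4.symm ▸ hx))
  obtain ⟨c, hc, hbc, huniq⟩ := cand_compat b hb
  refine ⟨S.ψ σ * ρ c * (S.ψ σ)⁻¹, hσ3 ▸ S.C_conj σ hσ ((hC 3 h3 _).2 ⟨c, hc, rfl⟩), ?_, ?_⟩
  · have ex : x = S.ψ σ * ρ b * (S.ψ σ)⁻¹ := by rw [← e]; group
    rw [ex, show S.ψ σ * ρ b * (S.ψ σ)⁻¹ * (S.ψ σ * ρ c * (S.ψ σ)⁻¹) *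
      (S.ψ σ * ρ b * (S.ψ σ)⁻¹ * (S.ψ σ * ρ c * (S.ψ σ)⁻¹)) =
      S.ψ σ * (ρ b * ρ c * (ρ b * ρ c)) * (S.ψ σ)⁻¹ by group, ← map_mul, ← map_mul, hbc, map_one]
    group
  · intro y hy hxy
    obtain ⟨c', hc', e'⟩ := (hC 3 h3 _).1 (hback 3 y (hσ3.symm ▸ hy))
    have : c' = c := huniq c' hc' (hρi (by
      rw [map_mul, map_mul, map_one, ← e, ← e',
        show (S.ψ σ)⁻¹ * x * S.ψ σ * ((S.ψ σ)⁻¹ * y * S.ψ σ) *
          ((S.ψ σ)⁻¹ * x * S.ψ σ * ((S.ψ σ)⁻¹ * y * S.ψ σ)) =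
          (S.ψ σ)⁻¹ * (x * y * (x * y)) * S.ψ σ by group, hxy]
      group))
    rw [← this, ← e']
    group

omit [Finite G] in
theorem zpow_free {x : G} {n : ℕ} (h : S.z * x * S.z⁻¹ ≠ x)
    (hc : S.z ^ n * x * (S.z ^ n)⁻¹ = x) : S.z ^ n = 1 := by
  rw [pow_eq_pow_mod n S.z_pow_three] at hc ⊢
  rcases (show n % 3 = 0 ∨ n % 3 = 1 ∨ n % 3 = 2 by omega) with e | e | e <;> rw [e] at hc ⊢
  · exact pow_zero _
  · rw [pow_one] at hc; exact absurd hc h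
  · exfalso
    apply h
    rw [← S.inv_z, inv_inv] at hc
    conv_lhs => rw [← hc]
    group

/-- Compatibility is transitive along a triangle. -/
theorem triangle {i j k : Fin 5} (hij : i ≠ j) (hik : i ≠ k) (hjk : j ≠ k) {x y w : G}
    (hx : x ∈ S.C i) (hy : y ∈ S.C j) (hw : w ∈ S.C k) (hxy : x * y * (x * y) = 1)
    (hxw : x * w * (x * w) = 1) : y * w * (y * w) = 1 := by
  obtain ⟨σ, hσ, hσσ, hi, hj, hk⟩ := others i j k hij hik hjk
  set g := S.ψ σ with hg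
  have hgg : g * g = 1 := by rw [hg, ← map_mul, hσσ, map_one]
  have hgi : g⁻¹ = g := inv_eq_of_mul_eq_one_right hgg
  have hgz : ∀ n : ℕ, g * S.z ^ n * g⁻¹ = (S.z ^ n)⁻¹ := fun n => by
    rw [← conj_pow, hg, S.ψ_inv hσ, inv_pow]
  let θ : G → G := fun a => g * a⁻¹ * g⁻¹
  have hθθ : ∀ a, θ (θ a) = a := fun a => by
    show g * (g * a⁻¹ * g⁻¹)⁻¹ * g⁻¹ = a
    rw [show g * (g * a⁻¹ * g⁻¹)⁻¹ * g⁻¹ = (g * g) * a * (g * g)⁻¹ by group, hgg]
    group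
  have hθconj : ∀ (n : ℕ) a, θ (S.z ^ n * a * (S.z ^ n)⁻¹) = (S.z ^ n)⁻¹ * θ a * S.z ^ n := fun n a => by
    show g * (S.z ^ n * a * (S.z ^ n)⁻¹)⁻¹ * g⁻¹ = _
    calc g * (S.z ^ n * a * (S.z ^ n)⁻¹)⁻¹ * g⁻¹
        = (g * S.z ^ n * g⁻¹) * (g * a⁻¹ * g⁻¹) * (g * S.z ^ n * g⁻¹)⁻¹ := by group
      _ = _ := by rw [hgz, inv_inv]
  have hθcompat : ∀ a b : G, a * b * (a * b) = 1 → θ a * θ b * (θ a * θ b) = 1 := fun a b h => by
    show g * a⁻¹ * g⁻¹ * (g * b⁻¹ * g⁻¹) * (g * a⁻¹ * g⁻¹ * (g * b⁻¹ * g⁻¹)) = 1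
    rw [show g * a⁻¹ * g⁻¹ * (g * b⁻¹ * g⁻¹) * (g * a⁻¹ * g⁻¹ * (g * b⁻¹ * g⁻¹)) =
      g * (b * (a * b * (a * b)) * b⁻¹)⁻¹ * g⁻¹ by group, h]
    group
  have huniq : ∀ l, ∀ a ∈ S.C l, ∀ b ∈ S.C l, θ a = a → θ b = b → a = b := by
    intro l a ha b hb hfa hfb
    obtain ⟨m, hm⟩ := (S.C_basic l).2.2 a ha b hb
    have h2 : (S.z ^ (2 * m)) * a * (S.z ^ (2 * m))⁻¹ = a := by
      have e : (S.z ^ m)⁻¹ * a * S.z ^ m = S.z ^ m * a * (S.z ^ m)⁻¹ := by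
        have := hfb
        rw [← hm, hθconj, hfa] at this
        exact this
      rw [two_mul, pow_add]
      calc S.z ^ m * S.z ^ m * a * (S.z ^ m * S.z ^ m)⁻¹
          = S.z ^ m * (S.z ^ m * a * (S.z ^ m)⁻¹) * (S.z ^ m)⁻¹ := by group
        _ = _ := by rw [← e]; group
    have h3 := S.zpow_free ((S.C_basic l).2.1 a ha).2 h2
    have hm1 : S.z ^ m = 1 := by
      rw [show m = 2 * (2 * m) - 3 * m by omega]
      have : S.z ^ (2 * (2 * m)) = 1 := by rw [mul_comm, pow_mul, h3, one_pow]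
      rw [pow_sub _ (by omega), this, pow_mul, S.z_pow_three]; simp
    rw [← hm, hm1]; group
  -- a fixed point in the first set
  obtain ⟨m, hm⟩ := (S.C_basic i).2.2 x hx (θ x) (S.C_flip σ hσ hi hx)
  set n := 2 * m with hn
  set c : G → G := fun a => S.z ^ n * a * (S.z ^ n)⁻¹ with hc
  have hfix : θ (c x) = c x := by
    show θ (S.z ^ n * x * (S.z ^ n)⁻¹) = _
    rw [hθconj, ← hm]
    show _ = S.z ^ n * x * (S.z ^ n)⁻¹
    have e : S.z ^ n = (S.z ^ n)⁻¹ * S.z ^ m := by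
      rw [eq_inv_mul_iff_mul_eq, ← pow_add, show n + n = m + 3 * m by omega, pow_add, pow_mul,
        S.z_pow_three, one_pow, mul_one]
    conv_rhs => rw [e]
    group
  have hcC : ∀ l, ∀ a ∈ S.C l, c a ∈ S.C l := by
    intro l a ha
    obtain ⟨h1, h2, h3⟩ := ha
    have hzn : Commute (S.z ^ n) S.z := (Commute.refl S.z).pow_left n
    refine ⟨mul_mem (mul_mem (pow_mem (S.z_mem_X l) n) h1) (inv_mem (pow_mem (S.z_mem_X l) n)), ?_,
      fun h => h3 ?_⟩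
    · calc S.z * (S.z ^ n * a * (S.z ^ n)⁻¹) * (S.z * (S.z ^ n * a * (S.z ^ n)⁻¹))
          = (S.z * S.z ^ n) * a * ((S.z ^ n)⁻¹ * (S.z * S.z ^ n)) * a * (S.z ^ n)⁻¹ := by group
        _ = (S.z ^ n * S.z) * a * ((S.z ^ n)⁻¹ * (S.z ^ n * S.z)) * a * (S.z ^ n)⁻¹ := by rw [hzn.eq]
        _ = S.z ^ n * (S.z * a * (S.z * a)) * (S.z ^ n)⁻¹ := by group
        _ = 1 := by rw [h2]; group
    · apply (MulAut.conj (S.z ^ n)).injective
      rw [MulAut.conj_apply, MulAut.conj_apply, show S.z ^ n * a * (S.z ^ n)⁻¹ = S.z⁻¹ from h,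
        hzn.inv_right.eq]
      group
  have hccompat : ∀ a b : G, a * b * (a * b) = 1 → c a * c b * (c a * c b) = 1 := fun a b h => by
    show S.z ^ n * a * (S.z ^ n)⁻¹ * (S.z ^ n * b * (S.z ^ n)⁻¹) *
      (S.z ^ n * a * (S.z ^ n)⁻¹ * (S.z ^ n * b * (S.z ^ n)⁻¹)) = 1
    rw [show S.z ^ n * a * (S.z ^ n)⁻¹ * (S.z ^ n * b * (S.z ^ n)⁻¹) *
      (S.z ^ n * a * (S.z ^ n)⁻¹ * (S.z ^ n * b * (S.z ^ n)⁻¹)) =
      S.z ^ n * (a * b * (a * b)) * (S.z ^ n)⁻¹ by group, h]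
    group
  have hpass : ∀ {p q : Fin 5} {a b : G}, p ≠ q → σ q = q → a ∈ S.C p → b ∈ S.C q →
      a * b * (a * b) = 1 → θ a = a → θ b = b := by
    intro p q a b hpq hq ha hb hab hfa
    obtain ⟨b₀, -, -, hu⟩ := S.C_compat hpq ha
    have h2 := hθcompat a b hab
    rw [hfa] at h2
    have e : θ b = b₀ := hu _ (S.C_flip σ hσ hq hb) h2
    rw [e, hu b hb hab]
  have hfy := hpass hij hj (hcC i x hx) (hcC j y hy) (hccompat x y hxy) hfix
  have hfw := hpass hik hk (hcC i x hx) (hcC k w hw) (hccompat x w hxw) hfix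
  obtain ⟨w', hw', hyw', -⟩ := S.C_compat hjk (hcC j y hy)
  have hfw' := hpass hjk hk (hcC j y hy) hw' hyw' hfy
  rw [huniq k w' hw' (c w) (hcC k w hw) hfw' hfw] at hyw'
  have e : c y * c w * (c y * c w) = S.z ^ n * (y * w * (y * w)) * (S.z ^ n)⁻¹ := by
    simp only [c]; group
  rw [e, mul_inv_eq_one, mul_eq_left] at hyw'
  exact hyw'

/-- Carmichael generators. -/
theorem exists_generators : ∃ f : Fin 6 → G, f 0 = S.z ∧ (∀ i, f i ^ 3 = 1) ∧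
    ∀ i j, i ≠ j → (f i * f j) ^ 2 = 1 := by
  classical
  obtain ⟨x₀, hx₀⟩ := (S.C_basic 0).1
  have hex : ∀ j : Fin 5, j ≠ 0 → ∃ y ∈ S.C j, x₀ * y * (x₀ * y) = 1 := fun j hj => by
    obtain ⟨y, h1, h2, -⟩ := S.C_compat hj.symm hx₀
    exact ⟨y, h1, h2⟩
  choose Y hY hYc using hex
  let x : Fin 5 → G := fun j => if h : j = 0 then x₀ else Y j h
  have hx : ∀ j, x j ∈ S.C j := fun j => by
    by_cases h : j = 0
    · simp only [x, dif_pos h]; rw [h]; exact hx₀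
    · simp only [x, dif_neg h]; exact hY j h
  have hswap : ∀ a b : G, a * b * (a * b) = 1 → b * a * (b * a) = 1 := fun a b h => by
    rw [show b * a * (b * a) = a⁻¹ * (a * b * (a * b)) * a by group, h]; group
  have h0 : ∀ j, j ≠ 0 → x 0 * x j * (x 0 * x j) = 1 := fun j hj => by
    simp only [x, dif_neg hj, dif_pos]; exact hYc j hj
  have hpair : ∀ i j, i ≠ j → x i * x j * (x i * x j) = 1 := by
    intro i j hij
    by_cases hi : i = 0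
    · subst hi; exact h0 j hij.symm
    by_cases hj : j = 0
    · subst hj; exact hswap _ _ (h0 i hi)
    exact S.triangle (Ne.symm hi) (Ne.symm hj) hij (hx 0) (hx i) (hx j) (h0 i hi) (h0 j hj)
  refine ⟨Fin.cons S.z x, rfl, fun i => ?_, fun i j hij => ?_⟩
  · induction i using Fin.cases with
    | zero => exact S.z_pow_three
    | succ i => rw [Fin.cons_succ]; exact ((S.C_basic i).2.1 _ (hx i)).1
  · rw [pow_two]
    induction i using Fin.cases with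
    | zero =>
      induction j using Fin.cases with
      | zero => exact absurd rfl hij
      | succ j => rw [Fin.cons_zero, Fin.cons_succ]; exact (hx j).2.1
    | succ i =>
      induction j using Fin.cases with
      | zero => rw [Fin.cons_zero, Fin.cons_succ]; exact hswap _ _ (hx i).2.1
      | succ j =>
        rw [Fin.cons_succ, Fin.cons_succ]
        exact hpair i j fun h => hij (congrArg Fin.succ h)

end Setup

/-- The Carmichael generators in the alternating group of degree eight. -/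
def gen8 (i : Fin 6) : alternatingGroup (Fin 8) :=
  ⟨swap 0 1 * swap 1 ⟨(i : ℕ) + 2, by omega⟩, by
    rw [Equiv.Perm.mem_alternatingGroup, map_mul, sign_swap (by decide),
      sign_swap (Fin.ne_of_val_ne (by simp)), Int.units_mul_self]⟩

theorem gen8_facts : (∀ i, gen8 i ^ 3 = 1) ∧ ∀ i j, i ≠ j → (gen8 i * gen8 j) ^ 2 = 1 := by
  decide +kernel

theorem gen8_top : Subgroup.closure (Set.range gen8) = ⊤ := by
  have hmap : (alternatingGroup (Fin 2 ⊕ Fin 6)).map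
      ((finSumFinEquiv (m := 2) (n := 6)).permCongrHom).toMonoidHom = alternatingGroup (Fin 8) := by
    ext x
    constructor
    · rintro ⟨y, hy, rfl⟩
      rw [Equiv.Perm.mem_alternatingGroup]
      exact (Equiv.Perm.sign_permCongr _ y).trans (Equiv.Perm.mem_alternatingGroup.1 hy)
    · intro hx
      refine ⟨(finSumFinEquiv (m := 2) (n := 6)).symm.permCongr x, ?_, ?_⟩
      · rw [SetLike.mem_coe, Equiv.Perm.mem_alternatingGroup, Equiv.Perm.sign_permCongr]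
        exact Equiv.Perm.mem_alternatingGroup.1 hx
      · exact Equiv.ext fun p => by simp
  have h := congrArg (Subgroup.map ((alternatingGroup (Fin 2 ⊕ Fin 6)).subtype))
    (H99.BoundedPres.zA_gen (I := Fin 6))
  rw [MonoidHom.map_closure, ← MonoidHom.range_eq_map, Subgroup.range_subtype] at h
  have h2 := congrArg (Subgroup.map ((finSumFinEquiv (m := 2) (n := 6)).permCongrHom).toMonoidHom) h
  rw [MonoidHom.map_closure, hmap] at h2
  apply Subgroup.map_injective (alternatingGroup (Fin 8)).subtype_injective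
  rw [MonoidHom.map_closure, ← MonoidHom.range_eq_map, Subgroup.range_subtype]
  refine Eq.trans ?_ h2
  congr 1
  rw [← Set.range_comp, ← Set.range_comp, ← Set.range_comp]
  congr 1
  funext i
  fin_cases i <;> decide +kernel

/-- The embedding. -/
theorem Setup.exists_embedding {G : Type u} [Group G] [Finite G] (S : Setup G) :
    ∃ φ : alternatingGroup (Fin 8) →* G, Function.Injective φ ∧ φ (gen8 0) = S.z := by
  obtain ⟨f, hf0, hf3, hf2⟩ := S.exists_generators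
  let rels : Set (FreeGroup (Fin 6)) := {g | ∃ i, g = FreeGroup.of i ^ 3} ∪
    {g | ∃ i j, i ≠ j ∧ g = (FreeGroup.of i * FreeGroup.of j) ^ 2}
  have hA : ∀ r ∈ rels, FreeGroup.lift gen8 r = 1 := by
    rintro r (⟨i, rfl⟩ | ⟨i, j, hij, rfl⟩)
    · simpa using gen8_facts.1 i
    · simpa using gen8_facts.2 i j hij
  have hG : ∀ r ∈ rels, FreeGroup.lift f r = 1 := by
    rintro r (⟨i, rfl⟩ | ⟨i, j, hij, rfl⟩)
    · simpa using hf3 i
    · simpa using hf2 i j hij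
  obtain ⟨hfin, hcard⟩ := H99.BoundedPres.card_le_carmichael' (P := PresentedGroup rels)
    (fun i : Fin 6 => PresentedGroup.of i)
    (fun i => by
      show PresentedGroup.mk rels (FreeGroup.of i) ^ 3 = 1
      rw [← map_pow]; exact PresentedGroup.one_of_mem (Or.inl ⟨i, rfl⟩))
    (fun i j hij => by
      show (PresentedGroup.mk rels (FreeGroup.of i) * PresentedGroup.mk rels (FreeGroup.of j)) ^ 2 = 1
      rw [← map_mul, ← map_pow]; exact PresentedGroup.one_of_mem (Or.inr ⟨i, j, hij, rfl⟩))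
    (PresentedGroup.closure_range_of rels)
  let π := PresentedGroup.toGroup hA
  have hsurj : Function.Surjective π := by
    rw [← MonoidHom.range_eq_top, ← top_le_iff, ← gen8_top, Subgroup.closure_le]
    rintro _ ⟨i, rfl⟩
    exact ⟨PresentedGroup.of i, PresentedGroup.toGroup.of hA⟩
  have hπ : Function.Bijective π := by
    refine (Nat.bijective_iff_surjective_and_card π).2 ⟨hsurj, le_antisymm ?_
      (Nat.card_le_card_of_surjective π hsurj)⟩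
    have h8 : 2 * Nat.card (alternatingGroup (Fin 8)) = Nat.factorial 8 := by
      rw [two_mul_nat_card_alternatingGroup, Nat.card_perm, Nat.card_fin]
    rw [Fintype.card_fin] at hcard
    rw [show (6 + 2) = 8 from rfl] at hcard
    omega
  let e := MulEquiv.ofBijective π hπ
  let φ : alternatingGroup (Fin 8) →* G := (PresentedGroup.toGroup hG).comp e.symm.toMonoidHom
  have h0 : φ (gen8 0) = S.z := by
    have he : e.symm (gen8 0) = PresentedGroup.of 0 := by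
      rw [MulEquiv.symm_apply_eq]
      exact (PresentedGroup.toGroup.of hA).symm
    show PresentedGroup.toGroup hG (e.symm (gen8 0)) = S.z
    rw [he, PresentedGroup.toGroup.of, hf0]
  refine ⟨φ, ?_, h0⟩
  rw [← MonoidHom.ker_eq_bot_iff]
  have : IsSimpleGroup (alternatingGroup (Fin 8)) := alternatingGroup.isSimpleGroup (by simp)
  refine (Subgroup.Normal.eq_bot_or_eq_top inferInstance).resolve_right fun h => ?_
  have : gen8 0 ∈ φ.ker := h ▸ mem_top _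
  rw [MonoidHom.mem_ker, h0] at this
  exact S.z_ne this

end Cfsg.Agent.H70.AltEight
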