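import Cfsg.Agent.H70.AltEight.Setup

/-!
Finite facts about the symmetric group on five letters.
-/

set_option autoImplicit false
set_option maxRecDepth 4000
set_option synthInstance.maxSize 512

namespace Cfsg.Agent.H70.AltEight

open Equiv Equiv.Perm

/-- `(0 1)(2 3)`. -/
def u5 : Perm (Fin 5) := swap 0 1 * swap 2 3

/-- `(0 2)(1 3)`. -/
def v5 : Perm (Fin 5) := swap 0 2 * swap 1 3

/-- `(0 2 1 3)`, whose square is `(0 1)(2 3)`. -/
def f5 : Perm (Fin 5) := swap 0 3 * swap 0 1 * swap 0 2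

/-- Membership in the Klein group of the first four letters. -/
def InKlein (b : Perm (Fin 5)) : Prop := b = 1 ∨ b = u5 ∨ b = v5 ∨ b = u5 * v5

instance (b : Perm (Fin 5)) : Decidable (InKlein b) := by unfold InKlein; infer_instance

theorem klein_cent : ∀ b : Perm (Fin 5), b * u5 = u5 * b → b * v5 = v5 * b → InKlein b := by
  decide +kernel

theorem klein_even : ∀ b : Perm (Fin 5), InKlein b → sign b = 1 ∧ b * b = 1 := by decide +kernel

theorem klein_cent_cr : ∀ b : Perm (Fin 5), InKlein b → b * cr = cr * b → b = 1 := by decide +kernel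

theorem stab_four_decomp : ∀ b : Perm (Fin 5), sign b = 1 → b 4 = 4 →
    ∃ (j : Fin 3) (v : Perm (Fin 5)), InKlein v ∧ b = v * cr ^ (j : ℕ) := by decide +kernel

theorem cent_stab_four : ∀ b : Perm (Fin 5), b * u5 = u5 * b → b * v5 = v5 * b → b * cr = cr * b →
    b = 1 := by decide +kernel

theorem klein_gen_stab : sign u5 = 1 ∧ u5 4 = 4 ∧ sign v5 = 1 ∧ v5 4 = 4 ∧ sign cr = 1 ∧ cr 4 = 4 := by
  decide +kernel

/-- A word in `cr` and `b`. -/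
def word (b : Perm (Fin 5)) : Fin 4 → Perm (Fin 5)
  | 0 => b * b * cr * b * b * b * cr⁻¹ * b * b
  | 1 => b * cr * b * b * b * b * cr⁻¹ * b
  | 2 => b * cr * b * b * cr⁻¹ * b
  | 3 => b * cr * b * cr⁻¹ * b * cr * b * cr⁻¹ * b

theorem word_mem {S : Subgroup (Perm (Fin 5))} (hc : cr ∈ S) {b : Perm (Fin 5)} (hb : b ∈ S)
    (i : Fin 4) : word b i ∈ S := by
  fin_cases i <;> simp only [word] <;> repeat' first | exact hb | exact hc | exact inv_mem hc | apply mul_mem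

theorem exists_inverter : ∀ b : Perm (Fin 5), sign b = 1 → b 3 ≠ 3 → b 4 ≠ 4 →
    ∃ i : Fin 4, word b i * cr * (word b i)⁻¹ = cr⁻¹ := by decide +kernel

theorem stab_gen : ∀ a : Fin 5, a = 3 ∨ a = 4 → ∀ b : Perm (Fin 5), sign b = 1 → b a = a →
    b ≠ 1 → b ≠ cr → b ≠ cr⁻¹ → ∀ g : Perm (Fin 5), sign g = 1 → g a = a →
    ∃ i k j l : Fin 3, g = cr ^ (i : ℕ) * b ^ (k : ℕ) * cr ^ (j : ℕ) * b ^ (l : ℕ) := by decide +kernel

theorem cr_cases : ∀ b : Perm (Fin 5), sign b = 1 → b 3 = 3 → b 4 = 4 →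
    b = 1 ∨ b = cr ∨ b = cr⁻¹ := by decide +kernel

theorem stab_pair : ∀ b b' : Perm (Fin 5), b 3 = 3 → b 4 ≠ 4 → b' 4 = 4 → b' 3 ≠ 3 →
    (b * b') 3 ≠ 3 ∧ (b * b') 4 ≠ 4 := by
  intro b b' h1 h2 h3 h4
  refine ⟨fun h => h4 (b.injective ?_), fun h => h2 ?_⟩
  · rw [h1]; exact h
  · rwa [Perm.mul_apply, h3] at h

theorem stab_sq : ∀ (a : Fin 5), a = 3 ∨ a = 4 → ∀ b : Perm (Fin 5), sign b = 1 → b a = a →
    ∃ j : Fin 3, b * cr ^ (j : ℕ) * (b * cr ^ (j : ℕ)) = 1 := by decide +kernel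

theorem flip_stab : ∀ σ : Perm (Fin 5), sign σ = 1 → σ * cr * σ⁻¹ = cr⁻¹ →
    σ 3 = 4 ∧ σ 4 = 3 := by decide +kernel

theorem flip_conj : ∀ σ : Perm (Fin 5), sign σ = 1 → σ 4 = 4 → σ 3 = 3 → σ * cr * σ⁻¹ = cr := by
  decide +kernel

theorem two_transitive : ∀ i j : Fin 5, i ≠ j → ∃ σ : Perm (Fin 5), sign σ = 1 ∧ σ 4 = i ∧ σ 3 = j := by
  decide +kernel

theorem klein_pairs : ∀ a b : Perm (Fin 5), sign a = 1 → a * a = 1 → a ≠ 1 → sign b = 1 → b * b = 1 →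
    b ≠ 1 → a ≠ b → a * b = b * a →
    ∃ σ : Perm (Fin 5), σ * u5 * σ⁻¹ = a ∧ σ * v5 * σ⁻¹ = b := by decide +kernel

end Cfsg.Agent.H70.AltEight
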