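import Cfsg.Agent.H70.AltEight.Centre
import Cfsg.Agent.H25.InvolutionTransfer

/-!
The centraliser of a point stabiliser is not `⟨z⟩`.
-/

set_option autoImplicit false
set_option maxRecDepth 4000
set_option synthInstance.maxSize 512

namespace Cfsg.Agent.H70.AltEight

open Equiv Equiv.Perm Subgroup

universe u

theorem even_involution_conj : ∀ b : Perm (Fin 5), sign b = 1 → b * b = 1 → b ≠ 1 →
    ∃ σ : Perm (Fin 5), σ * u5 * σ⁻¹ = b := by decide +kernel

theorem transposition_conj : ∀ x y : Fin 5, x ≠ y →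
    ∃ σ : Perm (Fin 5), σ * swap 3 4 * σ⁻¹ = swap x y := by decide +kernel

theorem cent_u5_even : ∀ b : Perm (Fin 5), sign b = 1 → b * u5 = u5 * b → InKlein b := by decide +kernel

theorem klein_cent_f5 : ∀ b : Perm (Fin 5), InKlein b → b * f5 = f5 * b → b = 1 ∨ b = u5 := by
  decide +kernel

/-- The normaliser of the four-cycle `f5`. -/
def Eight (b : Perm (Fin 5)) : Prop := b * f5 * b⁻¹ = f5 ∨ b * f5 * b⁻¹ = f5⁻¹

instance (b : Perm (Fin 5)) : Decidable (Eight b) := by unfold Eight; infer_instance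

theorem eight_facts : ∀ b : Perm (Fin 5), Eight b → b ^ 8 = 1 ∧ Eight b⁻¹ ∧
    (b * b = 1 → b = 1 ∨ (∃ x y : Fin 5, x ≠ y ∧ b = swap x y) ∨ sign b = 1) := by decide +kernel

theorem eight_mul : ∀ a : Perm (Fin 5), Eight a → ∀ b : Perm (Fin 5), Eight b → Eight (a * b) := by
  decide +kernel

/-- The subgroup of order eight. -/
def eightGroup : Subgroup (Perm (Fin 5)) where
  carrier := {b | Eight b}
  one_mem' := Or.inl (by group)
  mul_mem' ha hb := eight_mul _ ha _ hb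
  inv_mem' ha := (eight_facts _ ha).2.1

theorem eight_gen : Eight f5 ∧ Eight v5 ∧ f5 * f5 = u5 ∧ v5 * f5 * v5 = f5⁻¹ := by decide +kernel

theorem eight_forms : ∀ b : Perm (Fin 5), Eight b →
    ∃ (i : Fin 4) (e : Fin 2), b = v5 ^ (e : ℕ) * f5 ^ (i : ℕ) := by decide +kernel

section Dihedral

variable {P : Type u} [Group P] [Finite P]

/-- The elements `α ^ i`, `v α ^ i` of a dihedral-like pair. -/
def pairGroup (v α : P) (s : ℤ) (hv : v * v = 1) (hs : v * α * v = α ^ s) : Subgroup P where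
  carrier := {p | ∃ i : ℤ, p = α ^ i ∨ p = v * α ^ i}
  one_mem' := ⟨0, Or.inl (by simp)⟩
  mul_mem' {x y} hx hy := by
    have hvi : ∀ i : ℤ, α ^ i * v = v * α ^ (s * i) := fun i => by
      have hvinv : v⁻¹ = v := inv_eq_of_mul_eq_one_right hv
      rw [zpow_mul, ← hs]
      have e : v * α * v = v * α * v⁻¹ := by rw [hvinv]
      rw [e, conj_zpow, hvinv, ← mul_assoc, ← mul_assoc, hv, one_mul]
    obtain ⟨i, rfl | rfl⟩ := hx <;> obtain ⟨j, rfl | rfl⟩ := hy
    · exact ⟨i + j, Or.inl (zpow_add _ _ _).symm⟩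
    · exact ⟨s * i + j, Or.inr (by rw [← mul_assoc, hvi, zpow_add, mul_assoc])⟩
    · exact ⟨i + j, Or.inr (by rw [mul_assoc, ← zpow_add])⟩
    · refine ⟨s * i + j, Or.inl ?_⟩
      rw [mul_assoc v, ← mul_assoc (α ^ i), hvi, ← mul_assoc, ← mul_assoc, hv, one_mul, zpow_add]
  inv_mem' {x} hx := by
    obtain ⟨i, rfl | rfl⟩ := hx
    · exact ⟨-i, Or.inl (zpow_neg _ _).symm⟩
    · refine ⟨s * -i, Or.inr ?_⟩
      rw [mul_inv_rev, inv_eq_of_mul_eq_one_right hv, ← zpow_neg, zpow_mul, ← hs]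
      have e : v * α * v = v * α * v⁻¹ := by rw [inv_eq_of_mul_eq_one_right hv]
      rw [e, conj_zpow, inv_eq_of_mul_eq_one_right hv, ← mul_assoc, ← mul_assoc, hv, one_mul]

omit [Finite P] in
theorem mem_pairGroup {v α : P} {s : ℤ} {hv : v * v = 1} {hs : v * α * v = α ^ s} {p : P} :
    p ∈ pairGroup v α s hv hs ↔ ∃ i : ℤ, p = α ^ i ∨ p = v * α ^ i := Iff.rfl

omit [Finite P] in
theorem zpow_conj_v {v α : P} {s : ℤ} (hv : v * v = 1) (hs : v * α * v = α ^ s) (i : ℤ) :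
    α ^ i * v = v * α ^ (s * i) := by
  have hvinv : v⁻¹ = v := inv_eq_of_mul_eq_one_right hv
  rw [zpow_mul, ← hs]
  have e : v * α * v = v * α * v⁻¹ := by rw [hvinv]
  rw [e, conj_zpow, hvinv, ← mul_assoc, ← mul_assoc, hv, one_mul]

theorem exists_step_up {H : Subgroup P} (hP : IsPGroup 2 P) (hH : H ≠ ⊤) :
    ∃ g, g ∉ H ∧ g ∈ normalizer (H : Set P) := by
  have : Fact (Nat.Prime 2) := ⟨Nat.prime_two⟩
  have hnil := hP.isNilpotent
  have hlt := Group.normalizerCondition_of_isNilpotent H (lt_top_iff_ne_top.2 hH)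
  obtain ⟨g, hg, hgH⟩ := SetLike.exists_of_lt hlt
  exact ⟨g, hgH, hg⟩

/-- A two-group with a self-centralising four-group `{1, u, v, uv}`, `u` central, and an element of
order four inverted by `v`: dihedral, or every involution is conjugate to `u` or `v`. -/
theorem dihedral_or_fused (hP : IsPGroup 2 P) (u v : P) (hu : ∀ p : P, p * u = u * p)
    (hv : v * v = 1) (hvu : v ≠ u)
    (hCV : ∀ p : P, p * v = v * p → p = 1 ∨ p = u ∨ p = v ∨ p = v * u)
    (a : P) (ha : orderOf a = 4) (hau : a ^ 2 = u) (hinv : v * a * v = a⁻¹) :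
    (∀ p : P, p * p = 1 → p = 1 ∨ p = u ∨ IsConj v p) ∨
    ∃ (α : P) (k : ℕ), 2 ≤ k ∧ orderOf α = 2 ^ k ∧ v * α * v = α⁻¹ ∧ α ^ (2 ^ (k - 1)) = u ∧
      ∀ p : P, ∃ i : ℤ, p = α ^ i ∨ p = v * α ^ i := by
  classical
  have : Fact (Nat.Prime 2) := ⟨Nat.prime_two⟩
  have hu2 : u * u = 1 := by
    have := pow_orderOf_eq_one a
    rw [ha] at this
    rw [← hau, ← pow_add, this]
  have hu1 : u ≠ 1 := by
    rintro rfl
    have := orderOf_dvd_of_pow_eq_one hau
    rw [ha] at this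
    norm_num at this
  have hv1 : v ≠ 1 := by
    rintro rfl
    simp only [one_mul, mul_one] at hinv
    have := orderOf_dvd_of_pow_eq_one (show a ^ 2 = 1 by rw [pow_two]; exact mul_eq_one_iff_eq_inv.2 hinv)
    rw [ha] at this
    norm_num at this
  let good : ℕ → Prop := fun k => ∃ α : P, orderOf α = 2 ^ k ∧ v * α * v = α⁻¹ ∧
    α ^ (2 ^ (k - 1)) = u
  have hg2 : good 2 := ⟨a, by rw [ha]; rfl, hinv, by simpa using hau⟩
  have hbd : ∀ k, good k → k ≤ Nat.card P := fun k ⟨α, h, _⟩ => by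
    have h2 := _root_.orderOf_le_card (G := P) (x := α)
    rw [h] at h2
    exact (Nat.lt_pow_self (by norm_num : 1 < 2)).le.trans h2
  set k := Nat.findGreatest good (Nat.card P) with hk
  have hk2 : 2 ≤ k := Nat.le_findGreatest (hbd 2 hg2) hg2
  obtain ⟨α, hαo, hαv, hαu⟩ : good k := Nat.findGreatest_spec (hbd 2 hg2) hg2
  have hmax : ¬ good (k + 1) := fun h => by
    have := Nat.le_findGreatest (hbd _ h) h
    omega
  have hαv' : v * α * v = α ^ (-1 : ℤ) := by rw [hαv, zpow_neg, zpow_one]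
  set E := pairGroup v α (-1) hv hαv' with hE
  by_cases htop : E = ⊤
  · exact Or.inr ⟨α, k, hk2, hαo, hαv, hαu, fun p =>
      mem_pairGroup.1 (htop ▸ mem_top p : p ∈ E)⟩
  left
  obtain ⟨g, hgE, hgN⟩ := exists_step_up hP htop
  set N : ℤ := 2 ^ k with hN
  have hNeven : (4 : ℤ) ∣ N := by
    rw [hN, show k = 2 + (k - 2) by omega, pow_add]; exact Dvd.intro _ rfl
  have hzp : ∀ i j : ℤ, α ^ i = α ^ j ↔ N ∣ j - i := fun i j => by
    rw [zpow_eq_zpow_iff_modEq, hαo, Int.modEq_iff_dvd, hN]; norm_num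
  have huz : u = α ^ ((2 : ℤ) ^ (k - 1)) := by
    rw [← hαu, ← zpow_natCast]; norm_num
  have hinE : ∀ i : ℤ, α ^ i ∈ E := fun i => ⟨i, Or.inl rfl⟩
  have hvE : ∀ i : ℤ, v * α ^ i ∈ E := fun i => ⟨i, Or.inr rfl⟩
  have hsqv : ∀ i : ℤ, v * α ^ i * (v * α ^ i) = 1 := fun i => by
    rw [mul_assoc v, ← mul_assoc (α ^ i), zpow_conj_v hv hαv', ← mul_assoc, ← mul_assoc, hv,
      one_mul, ← zpow_add]
    simp
  have hinj : ∀ i : ℤ, orderOf (v * α ^ i) ≠ 2 ^ k := fun i h => by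
    have h1 : orderOf (v * α ^ i) ∣ 2 := orderOf_dvd_of_pow_eq_one (by rw [pow_two]; exact hsqv i)
    rw [h] at h1
    have := Nat.le_of_dvd two_pos h1
    have : 2 ^ 2 ≤ 2 ^ k := Nat.pow_le_pow_right two_pos hk2
    omega
  have hCE : ∀ p : P, p * v = v * p → p ∈ E := fun p hp => by
    rcases hCV p hp with rfl | rfl | rfl | rfl
    · exact one_mem _
    · exact huz ▸ hinE _
    · simpa using hvE 0
    · exact huz ▸ hvE _
  -- conjugates of v
  have hconjv : ∀ x : P, x ∈ normalizer (E : Set P) → ∃ m : ℤ, x * v * x⁻¹ = v * α ^ m := by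
    intro x hx
    obtain ⟨m, hm | hm⟩ := (mem_normalizer_iff.1 hx v).1 (by simpa using hvE 0)
    · exfalso
      have h2 : α ^ (2 * m) = 1 := by
        rw [two_mul, zpow_add, ← hm, show x * v * x⁻¹ * (x * v * x⁻¹) = x * (v * v) * x⁻¹ by group, hv]
        group
      obtain ⟨c, hc⟩ : N ∣ 2 * m := by
        have := (hzp 0 (2 * m)).1 (by rw [h2, zpow_zero])
        simpa using this
      have hm' : m = (2 : ℤ) ^ (k - 1) * c := by
        have e : (2 : ℤ) ^ k = 2 * 2 ^ (k - 1) := by rw [← pow_succ']; congr 1; omega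
        rw [hN, e] at hc; linarith [mul_assoc (2 : ℤ) (2 ^ (k - 1)) c]
      rw [hm', zpow_mul, ← huz] at hm
      rcases Int.even_or_odd c with ⟨d, hd⟩ | ⟨d, hd⟩
      · rw [hd, ← two_mul, zpow_mul, zpow_two, hu2, one_zpow, mul_inv_eq_one, mul_eq_left] at hm
        rw [hm] at hαv
        simp only [one_mul, mul_one] at hαv
        have : α ^ (2 : ℤ) = 1 := by rw [zpow_two]; exact mul_eq_one_iff_eq_inv.2 hαv
        have := (hzp 0 2).1 (by rw [this, zpow_zero])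
        have h2 := Int.le_of_dvd (by norm_num) this
        have h3 : (4 : ℤ) ≤ N := Int.le_of_dvd (by positivity) hNeven
        omega
      · rw [hd, zpow_add, zpow_mul, zpow_two, hu2, one_zpow, one_mul, zpow_one,
          mul_inv_eq_iff_eq_mul, ← hu] at hm
        exact hvu (mul_left_cancel hm)
    · exact ⟨m, hm⟩
  have hodd : ∀ x : P, x ∈ normalizer (E : Set P) → ∀ m : ℤ, x * v * x⁻¹ = v * α ^ m → Even m →
      x ∈ E := by
    intro x hx m hm hev
    obtain ⟨j, rfl⟩ := hev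
    have h1 : (α ^ j * x) * v * (α ^ j * x)⁻¹ = v := by
      calc (α ^ j * x) * v * (α ^ j * x)⁻¹ = α ^ j * (x * v * x⁻¹) * (α ^ j)⁻¹ := by group
        _ = α ^ j * v * (α ^ (j + j) * (α ^ j)⁻¹) := by rw [hm]; group
        _ = _ := by
          rw [zpow_conj_v hv hαv', mul_assoc, ← zpow_neg, ← zpow_add, ← zpow_add]
          simp
    have := mul_mem (inv_mem (hinE j)) (hCE _ (mul_inv_eq_iff_eq_mul.1 h1))
    rwa [inv_mul_cancel_left] at this
  obtain ⟨m₀, hm₀⟩ := hconjv g hgN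
  have hm₀odd : Odd m₀ := Int.not_even_iff_odd.1 fun h => hgE (hodd g hgN m₀ hm₀ h)
  -- change the generator
  obtain ⟨β, hβo, hβv, hβu, hβE, hgv⟩ : ∃ β : P, orderOf β = 2 ^ k ∧ v * β * v = β ^ (-1 : ℤ) ∧
      β ^ ((2 : ℤ) ^ (k - 1)) = u ∧ (∀ p, p ∈ E ↔ ∃ i : ℤ, p = β ^ i ∨ p = v * β ^ i) ∧
      g * v * g⁻¹ = v * β := by
    obtain ⟨n, hn⟩ := hm₀odd
    have hcop : Int.gcd m₀ (orderOf α) = 1 := by
      rw [hαo, Int.gcd_def, Int.natAbs_natCast]
      refine Nat.Coprime.pow_right _ (Nat.Coprime.symm ?_)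
      rw [Nat.coprime_two_left, Nat.odd_iff]
      omega
    have e2 : ∀ i : ℤ, v * α ^ i * v = α ^ (-i) := fun i => by
      rw [mul_assoc, zpow_conj_v hv hαv', ← mul_assoc, hv, one_mul, neg_one_mul]
    refine ⟨α ^ m₀, ?_, by rw [e2, ← zpow_mul]; congr 1; ring, ?_, fun p => ?_, hm₀⟩
    · rw [← hαo]
      refine Nat.dvd_antisymm (orderOf_dvd_of_mem_zpowers ⟨m₀, rfl⟩) (orderOf_dvd_of_mem_zpowers ?_)
      refine ⟨Int.gcdA m₀ (orderOf α), ?_⟩
      have hb := Int.gcd_eq_gcd_ab m₀ (orderOf α)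
      rw [hcop] at hb
      push_cast at hb
      show (α ^ m₀) ^ Int.gcdA m₀ (orderOf α) = α
      conv_rhs => rw [← zpow_one α, hb]
      rw [zpow_add, zpow_mul α (orderOf α : ℤ), zpow_natCast, pow_orderOf_eq_one, one_zpow, mul_one,
        zpow_mul]
    · rw [← zpow_mul, mul_comm m₀, zpow_mul, ← huz, hn, zpow_add, zpow_mul, zpow_two, hu2,
        one_zpow, one_mul, zpow_one]
    · constructor
      · rintro ⟨i, hi⟩
        obtain ⟨a', b', hab⟩ : ∃ a' b' : ℤ, a' * m₀ + b' * (orderOf α : ℤ) = 1 := by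
          refine ⟨Int.gcdA m₀ (orderOf α), Int.gcdB m₀ (orderOf α), ?_⟩
          have := Int.gcd_eq_gcd_ab m₀ (orderOf α)
          rw [hcop] at this
          push_cast at this
          linarith
        have hai : α ^ i = (α ^ m₀) ^ (a' * i) := by
          conv_lhs => rw [← one_mul i, ← hab]
          rw [add_mul, zpow_add, show b' * (orderOf α : ℤ) * i = (orderOf α : ℤ) * (b' * i) by ring,
            zpow_mul α (orderOf α : ℤ), zpow_natCast, pow_orderOf_eq_one, one_zpow, mul_one,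
            ← zpow_mul]
          congr 1; ring
        exact ⟨a' * i, by rw [← hai]; exact hi⟩
      · rintro ⟨i, hi⟩
        exact ⟨m₀ * i, by rwa [zpow_mul]⟩
  have hbp : ∀ i j : ℤ, β ^ i = β ^ j ↔ N ∣ j - i := fun i j => by
    rw [zpow_eq_zpow_iff_modEq, hβo, Int.modEq_iff_dvd, hN]; norm_num
  -- action of g
  obtain ⟨s, hs⟩ : ∃ s : ℤ, g * β * g⁻¹ = β ^ s := by
    obtain ⟨i, hi | hi⟩ := (hβE _).1 ((mem_normalizer_iff.1 hgN β).1
      ((hβE β).2 ⟨1, Or.inl (zpow_one β).symm⟩))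
    · exact ⟨i, hi⟩
    · exfalso
      have h1 : orderOf (g * β * g⁻¹) = 2 ^ k := by
        rw [← MulAut.conj_apply, MulEquiv.orderOf_eq, hβo]
      obtain ⟨m, e | e⟩ := (hβE (v * β ^ i)).2 ⟨i, Or.inr rfl⟩
      · rw [hi, e] at h1
        have hsq' : α ^ m * α ^ m = 1 := by
          rw [← e]
          rw [mul_assoc v, ← mul_assoc (β ^ i), zpow_conj_v hv hβv, ← mul_assoc, ← mul_assoc, hv,
            one_mul, ← zpow_add]
          simp
        have h2 : orderOf (α ^ m) ∣ 2 := orderOf_dvd_of_pow_eq_one (by rw [pow_two]; exact hsq')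
        rw [h1] at h2
        have := Nat.le_of_dvd two_pos h2
        have : 2 ^ 2 ≤ 2 ^ k := Nat.pow_le_pow_right two_pos hk2
        omega
      · rw [hi, e] at h1
        exact hinj m h1
  have hsodd : Odd s := by
    rw [← Int.not_even_iff_odd]
    rintro ⟨j, hj⟩
    have h1 : orderOf (g * β * g⁻¹) = 2 ^ k := by rw [← MulAut.conj_apply, MulEquiv.orderOf_eq, hβo]
    have h2 : (g * β * g⁻¹) ^ (2 ^ (k - 1)) = 1 := by
      rw [hs, hj, ← two_mul, ← zpow_natCast, ← zpow_mul]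
      push_cast
      rw [show 2 * j * (2 : ℤ) ^ (k - 1) = 2 ^ (k - 1) * 2 * j by ring, zpow_mul, zpow_mul, hβu,
        zpow_two, hu2, one_zpow]
    have h3 := Nat.le_of_dvd (by positivity) (h1 ▸ orderOf_dvd_of_pow_eq_one h2)
    have : 2 ^ (k - 1) < 2 ^ k := Nat.pow_lt_pow_right (by norm_num) (by omega)
    omega
  -- the square of g
  have hg2v : g * g * v * (g * g)⁻¹ = v * β ^ (1 + s) := by
    calc g * g * v * (g * g)⁻¹ = g * (g * v * g⁻¹) * g⁻¹ := by group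
      _ = g * (v * β) * g⁻¹ := by rw [hgv]
      _ = (g * v * g⁻¹) * (g * β * g⁻¹) := by group
      _ = _ := by rw [hgv, hs, zpow_add, zpow_one, mul_assoc]
  obtain ⟨e, he⟩ : ∃ e : ℤ, g * g = β ^ e := by
    have hE2 : g * g ∈ E := by
      obtain ⟨m, hm | hm⟩ := (hβE (v * β ^ (1 + s))).2 ⟨1 + s, Or.inr rfl⟩
      · exfalso
        obtain ⟨m', hm'⟩ := hconjv (g * g) (mul_mem hgN hgN)
        rw [hg2v, hm] at hm'
        have : v = α ^ (m - m') := by
          rw [zpow_sub, hm', mul_assoc, mul_inv_cancel, mul_one]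
        have hcomm : Commute v α := this ▸ ((Commute.refl α).zpow_left _)
        rw [hcomm.eq, mul_assoc, hv, mul_one] at hαv
        have : α ^ (2 : ℤ) = 1 := by rw [zpow_two]; exact mul_eq_one_iff_eq_inv.2 hαv
        have := (hzp 0 2).1 (by rw [this, zpow_zero])
        have h2 := Int.le_of_dvd (by norm_num) this
        have h3 : (4 : ℤ) ≤ N := Int.le_of_dvd (by positivity) hNeven
        omega
      · -- even exponent
        obtain ⟨j, hj⟩ : Even (1 + s) := by obtain ⟨c, hc⟩ := hsodd; exact ⟨c + 1, by omega⟩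
        have h1 : (β ^ j * (g * g)) * v * (β ^ j * (g * g))⁻¹ = v := by
          calc (β ^ j * (g * g)) * v * (β ^ j * (g * g))⁻¹
              = β ^ j * (g * g * v * (g * g)⁻¹) * (β ^ j)⁻¹ := by group
            _ = β ^ j * v * (β ^ (j + j) * (β ^ j)⁻¹) := by rw [hg2v, hj]; group
            _ = _ := by
              rw [zpow_conj_v hv hβv, mul_assoc, ← zpow_neg, ← zpow_add, ← zpow_add]
              simp
        have := mul_mem (inv_mem ((hβE _).2 ⟨j, Or.inl rfl⟩)) (hCE _ (mul_inv_eq_iff_eq_mul.1 h1))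
        rwa [inv_mul_cancel_left] at this
    obtain ⟨i, hi | hi⟩ := (hβE _).1 hE2
    · exact ⟨i, hi⟩
    · exfalso
      have h1 : g * (v * β ^ i) * g⁻¹ = v * β ^ i := by rw [← hi]; group
      rw [show g * (v * β ^ i) * g⁻¹ = (g * v * g⁻¹) * (g * β ^ i * g⁻¹) by group, hgv, ← conj_zpow,
        hs, mul_assoc, mul_left_cancel_iff, ← zpow_mul, ← zpow_one_add, hbp] at h1
      obtain ⟨c, hc⟩ := hsodd
      have h2 : (2 : ℤ) ∣ i - (1 + s * i) := (dvd_trans (by norm_num) hNeven).trans h1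
      rw [hc, show i - (1 + (2 * c + 1) * i) = 2 * (-c * i) + -1 by ring] at h2
      omega
  have hse : N ∣ s + 1 + 2 * e := by
    have h1 : g * g * v * (g * g)⁻¹ = v * β ^ (-2 * e) := by
      rw [he, zpow_conj_v hv hβv, mul_assoc, ← zpow_neg, ← zpow_add]
      congr 2; ring
    rw [hg2v, mul_left_cancel_iff, hbp] at h1
    have := dvd_neg.2 h1
    rwa [show -(-2 * e - (1 + s)) = s + 1 + 2 * e by ring] at this
  have hes : N ∣ e * (s - 1) := by
    have h1 : g * β ^ e * g⁻¹ = β ^ e := by rw [← he]; group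
    rw [← conj_zpow, hs, ← zpow_mul, hbp] at h1
    have := dvd_neg.2 h1
    rwa [show -(e - s * e) = e * (s - 1) by ring] at this
  have hM : N ∣ 2 * e * (1 + e) := by
    have := dvd_sub (dvd_mul_of_dvd_right hse e) hes
    rwa [show e * (s + 1 + 2 * e) - e * (s - 1) = 2 * e * (1 + e) by ring] at this
  set M : ℤ := 2 ^ (k - 1) with hMdef
  have hNM : N = 2 * M := by rw [hN, hMdef, ← pow_succ']; congr 1; omega
  have hM' : M ∣ e * (1 + e) := by
    rw [hNM, mul_assoc] at hM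
    exact (Int.mul_dvd_mul_iff_left (by norm_num)).1 hM
  have hcases : M ∣ e ∨ M ∣ 1 + e := by
    rcases Int.even_or_odd e with h | h
    · left
      have : IsCoprime M (1 + e) := by
        obtain ⟨c, hc⟩ := h
        exact IsCoprime.pow_left ⟨-c, 1, by rw [hc]; ring⟩
      exact this.dvd_of_dvd_mul_right hM'
    · right
      have : IsCoprime M e := by
        obtain ⟨c, hc⟩ := h
        exact IsCoprime.pow_left ⟨-c, 1, by rw [hc]; ring⟩
      exact this.dvd_of_dvd_mul_left hM'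
  -- normalise g
  obtain ⟨γ, hγv, hγ2⟩ : ∃ γ : P, γ * v * γ⁻¹ = v * β ∧ (γ * γ = β⁻¹ ∨ γ * γ = β⁻¹ * u) := by
    have key : ∀ d : ℤ, M ∣ 1 + d → β ^ d = β⁻¹ ∨ β ^ d = β⁻¹ * u := by
      rintro d ⟨c, hc⟩
      have ed : β ^ d = β⁻¹ * u ^ c := by
        rw [← hβu, ← zpow_mul, ← zpow_neg_one, ← zpow_add, ← hc]
        congr 1; ring
      rcases Int.even_or_odd c with ⟨j, hj⟩ | ⟨j, hj⟩
      · left; rw [ed, hj, ← two_mul, zpow_mul, zpow_two, hu2, one_zpow, mul_one]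
      · right; rw [ed, hj, zpow_add, zpow_mul, zpow_two, hu2, one_zpow, one_mul, zpow_one]
    rcases hcases with h | h
    · refine ⟨g * v, ?_, ?_⟩
      · calc g * v * v * (g * v)⁻¹ = g * v * (v * v⁻¹) * g⁻¹ := by group
          _ = _ := by rw [mul_inv_cancel, mul_one, hgv]
      · have e2 : g * v * (g * v) = β ^ (-(1 + e)) := by
          calc g * v * (g * v) = (g * v * g⁻¹) * (g * g) * v := by group
            _ = v * β ^ (1 + e) * v := by rw [hgv, he, zpow_one_add, mul_assoc v]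
            _ = _ := by rw [mul_assoc, zpow_conj_v hv hβv, ← mul_assoc, hv, one_mul]; congr 1; ring
        rw [e2]
        exact key _ (by rw [show (1 : ℤ) + -(1 + e) = -e by ring]; exact dvd_neg.2 h)
    · exact ⟨g, hgv, he ▸ key e h⟩
  have hγo : orderOf γ = 2 ^ (k + 1) ∧ γ ^ (2 ^ k) = u := by
    have h1 : γ ^ (2 ^ k) = u := by
      rw [show 2 ^ k = 2 * 2 ^ (k - 1) by rw [← pow_succ']; congr 1; omega, pow_mul, pow_two]
      have hev : Even (2 ^ (k - 1)) := by rw [Nat.even_pow]; exact ⟨even_two, by omega⟩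
      obtain ⟨j, hj⟩ := hev
      have hu' : u⁻¹ = u := inv_eq_of_mul_eq_one_right hu2
      have hb : (β⁻¹) ^ (2 ^ (k - 1)) = u := by
        have e' : β ^ (2 ^ (k - 1)) = u := by rw [← zpow_natCast]; push_cast; exact hβu
        rw [inv_pow, e', hu']
      rcases hγ2 with h | h <;> rw [h]
      · exact hb
      · rw [(show Commute β⁻¹ u from hu β⁻¹).mul_pow, hb, hj, ← two_mul, pow_mul, pow_two, hu2,
          one_pow, mul_one]
    refine ⟨orderOf_eq_prime_pow (by rw [h1]; exact hu1) ?_, h1⟩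
    rw [pow_succ, pow_mul, h1, pow_two, hu2]
  have hγinv : γ * γ = β⁻¹ → v * γ * v = γ⁻¹ := fun h => by
    have hb : β = γ⁻¹ * γ⁻¹ := by rw [← mul_inv_rev, h, inv_inv]
    have hvinv : v⁻¹ = v := inv_eq_of_mul_eq_one_right hv
    calc v * γ * v = v * (γ * v * γ⁻¹) * γ := by group
      _ = v * (v * β) * γ := by rw [hγv]
      _ = _ := by rw [← mul_assoc, hv, one_mul, hb]; group
  rcases hγ2 with h | h
  · exact absurd ⟨γ, hγo.1, hγinv h, by simpa using hγo.2⟩ hmax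
  -- semidihedral
  have hvγ : v * γ * v = γ⁻¹ * u := by
    have hb : β = u * (γ⁻¹ * γ⁻¹) := by
      rw [← mul_inv_rev, h, mul_inv_rev, inv_inv, inv_eq_of_mul_eq_one_right hu2, ← mul_assoc,
        hu2, one_mul]
    calc v * γ * v = v * (γ * v * γ⁻¹) * γ := by group
      _ = v * (v * β) * γ := by rw [hγv]
      _ = u * γ⁻¹ := by rw [← mul_assoc, hv, one_mul, hb]; group
      _ = _ := (hu _).symm
  set t : ℤ := -1 + 2 ^ k with ht
  have hvγ' : v * γ * v = γ ^ t := by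
    rw [hvγ, ht, zpow_add, zpow_neg_one, ← hγo.2, ← zpow_natCast]; push_cast; rfl
  set F := pairGroup v γ t hv hvγ' with hF
  have hucase : ∀ i : ℤ, u ^ i = 1 ∧ Even i ∨ u ^ i = u ∧ Odd i := fun i => by
    rcases Int.even_or_odd i with ⟨j, hj⟩ | ⟨j, hj⟩
    · exact Or.inl ⟨by rw [hj, ← two_mul, zpow_mul, zpow_two, hu2, one_zpow], j, hj⟩
    · exact Or.inr ⟨by rw [hj, zpow_add, zpow_mul, zpow_two, hu2, one_zpow, one_mul, zpow_one], j, hj⟩
  have huzγ : γ ^ ((2 : ℤ) ^ k) = u := by rw [← hγo.2, ← zpow_natCast]; push_cast; rfl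
  have hγneg : ∀ i : ℤ, γ ^ (t * i) = γ ^ (-i) * u ^ i := fun i => by
    rw [ht, add_mul, zpow_add, zpow_mul γ ((2 : ℤ) ^ k), huzγ, neg_one_mul]
  have hsqF : ∀ i : ℤ, v * γ ^ i * (v * γ ^ i) = u ^ i := fun i => by
    rw [mul_assoc v, ← mul_assoc (γ ^ i), zpow_conj_v hv hvγ', ← mul_assoc, ← mul_assoc, hv,
      one_mul, hγneg, mul_assoc, ← (show Commute (γ ^ i) (u ^ i) from
        Commute.zpow_right (hu _) i).eq, ← mul_assoc, ← zpow_add]
    simp
  have hCF : ∀ p : P, p * v = v * p → p ∈ F := fun p hp => by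
    rcases hCV p hp with rfl | rfl | rfl | rfl
    · exact one_mem _
    · exact ⟨_, Or.inl huzγ.symm⟩
    · exact ⟨0, Or.inr (by simp)⟩
    · exact ⟨_, Or.inr (by rw [huzγ])⟩
  have hcls : ∀ i : ℤ, Even i → ∃ n : ℤ, γ ^ n * v * (γ ^ n)⁻¹ = v * γ ^ i := by
    rintro _ ⟨j, rfl⟩
    have key : ∀ n : ℤ, γ ^ n * v * (γ ^ n)⁻¹ = v * (γ ^ (-(n + n)) * u ^ n) := fun n => by
      rw [zpow_conj_v hv hvγ', hγneg, mul_assoc, ← zpow_neg, mul_assoc (γ ^ (-n)),
        (show Commute (u ^ n) (γ ^ (-n)) from (Commute.zpow_left (hu _).symm n)).eq,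
        ← mul_assoc (γ ^ (-n)) (γ ^ (-n)), ← zpow_add, show -n + -n = -(n + n) by ring]
    rcases hucase j with ⟨h1, -⟩ | ⟨h1, hjo⟩
    · refine ⟨-j, ?_⟩
      rw [key, zpow_neg u, h1, inv_one, mul_one]
      congr 2; ring
    · have hMe : (2 : ℤ) ^ (k - 1) = 2 * 2 ^ (k - 2) := by rw [← pow_succ']; congr 1; omega
      refine ⟨-j + 2 ^ (k - 1), ?_⟩
      rw [key]
      congr 1
      have h2 : u ^ (-j + (2 : ℤ) ^ (k - 1)) = u := by
        rcases hucase (-j + (2 : ℤ) ^ (k - 1)) with ⟨-, hev⟩ | ⟨e', -⟩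
        · exfalso
          rw [hMe] at hev
          obtain ⟨c, hc⟩ := hev
          obtain ⟨d, hd⟩ := hjo
          omega
        · exact e'
      rw [h2, show -(-j + (2 : ℤ) ^ (k - 1) + (-j + 2 ^ (k - 1))) = (j + j) + -((2 : ℤ) ^ k) by
        rw [show (2 : ℤ) ^ k = 2 * 2 ^ (k - 1) by rw [← pow_succ']; congr 1; omega]; ring,
        zpow_add, zpow_neg, huzγ, inv_mul_cancel_right]
  have hinvF : ∀ p ∈ F, p * p = 1 → p = 1 ∨ p = u ∨ IsConj v p := by
    rintro p ⟨i, rfl | rfl⟩ hp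
    · rw [← zpow_add] at hp
      have hd : ((2 : ℤ) ^ (k + 1)) ∣ i + i := by
        have := orderOf_dvd_iff_zpow_eq_one.2 hp
        rw [hγo.1] at this
        exact_mod_cast this
      obtain ⟨c, hc⟩ := hd
      have hi : i = 2 ^ k * c := by
        rw [pow_succ'] at hc; linarith [mul_assoc (2 : ℤ) (2 ^ k) c]
      rw [hi, zpow_mul, huzγ]
      rcases hucase c with ⟨e', -⟩ | ⟨e', -⟩
      · exact Or.inl e'
      · exact Or.inr (Or.inl e')
    · rw [hsqF] at hp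
      rcases hucase i with ⟨-, hev⟩ | ⟨e', -⟩
      · obtain ⟨n, hn⟩ := hcls i hev
        exact Or.inr (Or.inr (isConj_iff.2 ⟨_, hn⟩))
      · exact absurd (e'.symm.trans hp) hu1
  by_cases hFtop : F = ⊤
  · exact fun p hp => hinvF p (hFtop ▸ mem_top p) hp
  exfalso
  obtain ⟨x, hxF, hxN⟩ := exists_step_up hP hFtop
  have hvF : v ∈ F := ⟨0, Or.inr (by simp)⟩
  have h1 := hinvF _ ((mem_normalizer_iff.1 hxN v).1 hvF) (by
    rw [show x * v * x⁻¹ * (x * v * x⁻¹) = x * (v * v) * x⁻¹ by group, hv]; group)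
  obtain ⟨i, hi | hi⟩ := (mem_normalizer_iff.1 hxN v).1 hvF
  · have h2 : γ ^ i * γ ^ i = 1 := by
      rw [← hi, show x * v * x⁻¹ * (x * v * x⁻¹) = x * (v * v) * x⁻¹ by group, hv]; group
    rw [← zpow_add] at h2
    have hd : ((2 : ℤ) ^ (k + 1)) ∣ i + i := by
      have := orderOf_dvd_iff_zpow_eq_one.2 h2
      rw [hγo.1] at this
      exact_mod_cast this
    obtain ⟨c, hc⟩ := hd
    have hi' : i = 2 ^ k * c := by
      rw [pow_succ'] at hc; linarith [mul_assoc (2 : ℤ) (2 ^ k) c]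
    rw [hi', zpow_mul, huzγ, mul_inv_eq_iff_eq_mul] at hi
    rcases hucase c with ⟨e', -⟩ | ⟨e', -⟩ <;> rw [e'] at hi
    · rw [one_mul, mul_eq_left] at hi
      exact hv1 hi
    · rw [← hu x] at hi
      exact hvu (mul_left_cancel hi)
  · have hev : Even i := by
      rcases hucase i with ⟨-, h⟩ | ⟨e', -⟩
      · exact h
      · exfalso
        apply hu1
        rw [← e', ← hsqF, ← hi, show x * v * x⁻¹ * (x * v * x⁻¹) = x * (v * v) * x⁻¹ by group, hv]
        group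
    obtain ⟨n, hn⟩ := hcls i hev
    have hx' : ((γ ^ n)⁻¹ * x) * v * ((γ ^ n)⁻¹ * x)⁻¹ = v := by
      calc ((γ ^ n)⁻¹ * x) * v * ((γ ^ n)⁻¹ * x)⁻¹ = (γ ^ n)⁻¹ * (x * v * x⁻¹) * γ ^ n := by group
        _ = _ := by rw [hi, ← hn]; group
    have := mul_mem (show γ ^ n ∈ F from ⟨n, Or.inl rfl⟩) (hCF _ (mul_inv_eq_iff_eq_mul.1 hx'))
    rw [mul_inv_cancel_left] at this
    exact hxF this

end Dihedral

namespace Setup

variable {G : Type u} [Group G] (S : Setup G)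

/-- The central involution. -/
def U : G := S.ψ u5

theorem U_sq : S.U * S.U = 1 := by
  rw [U, ← map_mul, (klein_even u5 (Or.inr (Or.inl rfl))).2, map_one]

theorem U_ne : S.U ≠ 1 := by
  rw [U, ← map_one S.ψ]
  exact fun h => absurd (S.ψ_inj h) (by decide)

theorem conj_U_of_even {b : Perm (Fin 5)} (hb : sign b = 1) (h2 : b * b = 1) (h1 : b ≠ 1) :
    IsConj S.U (S.ψ b) := by
  obtain ⟨σ, hσ⟩ := even_involution_conj b hb h2 h1
  exact isConj_iff.2 ⟨S.ψ σ, by rw [U, ← map_inv, ← map_mul, ← map_mul, hσ]⟩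

theorem conj_U_swap {x y : Fin 5} (hxy : x ≠ y) : IsConj S.U (S.ψ (swap x y)) := by
  have h34 : IsConj S.U (S.ψ (swap 3 4)) := by
    have hr : S.ψ (swap 3 4) * S.r = S.r * S.ψ (swap 3 4) := by
      rw [Setup.r, ← map_mul, ← map_mul, show swap (3 : Fin 5) 4 * cr = cr * swap 3 4 by decide +kernel]
    obtain ⟨k, b, hb, e⟩ := S.comm_r_iff.1 hr
    rw [← S.tψ_apply] at e
    have hsq : S.ψ (swap 3 4) * S.ψ (swap 3 4) = 1 := by
      rw [← map_mul, Equiv.swap_mul_self, map_one]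
    have hc : Commute (S.r ^ (k : ℕ)) (S.tψ b) := Commute.pow_left (S.tψ_comm_r hb).symm _
    rw [e, show S.r ^ (k : ℕ) * S.tψ b * (S.r ^ (k : ℕ) * S.tψ b) =
      S.r ^ (k : ℕ) * (S.tψ b * S.r ^ (k : ℕ)) * S.tψ b by group, ← hc.eq] at hsq
    have h2 := congrArg (MulAut.conj S.t) hsq
    have htt : ∀ c, MulAut.conj S.t (S.tψ c) = S.ψ c := fun c => by
      rw [S.conj_t, S.tψ_apply]
      calc S.t * (S.t * S.ψ c * S.t) * S.t = (S.t * S.t) * S.ψ c * (S.t * S.t) := by group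
        _ = _ := by rw [S.t_inv, one_mul, mul_one]
    have htr : MulAut.conj S.t S.r = S.z := by rw [S.conj_t, S.t_r]
    simp only [map_mul, map_pow, htr, htt, map_one] at h2
    rw [show S.z ^ (k : ℕ) * (S.z ^ (k : ℕ) * S.ψ b) * S.ψ b =
      S.z ^ ((k : ℕ) + k) * S.ψ (b * b) by rw [map_mul, pow_add]; group] at h2
    obtain ⟨hk, hb2⟩ := S.inj ⟨((k : ℕ) + k) % 3, Nat.mod_lt _ (by norm_num)⟩ _ (by
      show S.z ^ (((k : ℕ) + k) % 3) * S.ψ (b * b) = 1
      rw [← pow_eq_pow_mod _ S.z_pow_three]; exact h2)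
    have hk0 : k = 0 := (by decide : ∀ k : Fin 3, ((k : ℕ) + k) % 3 = 0 → k = 0) k
      (congrArg Fin.val hk)
    rw [hk0, Fin.val_zero, pow_zero, one_mul] at e
    have hb1 : b ≠ 1 := by
      rintro rfl
      rw [map_one, ← map_one S.ψ] at e
      exact absurd (S.ψ_inj e) (by decide)
    rw [e]
    exact (S.conj_U_of_even hb hb2 hb1).trans (isConj_iff.2 ⟨S.t, by
      rw [S.tψ_apply, inv_eq_of_mul_eq_one_right S.t_inv]⟩)
  obtain ⟨σ, hσ⟩ := transposition_conj x y hxy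
  exact h34.trans (isConj_iff.2 ⟨S.ψ σ, by rw [← map_inv, ← map_mul, ← map_mul, hσ]⟩)

variable [Finite G]

/-- Elements of order three in the centraliser of `U` fuse to `⟨z⟩` there. -/
theorem three_in_CU (M : Subgroup G) (hM : ∀ m ∈ M, m * S.U = S.U * m) (hz : S.z ∈ M) {q : G}
    (hq : q ∈ M) (hq3 : q ^ 3 = 1) : ∃ c ∈ M, c * q * c⁻¹ ∈ zpowers S.z := by
  classical
  have : Fact (Nat.Prime 3) := ⟨Nat.prime_three⟩
  let zM : M := ⟨S.z, hz⟩
  have hzM : orderOf zM = 3 := (Subgroup.orderOf_coe zM).symm.trans S.orderOf_z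
  obtain ⟨P, hP⟩ := (IsPGroup.of_card (G := zpowers zM) (n := 1)
    (by rw [Nat.card_zpowers, hzM, pow_one])).exists_le_sylow
  have hPeq : ∀ p ∈ (P : Subgroup M), (p : G) ∈ zpowers S.z := by
    intro p hp
    have hQ : IsPGroup 3 ((P : Subgroup M).map M.subtype) := P.2.map _
    have hc := S.three_group_comm hQ (mem_map_of_mem _ (hP (mem_zpowers zM))) (mem_map_of_mem _ hp)
    obtain ⟨k, b, hb, e⟩ := S.comm_z_iff.1 hc
    change (p : G) = _ at e
    have hkb : Commute (S.z ^ (k : ℕ)) (S.ψ b) := Commute.pow_left (S.ψ_comm hb).symm _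
    have hbu : b * u5 = u5 * b := by
      have h := hM _ p.2
      rw [e] at h
      exact S.zk_comm (klein_even u5 (Or.inr (Or.inl rfl))).1 _ _ h
    have hb2 := (klein_even b (cent_u5_even b hb hbu)).2
    obtain ⟨n, hn⟩ := P.2 ⟨p, hp⟩
    have hq3 : (p : G) ^ 3 ^ n = 1 := congrArg (fun x : (P : Subgroup M) => ((x : M) : G)) hn
    rw [e, hkb.mul_pow, ← map_pow] at hq3
    obtain ⟨m, hm⟩ := (show Odd (3 ^ n) from Odd.pow (by decide))
    rw [← pow_mul, hm] at hq3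
    have e2 : b ^ (2 * m + 1) = b := by rw [pow_succ, pow_mul, pow_two, hb2, one_pow, one_mul]
    rw [e2] at hq3
    obtain ⟨-, h2⟩ := S.inj ⟨((k : ℕ) * (2 * m + 1)) % 3, Nat.mod_lt _ (by norm_num)⟩ b (by
      show S.z ^ (((k : ℕ) * (2 * m + 1)) % 3) * S.ψ b = 1
      rw [← pow_eq_pow_mod _ S.z_pow_three]; exact hq3)
    rw [e, h2, map_one, mul_one]
    exact pow_mem (mem_zpowers _) _
  let qM : M := ⟨q, hq⟩
  have hqp : IsPGroup 3 (zpowers qM) := fun x => by
    refine ⟨1, ?_⟩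
    obtain ⟨i, hi⟩ := x.2
    apply Subtype.ext
    rw [SubgroupClass.coe_pow, ← hi, pow_one, ← zpow_natCast, ← zpow_mul, mul_comm, zpow_mul,
      zpow_natCast, show qM ^ 3 = 1 from Subtype.ext hq3, one_zpow]
    rfl
  obtain ⟨P', hP'⟩ := hqp.exists_le_sylow
  obtain ⟨c, hc⟩ := MulAction.exists_smul_eq M P' P
  have h1 : c * qM * c⁻¹ ∈ (P : Subgroup M) := by
    rw [← hc, Sylow.coe_subgroup_smul]
    exact ⟨qM, hP' (mem_zpowers qM), rfl⟩
  exact ⟨c, c.2, hPeq _ h1⟩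

theorem card_cent_of_mem_zpowers {x : G} (hx : x ∈ zpowers S.z) (hx1 : x ≠ 1) :
    Nat.card (centralizer ({x} : Set G)) = 180 := by
  classical
  obtain ⟨k, hk⟩ := (mem_zpowers_iff_mem_range_orderOf).1 hx |> Finset.mem_image.1
  rw [Finset.mem_range, S.orderOf_z] at hk
  obtain ⟨hk3, rfl⟩ := hk
  rcases (show k = 0 ∨ k = 1 ∨ k = 2 by omega) with rfl | rfl | rfl
  · simp at hx1
  · rw [pow_one]; exact S.card_cent_z
  · rw [← S.inv_z, centralizer_inv_eq]; exact S.card_cent_z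

theorem U_not_conj_t : ¬ IsConj S.U S.t := by
  intro h
  obtain ⟨g, hg⟩ := isConj_iff.1 h
  have hzr : Commute S.t (S.z * S.ψ cr) := by
    have e1 : S.t * S.z = S.r * S.t := by
      rw [show S.r = S.t * S.z * S.t from S.t_z.symm, mul_assoc _ S.t S.t, S.t_inv, mul_one]
    have e2 : S.t * S.r = S.z * S.t := by
      rw [← S.t_r, mul_assoc _ S.t S.t, S.t_inv, mul_one]
    show S.t * (S.z * S.r) = S.z * S.r * S.t
    rw [← mul_assoc, e1, mul_assoc S.r, e2, ← mul_assoc,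
      (show Commute S.r S.z from S.ψ_comm sign_cr).eq]
  set q := g⁻¹ * (S.z * S.ψ cr) * g with hq
  have hqU : q * S.U = S.U * q := by
    calc q * S.U = g⁻¹ * ((S.z * S.ψ cr) * (g * S.U * g⁻¹)) * g := by rw [hq]; group
      _ = g⁻¹ * ((g * S.U * g⁻¹) * (S.z * S.ψ cr)) * g := by rw [hg, hzr.eq]
      _ = _ := by rw [hq]; group
  have hq3 : q ^ 3 = 1 := by
    rw [hq, show g⁻¹ * (S.z * S.ψ cr) * g = g⁻¹ * (S.z * S.ψ cr) * g⁻¹⁻¹ by rw [inv_inv], conj_pow,
      (show Commute S.z (S.ψ cr) from (S.ψ_comm sign_cr).symm).mul_pow, S.z_pow_three,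
      show S.ψ cr ^ 3 = 1 from S.r_pow_three]
    simp
  obtain ⟨c, -, hc⟩ := S.three_in_CU (centralizer {S.U})
    (fun m hm => mem_centralizer_singleton_iff.1 hm)
    (mem_centralizer_singleton_iff.2 (S.ψ_comm (klein_even u5 (Or.inr (Or.inl rfl))).1).symm)
    (mem_centralizer_singleton_iff.2 hqU) hq3
  have he : c * q * c⁻¹ = (c * g⁻¹) * (S.z * S.ψ cr) * (c * g⁻¹)⁻¹ := by rw [hq]; group
  have hne : c * q * c⁻¹ ≠ 1 := by
    rw [he]
    intro h1
    rw [mul_inv_eq_one, mul_eq_left] at h1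
    have := S.card_y
    rw [h1] at this
    have htop : centralizer ({(1 : G)} : Set G) = ⊤ := eq_top_iff.2 fun g _ =>
      mem_centralizer_singleton_iff.2 (by simp)
    rw [htop, card_top] at this
    have h2 : Nat.card (centralizer ({S.z} : Set G)) ∣ Nat.card G := card_subgroup_dvd_card _
    rw [S.card_cent_z, this] at h2
    norm_num at h2
  have := S.card_cent_of_mem_zpowers hc hne
  rw [he, centralizer_conj_card, S.card_y] at this
  norm_num at this

/-- The centraliser of a point stabiliser is larger than `⟨z⟩`. -/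
theorem X_four_ne : ¬ ∀ x ∈ S.X 4, ∃ k : Fin 3, x = S.z ^ (k : ℕ) := by
  classical
  intro hX
  have : Fact (Nat.Prime 2) := ⟨Nat.prime_two⟩
  obtain ⟨hf8, hv8, hff, hvf⟩ := eight_gen
  have h8 : IsPGroup 2 (eightGroup.map S.ψ) := by
    refine IsPGroup.map (fun b => ⟨3, Subtype.ext ?_⟩) _
    exact (eight_facts _ b.2).1
  obtain ⟨P, hP⟩ := h8.exists_le_sylow
  have hmem : ∀ b, Eight b → S.ψ b ∈ (P : Subgroup G) := fun b hb => hP ⟨b, hb, rfl⟩
  set V := S.ψ v5 with hV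
  have hVmem := hmem v5 hv8
  have hUmem : S.U ∈ (P : Subgroup G) := by
    rw [U, ← hff, map_mul]; exact mul_mem (hmem _ hf8) (hmem _ hf8)
  -- centraliser of the four-group in P
  have hCVP : ∀ p ∈ (P : Subgroup G), p * S.U = S.U * p → p * V = V * p →
      ∃ b, InKlein b ∧ p = S.ψ b := by
    intro p hp h1 h2
    obtain ⟨b, hb, x, hx, rfl⟩ := S.CV_decomp (S.mem_CV.2 ⟨h1, h2⟩)
    obtain ⟨k, rfl⟩ := hX x hx
    refine ⟨b, hb, ?_⟩
    have hbP : S.ψ b ∈ (P : Subgroup G) := by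
      rcases hb with rfl | rfl | rfl | rfl
      · rw [map_one]; exact one_mem _
      · exact hUmem
      · exact hVmem
      · rw [map_mul]; exact mul_mem hUmem hVmem
    have hz : S.z ^ (k : ℕ) ∈ (P : Subgroup G) := by
      have := mul_mem (inv_mem hbP) hp; rwa [inv_mul_cancel_left] at this
    obtain ⟨n, hn⟩ := P.2 ⟨_, hz⟩
    have hn' : (S.z ^ (k : ℕ)) ^ 2 ^ n = 1 := congrArg Subtype.val hn
    rw [← pow_mul] at hn'
    have := orderOf_dvd_of_pow_eq_one hn'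
    rw [S.orderOf_z] at this
    have h3 : 3 ∣ (k : ℕ) := ((Nat.Coprime.pow_right n (by norm_num : Nat.Coprime 3 2))).dvd_of_dvd_mul_right this
    have hk : k = 0 := Fin.ext (by have := k.2; obtain ⟨c, hc⟩ := h3; simp only [Fin.val_zero]; omega)
    rw [hk]; simp
  -- the centre
  have hUc : ∀ p : (P : Subgroup G), p * ⟨S.U, hUmem⟩ = ⟨S.U, hUmem⟩ * p := by
    have : Nontrivial (P : Subgroup G) := ⟨⟨⟨S.U, hUmem⟩, 1, fun h => S.U_ne (congrArg Subtype.val h)⟩⟩
    have hnt := P.2.center_nontrivial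
    obtain ⟨⟨c, hc⟩, hc1⟩ := exists_ne (1 : center (P : Subgroup G))
    have hcc := fun p : (P : Subgroup G) => congrArg Subtype.val (mem_center_iff.1 hc p)
    obtain ⟨b, hb, hcb⟩ := hCVP c c.2 (hcc ⟨_, hUmem⟩).symm (hcc ⟨_, hVmem⟩).symm
    have hbf : b * f5 = f5 * b := by
      apply S.ψ_inj
      rw [map_mul, map_mul, ← hcb]
      exact (hcc ⟨_, hmem _ hf8⟩).symm
    rcases klein_cent_f5 b hb hbf with rfl | rfl
    · exact absurd (Subtype.ext (Subtype.ext (by rw [hcb, map_one]; rfl))) hc1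
    · intro p
      apply Subtype.ext
      show (p : G) * S.U = S.U * p
      rw [U, ← hcb]
      exact hcc p
  -- involutions fused to U
  have hfused : ∀ (g : G) (x : (P : Subgroup G)), g = x → x * x = 1 → x = 1 ∨ x = ⟨S.U, hUmem⟩ ∨
      IsConj (⟨V, hVmem⟩ : (P : Subgroup G)) x → g ≠ 1 → IsConj S.U g := by
    rintro g x rfl - (h | h | h) hne
    · exact absurd (congrArg Subtype.val h) hne
    · rw [h]
    · exact (S.conj_U_of_even (klein_even v5 (Or.inr (Or.inr (Or.inl rfl)))).1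
        (klein_even v5 (Or.inr (Or.inr (Or.inl rfl)))).2 (by decide)).trans
        ((MonoidHom.map_isConj (Subgroup.subtype _) h))
  -- a conjugate of t in P
  have ht2 : IsPGroup 2 (zpowers S.t) := fun x => by
    refine ⟨1, Subtype.ext ?_⟩
    obtain ⟨i, hi⟩ := x.2
    rw [SubgroupClass.coe_pow, ← hi, pow_one, ← zpow_natCast, ← zpow_mul, mul_comm, zpow_mul,
      zpow_natCast, pow_two, S.t_inv, one_zpow]
    rfl
  obtain ⟨P', hP'⟩ := ht2.exists_le_sylow
  obtain ⟨g₀, hg₀⟩ := MulAction.exists_smul_eq G P' P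
  set τ := g₀ * S.t * g₀⁻¹ with hτ
  have hτP : τ ∈ (P : Subgroup G) := by
    rw [← hg₀, Sylow.coe_subgroup_smul]
    exact ⟨S.t, hP' (mem_zpowers _), rfl⟩
  have hτU : ¬ IsConj S.U τ := fun h => S.U_not_conj_t (h.trans (isConj_iff.2 ⟨g₀, rfl⟩).symm)
  have ht1 : S.t ≠ 1 := fun h => by
    have e := S.t_z
    rw [h, one_mul, mul_one] at e
    have h2 := (S.normal_eq_iff (k := 1) (l := 0) (a := 1) (b := cr)).1 (by simp [← e])
    exact absurd h2.1 (by decide)
  have hτ1 : τ ≠ 1 := fun h => ht1 (by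
    rw [hτ, mul_inv_eq_one, mul_eq_left] at h; exact h)
  have hτ2 : τ * τ = 1 := by
    rw [hτ, show g₀ * S.t * g₀⁻¹ * (g₀ * S.t * g₀⁻¹) = g₀ * (S.t * S.t) * g₀⁻¹ by group, S.t_inv]
    group
  have hstruct := dihedral_or_fused P.2 ⟨S.U, hUmem⟩ ⟨V, hVmem⟩ hUc
    (Subtype.ext (by show V * V = 1; rw [hV, ← map_mul, (klein_even v5 (Or.inr (Or.inr (Or.inl rfl)))).2, map_one]))
    (fun h => absurd (S.ψ_inj (congrArg Subtype.val h)) (by decide))
    (fun p hp => by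
      obtain ⟨b, hb, e⟩ := hCVP p p.2 (congrArg Subtype.val (hUc p)) (congrArg Subtype.val hp)
      rcases hb with rfl | rfl | rfl | rfl
      · exact Or.inl (Subtype.ext (by rw [e, map_one]; rfl))
      · exact Or.inr (Or.inl (Subtype.ext e))
      · exact Or.inr (Or.inr (Or.inl (Subtype.ext e)))
      · refine Or.inr (Or.inr (Or.inr (Subtype.ext ?_)))
        show (p : G) = V * S.U
        rw [e, hV, U, ← map_mul, show u5 * v5 = v5 * u5 by decide +kernel])
    ⟨S.ψ f5, hmem _ hf8⟩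
    (by
      rw [← Subgroup.orderOf_coe, orderOf_injective S.ψ S.ψ_inj]
      exact orderOf_eq_prime_pow (p := 2) (n := 1) (by decide) (by decide))
    (Subtype.ext (by rw [SubgroupClass.coe_pow, pow_two, ← map_mul, hff]; rfl))
    (Subtype.ext (by
      show V * S.ψ f5 * V = (S.ψ f5)⁻¹
      rw [hV, ← map_mul, ← map_mul, hvf, map_inv]))
  rcases hstruct with hall | ⟨α, k, hk, hαo, hαv, hαu, hform⟩
  · exact hτU (hfused τ ⟨τ, hτP⟩ rfl (Subtype.ext hτ2) (hall _ (Subtype.ext hτ2)) hτ1)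
  have hα2 : ∀ i : ℤ, ∀ j : ℤ, i = 2 * j → IsConj (⟨V, hVmem⟩ : (P : Subgroup G)) (⟨V, hVmem⟩ * α ^ i) := by
    intro i j hij
    refine isConj_iff.2 ⟨α ^ (-j), ?_⟩
    have hv' : (⟨V, hVmem⟩ : (P : Subgroup G)) * ⟨V, hVmem⟩ = 1 := Subtype.ext (by
      show V * V = 1; rw [hV, ← map_mul, (klein_even v5 (Or.inr (Or.inr (Or.inl rfl)))).2, map_one])
    rw [zpow_conj_v hv' (show _ = α ^ (-1 : ℤ) by rw [hαv, zpow_neg, zpow_one]), mul_assoc,
      ← zpow_neg, ← zpow_add, hij]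
    congr 2; ring
  have hτodd : ∀ (p : (P : Subgroup G)), ¬ IsConj S.U (p : G) → p * p = 1 → (p : G) ≠ 1 →
      ∃ i : ℤ, Odd i ∧ p = ⟨V, hVmem⟩ * α ^ i := by
    intro p hp hp2 hp1
    obtain ⟨i, rfl | rfl⟩ := hform p
    · exfalso
      rw [← zpow_add] at hp2
      have hd : ((2 : ℤ) ^ k) ∣ i + i := by
        have := orderOf_dvd_iff_zpow_eq_one.2 hp2
        rw [hαo] at this
        exact_mod_cast this
      obtain ⟨c, hc⟩ := hd
      have hi : i = ((2 ^ (k - 1) : ℕ) : ℤ) * c := by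
        rw [show (2 : ℤ) ^ k = 2 * 2 ^ (k - 1) by rw [← pow_succ']; congr 1; omega] at hc
        push_cast
        linarith [mul_assoc (2 : ℤ) (2 ^ (k - 1)) c]
      rw [hi, zpow_mul, zpow_natCast, hαu] at hp hp1
      have hU2 : (⟨S.U, hUmem⟩ : (P : Subgroup G)) ^ (2 : ℤ) = 1 := by
        rw [zpow_two]; exact Subtype.ext S.U_sq
      rcases Int.even_or_odd c with ⟨j, hj⟩ | ⟨j, hj⟩
      · rw [hj, ← two_mul, zpow_mul, hU2, one_zpow] at hp1
        exact hp1 rfl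
      · rw [hj, zpow_add, zpow_mul, hU2, one_zpow, one_mul, zpow_one] at hp
        exact hp (IsConj.refl _)
    · refine ⟨i, Int.not_even_iff_odd.1 fun ⟨j, hj⟩ => hp ?_, rfl⟩
      exact hfused _ _ rfl hp2 (Or.inr (Or.inr (hα2 i j (by omega)))) hp1
  -- the subgroup of index two
  let Q₀ : Subgroup (P : Subgroup G) :=
    { carrier := {p | ∃ i : ℤ, Even i ∧ (p = α ^ i ∨ p = ⟨V, hVmem⟩ * α ^ i)}
      one_mem' := ⟨0, ⟨0, rfl⟩, Or.inl (by simp)⟩
      mul_mem' := by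
        have hvi := fun i => zpow_conj_v (α := α) (i := i)
          (show (⟨V, hVmem⟩ : (P : Subgroup G)) * ⟨V, hVmem⟩ = 1 from Subtype.ext (by
            show V * V = 1
            rw [hV, ← map_mul, (klein_even v5 (Or.inr (Or.inr (Or.inl rfl)))).2, map_one]))
          (show _ = α ^ (-1 : ℤ) by rw [hαv, zpow_neg, zpow_one])
        rintro _ _ ⟨i, hi, rfl | rfl⟩ ⟨j, hj, rfl | rfl⟩
        · exact ⟨i + j, hi.add hj, Or.inl (zpow_add _ _ _).symm⟩
        · exact ⟨-1 * i + j, (hi.mul_left (-1)).add hj, Or.inr (by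
            rw [← mul_assoc, hvi, zpow_add, mul_assoc])⟩
        · exact ⟨i + j, hi.add hj, Or.inr (by rw [mul_assoc, ← zpow_add])⟩
        · refine ⟨-1 * i + j, (hi.mul_left (-1)).add hj, Or.inl ?_⟩
          rw [mul_assoc, ← mul_assoc (α ^ i), hvi, ← mul_assoc, ← mul_assoc,
            show (⟨V, hVmem⟩ : (P : Subgroup G)) * ⟨V, hVmem⟩ = 1 from Subtype.ext (by
              show V * V = 1
              rw [hV, ← map_mul, (klein_even v5 (Or.inr (Or.inr (Or.inl rfl)))).2, map_one]),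
            one_mul, zpow_add]
      inv_mem' := by
        have hvv : (⟨V, hVmem⟩ : (P : Subgroup G)) * ⟨V, hVmem⟩ = 1 := Subtype.ext (by
          show V * V = 1; rw [hV, ← map_mul, (klein_even v5 (Or.inr (Or.inr (Or.inl rfl)))).2, map_one])
        rintro _ ⟨i, hi, rfl | rfl⟩
        · exact ⟨-i, hi.neg, Or.inl (zpow_neg _ _).symm⟩
        · refine ⟨i, hi, Or.inr (inv_eq_of_mul_eq_one_right ?_)⟩
          rw [mul_assoc, ← mul_assoc (α ^ i),
            zpow_conj_v hvv (show _ = α ^ (-1 : ℤ) by rw [hαv, zpow_neg, zpow_one]), ← mul_assoc,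
            ← mul_assoc, hvv, one_mul, ← zpow_add]
          simp }
  obtain ⟨i₀, hi₀, hτ₀⟩ := hτodd ⟨τ, hτP⟩ hτU (Subtype.ext hτ2) hτ1
  have hτQ : (⟨τ, hτP⟩ : (P : Subgroup G)) ∉ Q₀ := by
    rintro ⟨i, hi, h | h⟩
    · -- an even power
      have hv' : (⟨V, hVmem⟩ : (P : Subgroup G)) = α ^ (i - i₀) := by
        rw [zpow_sub, ← h, hτ₀, mul_assoc, mul_inv_cancel, mul_one]
      have hc : Commute (⟨V, hVmem⟩ : (P : Subgroup G)) α := hv' ▸ (Commute.refl α).zpow_left _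
      rw [hc.eq, mul_assoc, show (⟨V, hVmem⟩ : (P : Subgroup G)) * ⟨V, hVmem⟩ = 1 from Subtype.ext (by
        show V * V = 1
        rw [hV, ← map_mul, (klein_even v5 (Or.inr (Or.inr (Or.inl rfl)))).2, map_one]), mul_one] at hαv
      have h2 : α ^ 2 = 1 := by rw [pow_two]; exact mul_eq_one_iff_eq_inv.2 hαv
      have h3 := orderOf_dvd_of_pow_eq_one h2
      rw [hαo] at h3
      have h4 := Nat.le_of_dvd two_pos h3
      have : 2 ^ 2 ≤ 2 ^ k := Nat.pow_le_pow_right two_pos hk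
      omega
    · rw [hτ₀, mul_left_cancel_iff, zpow_eq_zpow_iff_modEq, hαo, Int.modEq_iff_dvd] at h
      have h2 : (2 : ℤ) ∣ i - i₀ := dvd_trans (by
        push_cast; exact dvd_pow_self 2 (by omega)) h
      obtain ⟨a, ha⟩ := hi₀
      obtain ⟨b, hb⟩ := hi
      obtain ⟨c, hc⟩ := h2
      omega
  have hidx : Q₀.index = 2 := by
    refine index_eq_two_iff.2 ⟨α, fun p => ?_⟩
    obtain ⟨i, hi⟩ := hform p
    have hvv : (⟨V, hVmem⟩ : (P : Subgroup G)) * ⟨V, hVmem⟩ = 1 := Subtype.ext (by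
      show V * V = 1; rw [hV, ← map_mul, (klein_even v5 (Or.inr (Or.inr (Or.inl rfl)))).2, map_one])
    have hnot : ∀ (i : ℤ), Odd i → ∀ q ∈ Q₀, q ≠ α ^ i ∧ q ≠ ⟨V, hVmem⟩ * α ^ i := by
      intro i hi q hq
      by_contra hcon
      have hv2 : (⟨V, hVmem⟩ : (P : Subgroup G)) ∈ Q₀ := ⟨0, ⟨0, rfl⟩, Or.inr (by simp)⟩
      have hα : α ∈ Q₀ := by
        obtain ⟨j, hj⟩ := hi
        have h2j : α ^ (-(2 * j)) ∈ Q₀ := ⟨-(2 * j), ⟨-j, by ring⟩, Or.inl rfl⟩
        have hαi : α ^ i ∈ Q₀ := by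
          rcases Classical.em (q = α ^ i) with h | h
          · exact h ▸ hq
          · have h' : q = ⟨V, hVmem⟩ * α ^ i := by
              by_contra h''
              exact hcon ⟨h, h''⟩
            have := mul_mem hv2 (h' ▸ hq)
            rwa [← mul_assoc, hvv, one_mul] at this
        have := mul_mem hαi h2j
        rwa [← zpow_add, hj, show 2 * j + 1 + -(2 * j) = 1 by ring, zpow_one] at this
      apply hτQ
      rw [hτ₀]
      exact mul_mem hv2 (zpow_mem hα _)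
    have key : ∀ j : ℤ, p = α ^ j ∨ p = ⟨V, hVmem⟩ * α ^ j →
        p * α = α ^ (j + 1) ∨ p * α = ⟨V, hVmem⟩ * α ^ (j + 1) := by
      rintro j (rfl | rfl)
      · exact Or.inl (zpow_add_one _ _).symm
      · exact Or.inr (by rw [mul_assoc, ← zpow_add_one])
    rcases Int.even_or_odd i with he | ho
    · refine Or.inr ⟨⟨i, he, hi⟩, fun h => ?_⟩
      obtain ⟨h1, h2⟩ := hnot (i + 1) he.add_one _ h
      rcases key i hi with e | e
      · exact h1 e
      · exact h2 e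
    · refine Or.inl ⟨?_, fun h => ?_⟩
      · exact ⟨i + 1, ho.add_one, key i hi⟩
      · obtain ⟨h1, h2⟩ := hnot i ho _ h
        rcases hi with e | e
        · exact h1 e
        · exact h2 e
  set Q := Q₀.map (P : Subgroup G).subtype with hQ
  have hQP : Q ≤ (P : Subgroup G) := map_subtype_le _
  have hQi : Q.relIndex (P : Subgroup G) = 2 := by
    rw [Subgroup.relIndex, hQ, Subgroup.subgroupOf,
      comap_map_eq_self_of_injective (Subgroup.subtype_injective _), hidx]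
  have hτQ' : τ ∉ Q := by
    rintro ⟨x, hx, hx'⟩
    exact hτQ (by rwa [show x = ⟨τ, hτP⟩ from Subtype.ext hx'] at hx)
  rcases Cfsg.Agent.H25.thompson_transfer P Q hQP hQi τ
      (orderOf_eq_prime (by rw [pow_two]; exact hτ2) hτ1) hτP hτQ' with ⟨M, hMn, hM2, hτM⟩ | ⟨g, hg⟩
  · -- index two
    have hmul : ∀ a b : G, a * b ∈ M ↔ (a ∈ M ↔ b ∈ M) := fun a b => mul_mem_iff_of_index_two hM2
    have hconj : ∀ a b : G, IsConj a b → (a ∈ M ↔ b ∈ M) := by
      intro a b h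
      obtain ⟨c, rfl⟩ := isConj_iff.1 h
      exact ⟨fun ha => hMn.conj_mem a ha c, fun hb => by simpa [mul_assoc] using hMn.conj_mem _ hb c⁻¹⟩
    have hsw : ∀ x y : Fin 5, x ≠ y → (S.ψ (swap x y) ∈ M ↔ S.U ∈ M) := fun x y h =>
      (hconj _ _ (S.conj_U_swap h)).symm
    have hUM : S.U ∈ M := by
      rw [U, u5, map_mul, hmul, hsw 0 1 (by decide), hsw 2 3 (by decide)]
    have hψM : ∀ b, S.ψ b ∈ M := by
      intro b
      induction b using Equiv.Perm.swap_induction_on with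
      | one => rw [map_one]; exact one_mem _
      | swap_mul f x y hxy ih => rw [map_mul]; exact mul_mem ((hsw x y hxy).2 hUM) ih
    have hzM : S.z ∈ M := by
      have h3 : S.z ^ 3 ∈ M := by rw [S.z_pow_three]; exact one_mem _
      rw [pow_succ, pow_two, hmul, hmul] at h3
      tauto
    set τ' := τ with hτ'
    have hτc : τ * S.U = S.U * τ := congrArg Subtype.val (hUc ⟨τ, hτP⟩)
    have hUz : S.z * S.U = S.U * S.z := (S.ψ_comm (klein_even u5 (Or.inr (Or.inl rfl))).1).symm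
    have hqM : τ * S.z * τ⁻¹ ∈ M ⊓ centralizer ({S.U} : Set G) := ⟨hMn.conj_mem _ hzM τ,
      mem_centralizer_singleton_iff.2 (by
        rw [mul_assoc, ← (show Commute τ⁻¹ S.U from (Commute.inv_left hτc)).eq.symm,
          mul_assoc τ, ← mul_assoc S.z, hUz, ← mul_assoc, ← mul_assoc, hτc]
        group)⟩
    obtain ⟨c, hc, hcq⟩ := S.three_in_CU (M ⊓ centralizer ({S.U} : Set G))
      (fun m hm => mem_centralizer_singleton_iff.1 hm.2)
      ⟨hzM, mem_centralizer_singleton_iff.2 hUz⟩ hqM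
      (by rw [conj_pow, S.z_pow_three]; group)
    have hcτ : (c * τ) * S.z * (c * τ)⁻¹ ∈ zpowers S.z := by
      rwa [show (c * τ) * S.z * (c * τ)⁻¹ = c * (τ * S.z * τ⁻¹) * c⁻¹ by group]
    obtain ⟨j, hj⟩ := (mem_zpowers_iff_mem_range_orderOf).1 hcτ |> Finset.mem_image.1
    rw [Finset.mem_range, S.orderOf_z] at hj
    have hor : (c * τ) * S.z * (c * τ)⁻¹ = S.z ∨ (c * τ) * S.z * (c * τ)⁻¹ = S.z⁻¹ := by
      rcases (show j = 0 ∨ j = 1 ∨ j = 2 by omega) with rfl | rfl | rfl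
      · have e := hj.2.symm
        rw [pow_zero, mul_inv_eq_one, mul_eq_left] at e
        exact absurd e S.z_ne
      · left; rw [← hj.2, pow_one]
      · right; rw [← hj.2, S.inv_z]
    obtain ⟨k', b, e⟩ := S.surj _ hor
    have hcτM : c * τ ∈ M := e ▸ mul_mem (pow_mem hzM _) (hψM b)
    exact hτM (((hmul c τ).1 hcτM).1 hc.1)
  · obtain ⟨x, ⟨i, hi, hx⟩, hx'⟩ := hg
    have hconj : IsConj τ (x : G) := isConj_iff.2 ⟨g, hx'.symm⟩
    have hx2 : x * x = 1 := Subtype.ext (by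
      show (x : G) * x = 1
      rw [show (x : G) = g * τ * g⁻¹ from hx',
        show g * τ * g⁻¹ * (g * τ * g⁻¹) = g * (τ * τ) * g⁻¹ by group, hτ2]
      group)
    have hx1 : (x : G) ≠ 1 := fun h => hτ1 (by
      rw [show (x : G) = g * τ * g⁻¹ from hx', mul_inv_eq_one, mul_eq_left] at h; exact h)
    obtain ⟨i', hi', e⟩ := hτodd x (fun h => hτU (h.trans hconj.symm)) hx2 hx1
    -- x is simultaneously even and odd
    apply hτQ
    have hxQ : x ∈ Q₀ := ⟨i, hi, hx⟩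
    have hv2 : (⟨V, hVmem⟩ : (P : Subgroup G)) ∈ Q₀ := ⟨0, ⟨0, rfl⟩, Or.inr (by simp)⟩
    obtain ⟨a, ha⟩ := hi₀
    obtain ⟨b, hb⟩ := hi'
    have h2 : α ^ (i₀ - i') ∈ Q₀ := ⟨i₀ - i', ⟨a - b, by omega⟩, Or.inl rfl⟩
    have := mul_mem hxQ h2
    rwa [e, mul_assoc, ← zpow_add, show i' + (i₀ - i') = i₀ by ring, ← hτ₀] at this

end Setup

end Cfsg.Agent.H70.AltEight
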