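import Mathlib

/-!
Three-local data of the alternating group of degree eight (S3329): an element `z` of order three whose
normaliser is `⟨z⟩ ⋊ S₅`, odd permutations inverting `z`, and an involution `t` exchanging `z` with
the image `r` of a three-cycle.
-/

set_option autoImplicit false

namespace Cfsg.Agent.H70.AltEight

open Equiv Equiv.Perm Subgroup

universe u

/-- The three-cycle `(0 1 2)` on five letters. -/
def cr : Perm (Fin 5) := swap 0 1 * swap 1 2

theorem sign_cr : sign cr = 1 := by decide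

theorem cr_cube : cr * cr * cr = 1 := by decide

/-- The data. -/
structure Setup (G : Type u) [Group G] where
  z : G
  ψ : Perm (Fin 5) →* G
  t : G
  z_cube : z * z * z = 1
  rel : ∀ b, ψ b * z * (ψ b)⁻¹ = z ^ ((sign b : ℤˣ) : ℤ)
  surj : ∀ g : G, g * z * g⁻¹ = z ∨ g * z * g⁻¹ = z⁻¹ → ∃ (k : Fin 3) (b : Perm (Fin 5)),
    g = z ^ (k : ℕ) * ψ b
  inj : ∀ (k : Fin 3) (b : Perm (Fin 5)), z ^ (k : ℕ) * ψ b = 1 → k = 0 ∧ b = 1
  t_inv : t * t = 1
  t_z : t * z * t = ψ cr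
  card_y : Nat.card (centralizer ({z * ψ cr} : Set G)) = 18
  no27 : ¬ 27 ∣ Nat.card G

variable {G : Type u} [Group G]

/-- Centralisers of conjugates are conjugate. -/
theorem centralizer_conj_card (g x : G) :
    Nat.card (centralizer ({g * x * g⁻¹} : Set G)) = Nat.card (centralizer ({x} : Set G)) := by
  refine (Nat.card_congr ((MulAut.conj g).toEquiv.subtypeEquiv fun a => ?_)).symm
  simp only [mem_centralizer_singleton_iff, MulEquiv.toEquiv_eq_coe, EquivLike.coe_coe,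
    MulAut.conj_apply]
  constructor
  · intro h
    calc g * a * g⁻¹ * (g * x * g⁻¹) = g * (a * x) * g⁻¹ := by group
      _ = g * (x * a) * g⁻¹ := by rw [h]
      _ = _ := by group
  · intro h
    calc a * x = g⁻¹ * (g * a * g⁻¹ * (g * x * g⁻¹)) * g := by group
      _ = g⁻¹ * (g * x * g⁻¹ * (g * a * g⁻¹)) * g := by rw [h]
      _ = _ := by group

theorem centralizer_inv_eq (x : G) : centralizer ({x⁻¹} : Set G) = centralizer ({x} : Set G) := by
  ext a
  simp only [mem_centralizer_singleton_iff]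
  exact Commute.inv_right_iff

namespace Setup

variable (S : Setup G)

/-- The element `r`. -/
def r : G := S.ψ cr

theorem z_pow_three : S.z ^ 3 = 1 := by rw [pow_succ, pow_two]; exact S.z_cube

theorem z_ne : S.z ≠ 1 := fun h => by
  have := (S.inj 1 1 (by simp [h])).1
  exact absurd this (by decide)

theorem orderOf_z : orderOf S.z = 3 := orderOf_eq_prime S.z_pow_three S.z_ne

theorem inv_z : S.z⁻¹ = S.z ^ 2 := by
  rw [inv_eq_iff_mul_eq_one, ← pow_succ']; exact S.z_pow_three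

theorem z_ne_inv : S.z ≠ S.z⁻¹ := fun h => by
  refine S.z_ne ?_
  have : S.z * S.z = 1 := mul_eq_one_iff_eq_inv.2 h
  have h2 := S.z_cube
  rwa [this, one_mul] at h2

theorem ψ_inj : Function.Injective S.ψ := by
  rw [← MonoidHom.ker_eq_bot_iff, eq_bot_iff]
  intro b hb
  exact (S.inj 0 b (by simpa using hb)).2

theorem normal_eq_iff {k l : Fin 3} {a b : Perm (Fin 5)} :
    S.z ^ (k : ℕ) * S.ψ a = S.z ^ (l : ℕ) * S.ψ b ↔ k = l ∧ a = b := by
  refine ⟨fun h => ?_, fun h => by rw [h.1, h.2]⟩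
  have e : S.z ^ ((k - l : Fin 3) : ℕ) * S.ψ (a * b⁻¹) = 1 := by
    have hk : S.z ^ ((k - l : Fin 3) : ℕ) = (S.z ^ (l : ℕ))⁻¹ * S.z ^ (k : ℕ) := by
      refine (eq_inv_mul_iff_mul_eq.2 ?_)
      rw [← pow_add, pow_eq_pow_iff_modEq, S.orderOf_z]
      have : ((l + (k - l) : Fin 3) : ℕ) = k := by rw [add_sub_cancel]
      rw [Fin.val_add] at this
      exact this.trans (Nat.mod_eq_of_lt k.2).symm
    rw [hk, map_mul, map_inv, ← mul_assoc, mul_assoc _ _ (S.ψ a), h]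
    group
  obtain ⟨h1, h2⟩ := S.inj _ _ e
  exact ⟨sub_eq_zero.1 h1, mul_inv_eq_one.1 h2⟩

theorem ψ_comm {b : Perm (Fin 5)} (hb : sign b = 1) : S.ψ b * S.z = S.z * S.ψ b := by
  have h := S.rel b
  rw [hb, Units.val_one, zpow_one, mul_inv_eq_iff_eq_mul] at h
  exact h

theorem ψ_inv {b : Perm (Fin 5)} (hb : sign b = -1) : S.ψ b * S.z * (S.ψ b)⁻¹ = S.z⁻¹ := by
  rw [S.rel b, hb, Units.val_neg, Units.val_one, zpow_neg, zpow_one]

theorem conj_zk (k : ℕ) (b : Perm (Fin 5)) :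
    (S.z ^ k * S.ψ b) * S.z * (S.z ^ k * S.ψ b)⁻¹ = S.z ^ ((sign b : ℤˣ) : ℤ) := by
  calc (S.z ^ k * S.ψ b) * S.z * (S.z ^ k * S.ψ b)⁻¹
      = S.z ^ k * (S.ψ b * S.z * (S.ψ b)⁻¹) * (S.z ^ k)⁻¹ := by group
    _ = _ := by rw [S.rel b, ((Commute.refl S.z).pow_left k).zpow_right _ |>.eq]; group

/-- The centraliser of `z`. -/
theorem comm_z_iff {g : G} : g * S.z = S.z * g ↔
    ∃ (k : Fin 3) (b : Perm (Fin 5)), sign b = 1 ∧ g = S.z ^ (k : ℕ) * S.ψ b := by
  constructor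
  · intro h
    have h1 : g * S.z * g⁻¹ = S.z := mul_inv_eq_iff_eq_mul.2 h
    obtain ⟨k, b, rfl⟩ := S.surj g (Or.inl h1)
    rw [S.conj_zk] at h1
    refine ⟨k, b, (Int.units_eq_one_or _).resolve_right fun hb => ?_, rfl⟩
    rw [hb, Units.val_neg, Units.val_one, zpow_neg, zpow_one] at h1
    exact S.z_ne_inv h1.symm
  · rintro ⟨k, b, hb, rfl⟩
    rw [mul_assoc, S.ψ_comm hb, ← mul_assoc, ← pow_succ, pow_succ', mul_assoc]

theorem inverts_iff {g : G} : g * S.z * g⁻¹ = S.z⁻¹ ↔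
    ∃ (k : Fin 3) (b : Perm (Fin 5)), sign b = -1 ∧ g = S.z ^ (k : ℕ) * S.ψ b := by
  constructor
  · intro h
    obtain ⟨k, b, rfl⟩ := S.surj g (Or.inr h)
    rw [S.conj_zk] at h
    refine ⟨k, b, (Int.units_eq_one_or _).resolve_left fun hb => ?_, rfl⟩
    rw [hb, Units.val_one, zpow_one] at h
    exact S.z_ne_inv h
  · rintro ⟨k, b, hb, rfl⟩
    rw [S.conj_zk, hb, Units.val_neg, Units.val_one, zpow_neg, zpow_one]

theorem card_cent_z [Finite G] : Nat.card (centralizer ({S.z} : Set G)) = 180 := by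
  have hmem : ∀ p : Fin 3 × {b : Perm (Fin 5) // sign b = 1},
      S.z ^ (p.1 : ℕ) * S.ψ p.2.1 ∈ centralizer ({S.z} : Set G) := fun p =>
    mem_centralizer_singleton_iff.2 ((S.comm_z_iff).2 ⟨p.1, p.2.1, p.2.2, rfl⟩)
  let f : Fin 3 × {b : Perm (Fin 5) // sign b = 1} → centralizer ({S.z} : Set G) :=
    fun p => ⟨_, hmem p⟩
  have hf : Function.Bijective f := by
    refine ⟨fun p q h => ?_, fun g => ?_⟩
    · obtain ⟨h1, h2⟩ := S.normal_eq_iff.1 (congrArg Subtype.val h)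
      exact Prod.ext h1 (Subtype.ext h2)
    · obtain ⟨k, b, hb, e⟩ := S.comm_z_iff.1 (mem_centralizer_singleton_iff.1 g.2)
      exact ⟨(k, ⟨b, hb⟩), Subtype.ext e.symm⟩
  rw [← Nat.card_eq_of_bijective f hf, Nat.card_prod, Nat.card_fin, Nat.card_eq_fintype_card]
  decide +kernel

theorem conj_t (x : G) : MulAut.conj S.t x = S.t * x * S.t := by
  rw [MulAut.conj_apply, inv_eq_of_mul_eq_one_right S.t_inv]

theorem t_r : S.t * S.r * S.t = S.z := by
  rw [r, ← S.t_z]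
  calc S.t * (S.t * S.z * S.t) * S.t = (S.t * S.t) * S.z * (S.t * S.t) := by group
    _ = _ := by rw [S.t_inv, one_mul, mul_one]

theorem card_cent_r [Finite G] : Nat.card (centralizer ({S.r} : Set G)) = 180 := by
  rw [r, ← S.t_z, show S.t * S.z * S.t = S.t * S.z * S.t⁻¹ by
    rw [inv_eq_of_mul_eq_one_right S.t_inv], centralizer_conj_card, S.card_cent_z]

/-- The centraliser of `r`. -/
theorem comm_r_iff {g : G} : g * S.r = S.r * g ↔
    ∃ (k : Fin 3) (b : Perm (Fin 5)), sign b = 1 ∧ g = S.r ^ (k : ℕ) * (S.t * S.ψ b * S.t) := by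
  have key : g * S.r = S.r * g ↔ (S.t * g * S.t) * S.z = S.z * (S.t * g * S.t) := by
    rw [← S.t_r, ← S.conj_t, ← S.conj_t]
    constructor
    · intro h; rw [← map_mul, ← map_mul, h]
    · intro h; rw [← map_mul, ← map_mul] at h; exact (MulAut.conj S.t).injective h
  rw [key, S.comm_z_iff]
  have e : ∀ (k : ℕ) (b : Perm (Fin 5)),
      MulAut.conj S.t (S.z ^ k * S.ψ b) = S.r ^ k * (S.t * S.ψ b * S.t) := fun k b => by
    rw [map_mul, map_pow, S.conj_t, S.conj_t, S.t_z, r]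
  have tt : ∀ x : G, MulAut.conj S.t (S.t * x * S.t) = x := fun x => by
    rw [S.conj_t]
    calc S.t * (S.t * x * S.t) * S.t = (S.t * S.t) * x * (S.t * S.t) := by group
      _ = _ := by rw [S.t_inv, one_mul, mul_one]
  constructor
  · rintro ⟨k, b, hb, h⟩
    exact ⟨k, b, hb, by rw [← tt g, h, e]⟩
  · rintro ⟨k, b, hb, h⟩
    refine ⟨k, b, hb, (MulAut.conj S.t).injective ?_⟩
    rw [tt, e, h]

end Setup

end Cfsg.Agent.H70.AltEight
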